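import Cfsg.Prelude.Def_Solvable
import Cfsg.Agent.Lib.Coprime.Basic
import Mathlib.GroupTheory.GroupAction.Quotient
import Mathlib.GroupTheory.FixedPointFree

/-!
# Frobenius complements: elementary facts

For `hH : Cfsg.IsFrobeniusComplement H`: self-normalisation, disjointness of conjugates, the order
of the Frobenius kernel, the congruence for the index, and the even case. For a semidirect product
`G = K H`: the equivalence with fixed-point-free action.
-/

namespace Cfsg.Agent.Frobenius

open scoped Pointwise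
open Subgroup

variable {G : Type*} [Group G]

theorem mem_of_inter {H : Subgroup G} (hH : IsFrobeniusComplement H) {g x : G} (hx : x ∈ H)
    (hx1 : x ≠ 1) (hxg : g⁻¹ * x * g ∈ H) : g ∈ H := by
  by_contra hg
  exact hx1 ((Subgroup.eq_bot_iff_forall _).1 (hH.2.2 g hg) x
    ⟨hx, Coprime.mem_conj_smul_iff.2 hxg⟩)

theorem mem_of_commute {H : Subgroup G} (hH : IsFrobeniusComplement H) {g x : G} (hx : x ∈ H)
    (hx1 : x ≠ 1) (hc : Commute g x) : g ∈ H := by
  refine mem_of_inter hH hx hx1 ?_
  rwa [mul_assoc, ← hc.eq, inv_mul_cancel_left]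

theorem isFrobeniusComplement_conj {H : Subgroup G} (hH : IsFrobeniusComplement H) (a : G) :
    IsFrobeniusComplement (MulAut.conj a • H) := by
  refine ⟨fun h => hH.1 ((Subgroup.eq_bot_iff_forall _).2 fun x hx => ?_), fun h => hH.2.1 ?_,
    fun g hg => (Subgroup.eq_bot_iff_forall _).2 fun x hx => ?_⟩
  · have : a * x * a⁻¹ ∈ MulAut.conj a • H := Coprime.mem_conj_smul_iff.2 (by simpa [mul_assoc])
    rw [h, mem_bot, mul_inv_eq_one, mul_eq_left] at this
    exact this
  · refine top_le_iff.1 fun x _ => ?_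
    have : a * x * a⁻¹ ∈ MulAut.conj a • H := h ▸ mem_top _
    rw [Coprime.mem_conj_smul_iff] at this
    simpa [mul_assoc] using this
  · obtain ⟨h1, h2⟩ := mem_inf.1 hx
    rw [Coprime.conj_smul_smul, Coprime.mem_conj_smul_iff] at h2
    rw [Coprime.mem_conj_smul_iff] at h1 hg
    by_contra hx1
    refine hg (mem_of_inter hH h1 (fun h => hx1 ?_) (by convert h2 using 1; group))
    simpa [mul_eq_one_iff_eq_inv, mul_assoc] using congrArg (fun y => a * y * a⁻¹) h

theorem mem_of_normalizer {H : Subgroup G} (hH : IsFrobeniusComplement H) {g : G}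
    (hg : g ∈ normalizer (H : Set G)) : g ∈ H := by
  obtain ⟨⟨x, hx⟩, hx1⟩ := ne_bot_iff_exists_ne_one.1 hH.1
  exact mem_of_inter hH hx (fun h => hx1 (Subtype.ext h))
    ((mem_normalizer_iff''.1 hg x).1 hx)

theorem mem_kernel_iff {H : Subgroup G} {x : G} (hx : x ≠ 1) :
    x ∈ frobeniusKernel H ↔ ∀ g : G, g⁻¹ * x * g ∉ H := by
  simp only [frobeniusKernel, Set.mem_setOf_eq, hx, false_or, Coprime.mem_conj_smul_iff]

theorem one_mem_kernel {H : Subgroup G} : (1 : G) ∈ frobeniusKernel H := Or.inl rfl

theorem inv_mem_kernel {H : Subgroup G} {x : G} (hx : x ∈ frobeniusKernel H) :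
    x⁻¹ ∈ frobeniusKernel H := by
  rcases hx with rfl | h
  · exact Or.inl inv_one
  · exact Or.inr fun g hg => h g (inv_mem_iff.1 hg)

theorem conj_mem_kernel {H : Subgroup G} {x : G} (hx : x ∈ frobeniusKernel H) (a : G) :
    a * x * a⁻¹ ∈ frobeniusKernel H := by
  rcases eq_or_ne x 1 with rfl | hx1
  · simpa using one_mem_kernel
  rw [mem_kernel_iff hx1] at hx
  rw [mem_kernel_iff (by simpa using hx1)]
  intro g hg
  apply hx (a⁻¹ * g)
  convert hg using 1
  group

section Finite

variable [Finite G]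

theorem card_kernel {H : Subgroup G} (hH : IsFrobeniusComplement H) :
    Nat.card (frobeniusKernel H) = H.index := by
  classical
  let f : (G ⧸ H) × {h : H // h ≠ 1} → {x : G // ¬ x ∈ frobeniusKernel H} := fun p =>
    ⟨p.1.out * (p.2.1 : G) * p.1.out⁻¹, fun hmem => by
      rcases hmem with h | h
      · exact p.2.2 (Subtype.ext (by simpa using h))
      · exact h p.1.out (Coprime.mem_conj_smul_iff.2 (by simp [mul_assoc]))⟩
  have hf : Function.Bijective f := by
    constructor
    · rintro ⟨q, ⟨h, hh⟩, hh1⟩ ⟨q', ⟨h', hh'⟩, hh1'⟩ he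
      have he' : q.out * h * q.out⁻¹ = q'.out * h' * q'.out⁻¹ := congrArg Subtype.val he
      have hm : q.out⁻¹ * q'.out ∈ H := by
        refine mem_of_inter hH hh (fun e => hh1 (Subtype.ext e)) ?_
        convert hh' using 1
        have : h = q.out⁻¹ * (q'.out * h' * q'.out⁻¹) * q.out := by rw [← he']; group
        rw [this]
        group
      have hq : q = q' := by
        rw [← QuotientGroup.out_eq' q, ← QuotientGroup.out_eq' q']
        exact QuotientGroup.eq.2 hm
      subst hq
      simp only [mul_left_inj, mul_right_inj] at he'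
      subst he'
      rfl
    · rintro ⟨x, hx⟩
      simp only [frobeniusKernel, Set.mem_setOf_eq, not_or, not_forall, not_not] at hx
      obtain ⟨hx1, g, hg⟩ := hx
      rw [Coprime.mem_conj_smul_iff] at hg
      obtain ⟨k, hk⟩ := QuotientGroup.mk_out_eq_mul H g
      refine ⟨((g : G ⧸ H), ⟨⟨(k : G)⁻¹ * (g⁻¹ * x * g) * k, mul_mem (mul_mem (inv_mem k.2) hg) k.2⟩,
        fun e => hx1 ?_⟩), Subtype.ext ?_⟩
      · have := congrArg Subtype.val e
        simp only [Subgroup.coe_one] at this
        simpa [mul_eq_one_iff_eq_inv, mul_assoc] using congrArg (fun y => g * (k : G) * y * (k : G)⁻¹ * g⁻¹) this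
      · show (g : G ⧸ H).out * _ * (g : G ⧸ H).out⁻¹ = x
        rw [hk]
        group
  have h1 := Nat.card_congr (Equiv.ofBijective f hf)
  have h2 : Nat.card {h : H // h ≠ 1} + 1 = Nat.card H := by
    rw [Nat.card_congr (Equiv.sumCompl (fun h : H => h = 1)).symm, Nat.card_sum,
      Nat.card_unique (α := {h : H // h = 1}), add_comm]
  have h3 := Nat.card_congr (Equiv.sumCompl (fun x : G => x ∈ frobeniusKernel H))
  rw [Nat.card_sum, ← h1, Nat.card_prod, ← card_mul_index H, ← h2, add_mul, one_mul,
    ← Subgroup.index, mul_comm] at h3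
  have : Nat.card {x : G // x ∈ frobeniusKernel H} = Nat.card (frobeniusKernel H) := rfl
  omega

theorem index_mod_card {H : Subgroup G} (hH : IsFrobeniusComplement H) :
    H.index % Nat.card H = 1 % Nat.card H := by
  classical
  let S : SubMulAction H (G ⧸ H) :=
    { carrier := {q | q ≠ ((1 : G) : G ⧸ H)}
      smul_mem' := fun h q hq e => hq (by
        have e' := congrArg (fun r => (h⁻¹ : H) • r) e
        simp only [inv_smul_smul] at e'
        rw [e']
        exact QuotientGroup.eq.2 (by simp)) }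
  have hfree : ∀ q : S, MulAction.stabilizer H q = ⊥ := by
    rintro ⟨q, hq⟩
    induction q using QuotientGroup.induction_on with | _ g => ?_
    refine (Subgroup.eq_bot_iff_forall _).2 fun h hh => ?_
    have e : (((h : G) * g : G) : G ⧸ H) = (g : G ⧸ H) := congrArg Subtype.val hh
    by_contra h1
    have h2 : g⁻¹ * (h : G) * g ∈ H := by
      have := H.inv_mem (QuotientGroup.eq.1 e)
      simpa [mul_assoc] using this
    have h3 := mem_of_inter hH h.2 (fun e' => h1 (Subtype.ext e')) h2
    exact hq (QuotientGroup.eq.2 (by simpa using h3))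
  have h1 := Nat.card_congr (MulAction.selfEquivOrbitsQuotientProd hfree)
  have h2 : Nat.card S + 1 = H.index := by
    rw [Subgroup.index, Nat.card_congr (Equiv.sumCompl (fun q : G ⧸ H => q = ((1 : G) : G ⧸ H))).symm,
      Nat.card_sum, Nat.card_unique (α := {q : G ⧸ H // q = ((1 : G) : G ⧸ H)}), add_comm]
    rfl
  rw [← h2, h1, Nat.card_prod, Nat.mul_add_mod_self_right]

theorem even_complement_kernel {H : Subgroup G} (hH : IsFrobeniusComplement H) {t : G}
    (ht : t ∈ H) (ht1 : t ≠ 1) (ht2 : t * t = 1) :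
    (∀ x ∈ frobeniusKernel H, t * x * t = x⁻¹) ∧
      (∀ x ∈ frobeniusKernel H, ∀ y ∈ frobeniusKernel H, Commute x y) := by
  classical
  have htinv : t⁻¹ = t := inv_eq_of_mul_eq_one_left ht2
  -- `t` times another conjugate of `t` lies in the kernel
  have hconj : ∀ g : G, (g * t * g⁻¹) * (g * t * g⁻¹) = 1 := fun g => by
    rw [show (g * t * g⁻¹) * (g * t * g⁻¹) = g * (t * t) * g⁻¹ by group, ht2]; group
  have hker : ∀ u : G, u * u = 1 → (u ∈ H → u = t) → t * u ∈ frobeniusKernel H := by
    intro u hu2 hu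
    by_cases hx : t * u = 1
    · exact Or.inl hx
    rw [mem_kernel_iff hx]
    intro a ha
    have huinv : u⁻¹ = u := inv_eq_of_mul_eq_one_left hu2
    have hH' := isFrobeniusComplement_conj hH a
    have hmem : t * u ∈ MulAut.conj a • H := Coprime.mem_conj_smul_iff.2 ha
    have hta : t ∈ MulAut.conj a • H := by
      refine mem_of_inter hH' hmem hx ?_
      have := inv_mem hmem
      convert this using 1
      rw [htinv, mul_inv_rev, huinv, htinv, ← mul_assoc, ht2, one_mul]
    have hua : u ∈ MulAut.conj a • H := by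
      have := mul_mem (inv_mem hta) hmem
      simpa using this
    rw [Coprime.mem_conj_smul_iff] at hta
    have haH : a ∈ H := mem_of_inter hH ht ht1 hta
    rw [Coprime.mem_conj_smul_iff] at hua
    have := hu (by simpa [mul_assoc] using mul_mem (mul_mem haH hua) (inv_mem haH))
    exact hx (by rw [this, ht2])
  -- one conjugate of `t` for each coset of `H`
  let rep : G ⧸ H → G := fun q => if q = ((1 : G) : G ⧸ H) then 1 else q.out
  have hrep : ∀ q, ((rep q : G) : G ⧸ H) = q := fun q => by
    by_cases h : q = ((1 : G) : G ⧸ H) <;> simp [rep, h, QuotientGroup.out_eq']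
  let f : G ⧸ H → frobeniusKernel H := fun q =>
    ⟨t * (rep q * t * (rep q)⁻¹), hker _ (hconj _) (fun hu => by
      have hr : rep q ∈ H := mem_of_inter hH hu (by simpa using ht1) (by simpa [mul_assoc] using ht)
      have hq : q = ((1 : G) : G ⧸ H) := by
        rw [← hrep q]
        exact QuotientGroup.eq.2 (by simpa using hr)
      simp [rep, hq])⟩
  have hinj : Function.Injective f := fun q q' he => by
    have he' := mul_left_cancel (congrArg Subtype.val he)
    rw [← hrep q, ← hrep q']
    refine QuotientGroup.eq.2 (mem_of_inter hH ht ht1 ?_)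
    convert ht using 1
    have : t = (rep q)⁻¹ * (rep q' * t * (rep q')⁻¹) * rep q := by rw [← he']; group
    conv_lhs => rw [this]
    group
  have hb := (Nat.bijective_iff_injective_and_card f).2 ⟨hinj, (card_kernel hH).symm⟩
  have hform : ∀ x ∈ frobeniusKernel H, ∃ g : G, x = t * (g * t * g⁻¹) := fun x hx => by
    obtain ⟨q, hq⟩ := hb.2 ⟨x, hx⟩
    exact ⟨rep q, (congrArg Subtype.val hq).symm⟩
  have hinv : ∀ x ∈ frobeniusKernel H, t * x * t = x⁻¹ := by
    intro x hx
    obtain ⟨g, rfl⟩ := hform x hx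
    rw [mul_inv_rev, htinv, inv_eq_of_mul_eq_one_left (hconj g), ← mul_assoc, ← mul_assoc, ht2,
      one_mul]
  refine ⟨hinv, fun x hx y hy => ?_⟩
  obtain ⟨g, rfl⟩ := hform x hx
  have h1 : ∀ z ∈ frobeniusKernel H, (g * t * g⁻¹) * z * (g * t * g⁻¹) = z⁻¹ := by
    intro z hz
    have h2 := conj_mem_kernel hz g⁻¹
    have h3 := congrArg (fun w => g * w * g⁻¹) (hinv _ h2)
    convert h3 using 1 <;> group
  have h2 := h1 y hy
  set u := g * t * g⁻¹
  have hu : u⁻¹ = u := inv_eq_of_mul_eq_one_left (hconj g)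
  have h3 : t * y⁻¹ * t = y := by
    have := congrArg (·⁻¹) (hinv y hy)
    simpa [htinv, mul_assoc] using this
  show t * u * y = y * (t * u)
  calc t * u * y = t * (u * y * u) * u⁻¹ := by group
    _ = t * y⁻¹ * u := by rw [h2, hu]
    _ = (t * y⁻¹ * t) * t⁻¹ * u := by group
    _ = y * (t * u) := by rw [h3, htinv, mul_assoc]

end Finite

/-- In a semidirect product `G = K H`, fixed-point-freeness is the Frobenius condition. -/
theorem isFrobeniusComplement_iff {K H : Subgroup G} [K.Normal]
    (hc : Subgroup.IsComplement' K H) (hK : K ≠ ⊥) (hH : H ≠ ⊥) :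
    IsFrobeniusComplement H ↔ ∀ h ∈ H, h ≠ 1 → K ⊓ centralizer {h} = ⊥ := by
  have hd := hc.disjoint
  constructor
  · intro hF h hh h1
    refine (Subgroup.eq_bot_iff_forall _).2 fun k hk => ?_
    obtain ⟨hkK, hkC⟩ := mem_inf.1 hk
    exact disjoint_def.1 hd hkK (mem_of_commute hF hh h1
      (mem_centralizer_singleton_iff.1 hkC))
  · intro hf
    refine ⟨hH, fun htop => hK ?_, fun g hg => ?_⟩
    · rw [htop, disjoint_top] at hd
      exact hd
    refine (Subgroup.eq_bot_iff_forall _).2 fun x hx => ?_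
    obtain ⟨hxH, hxg⟩ := mem_inf.1 hx
    rw [Coprime.mem_conj_smul_iff] at hxg
    obtain ⟨⟨⟨k, hk⟩, ⟨h, hh⟩⟩, rfl⟩ := hc.surjective g
    by_contra hx1
    simp only at hg hxg
    have hk1 : k ≠ 1 := fun e => hg (by simpa [e] using hh)
    have h2 : k⁻¹ * x * k ∈ H := by
      have := mul_mem (mul_mem hh hxg) (inv_mem hh)
      convert this using 1
      group
    have h3 : x⁻¹ * (k⁻¹ * x * k) = 1 := by
      refine disjoint_def.1 hd ?_ (mul_mem (inv_mem hxH) h2)
      have := mul_mem ((inferInstance : K.Normal).conj_mem _ (inv_mem hk) x⁻¹) hk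
      simpa [mul_assoc] using this
    have h4 : k ∈ K ⊓ centralizer {x} := by
      refine ⟨hk, mem_centralizer_singleton_iff.2 ?_⟩
      rw [inv_mul_eq_one] at h3
      calc k * x = k * (k⁻¹ * x * k) := by rw [← h3]
        _ = x * k := by group
    rw [hf x hxH hx1, mem_bot] at h4
    exact hk1 h4

end Cfsg.Agent.Frobenius
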