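import Mathlib.GroupTheory.PGroup
import Mathlib.GroupTheory.Sylow
import Mathlib.GroupTheory.SpecificGroups.Cyclic
import Mathlib.GroupTheory.Subgroup.Centralizer
import Mathlib.GroupTheory.Exponent
import Mathlib.GroupTheory.IndexNormal

/-!
# Fixed-point-free actions on abelian groups

`φ : A →* MulAut V` with `V` abelian nontrivial and no `a ≠ 1` fixing some `v ≠ 1`:
no subgroup of type `(p, p)`; groups of order `p q` are cyclic; abelian `A` is cyclic; in a
`p`-subgroup there is only one subgroup of order `p`. Wrappers for subgroups acting by conjugation.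
-/

namespace Cfsg.Agent.Frobenius.Fpf

open Finset

/-- No element but `1` fixes an element but `1`. -/
def IsFpf {A V : Type*} [Group A] [CommGroup V] (φ : A →* MulAut V) : Prop :=
  ∀ a : A, a ≠ 1 → ∀ v : V, φ a v = v → v = 1

variable {A V : Type*} [Group A] [CommGroup V] {φ : A →* MulAut V}

theorem prod_pow_eq_one (hφ : IsFpf φ) {x : A} {n : ℕ} (hxn : x ^ n = 1) (hx : x ≠ 1) (v : V) :
    ∏ i ∈ range n, φ (x ^ i) v = 1 := by
  refine hφ x hx _ ?_
  rw [map_prod]
  have h1 : ∀ i, φ x (φ (x ^ i) v) = φ (x ^ (i + 1)) v := fun i => by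
    rw [pow_succ', map_mul, MulAut.mul_apply]
  simp only [h1]
  rcases n with _ | n
  · simp
  rw [Finset.prod_range_succ (f := fun i => φ (x ^ (i + 1)) v), hxn,
    Finset.prod_range_succ' (f := fun i => φ (x ^ i) v), pow_zero]

theorem eq_one_of_pow_prime (hφ : IsFpf φ) [Finite A] [Finite V] {p : ℕ} [hp : Fact p.Prime]
    (hpA : p ∣ Nat.card A) {v : V} (hv : v ^ p = 1) : v = 1 := by
  obtain ⟨x, hx⟩ := exists_prime_orderOf_dvd_card' p hpA
  have hx1 : x ≠ 1 := fun h => hp.out.ne_one (by rw [← hx, h, orderOf_one])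
  let W : Subgroup V := (powMonoidHom p : V →* V).ker
  let _ : MulAction (Subgroup.zpowers x) W :=
    { smul := fun s w => ⟨φ s w, by
        rw [MonoidHom.mem_ker, powMonoidHom_apply, ← map_pow]
        have := w.2
        rw [MonoidHom.mem_ker, powMonoidHom_apply] at this
        rw [this, map_one]⟩
      one_smul := fun w => Subtype.ext (by show φ (1 : A) w = w; rw [map_one, MulAut.one_apply])
      mul_smul := fun s t w => Subtype.ext
        (by show φ ((s : A) * t) w = φ s (φ t w); rw [map_mul, MulAut.mul_apply]) }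
  have hG : IsPGroup p (Subgroup.zpowers x) :=
    IsPGroup.of_card (n := 1) (by rw [Nat.card_zpowers, hx, pow_one])
  by_contra hv1
  have hvW : v ∈ W := by rw [MonoidHom.mem_ker, powMonoidHom_apply, hv]
  have hWp : IsPGroup p W := fun w => ⟨1, Subtype.ext (by
    have := w.2
    rw [MonoidHom.mem_ker, powMonoidHom_apply] at this
    simpa using this)⟩
  have hdvd : p ∣ Nat.card W := by
    obtain ⟨k, hk⟩ := hWp.exists_card_eq
    rcases Nat.eq_zero_or_pos k with h0 | h0
    · rw [h0, pow_zero, Nat.card_eq_one_iff_unique] at hk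
      have := hk.1
      exact absurd (congrArg Subtype.val (Subsingleton.elim (⟨v, hvW⟩ : W) 1)) hv1
    · rw [hk]; exact dvd_pow_self p h0.ne'
  obtain ⟨w, hw, hw1⟩ := hG.exists_fixed_point_of_prime_dvd_card_of_fixed_point W hdvd
    (a := 1) (fun s => Subtype.ext (map_one (φ (s : A))))
  exact hw1 (Subtype.ext (hφ x hx1 w
    (congrArg Subtype.val (hw ⟨x, Subgroup.mem_zpowers x⟩))).symm)

/-- A fixed-point-free group has no subgroup of type `(p, p)`. -/
theorem mem_zpowers_of_commute (hφ : IsFpf φ) [Finite A] [Finite V] [Nontrivial V] {p : ℕ}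
    [hp : Fact p.Prime] {a b : A} (ha : a ^ p = 1) (ha1 : a ≠ 1) (hb : b ^ p = 1)
    (hab : Commute a b) : b ∈ Subgroup.zpowers a := by
  by_contra hb'
  obtain ⟨v, hv⟩ := exists_ne (1 : V)
  have hoa : orderOf a = p := orderOf_eq_prime ha ha1
  have hob : orderOf b = p := orderOf_eq_prime hb (fun h => hb' (h ▸ one_mem _))
  refine hv (eq_one_of_pow_prime hφ (hoa ▸ orderOf_dvd_natCard a) ?_)
  have hrow : ∀ i ∈ range p, ∏ j ∈ range p, φ (a ^ (i * j) * b ^ j) v = 1 := by
    intro i _
    have h := prod_pow_eq_one hφ (x := a ^ i * b)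
      (by rw [(hab.pow_left i).mul_pow, ← pow_mul, mul_comm, pow_mul, ha, hb, one_pow, one_mul])
      (fun h => hb' (by
        rw [mul_eq_one_iff_inv_eq] at h
        exact h ▸ inv_mem (pow_mem (Subgroup.mem_zpowers a) i))) v
    simpa only [(hab.pow_left i).mul_pow, ← pow_mul] using h
  have hcol : ∀ j ∈ range p, j ≠ 0 → ∏ i ∈ range p, φ (a ^ (i * j) * b ^ j) v = 1 := by
    intro j hj hj0
    have h := prod_pow_eq_one hφ (x := a ^ j) (by rw [← pow_mul, mul_comm, pow_mul, ha, one_pow])
      (fun h => by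
        rw [← orderOf_dvd_iff_pow_eq_one, hoa] at h
        exact hj0 (Nat.eq_zero_of_dvd_of_lt h (mem_range.1 hj))) (φ (b ^ j) v)
    simpa only [← pow_mul, mul_comm j, map_mul, MulAut.mul_apply] using h
  have := Finset.prod_eq_one hrow
  rw [Finset.prod_comm, ← Finset.prod_erase_mul _ _ (mem_range.2 hp.out.pos),
    Finset.prod_eq_one (fun j hj => hcol j (mem_of_mem_erase hj) (ne_of_mem_erase hj)), one_mul]
    at this
  simpa using this

/-- Two elements of prime orders generate a cyclic subgroup whenever one normalises the other. -/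
theorem commute_of_conj_mem_zpowers (hφ : IsFpf φ) [Finite A] [Finite V] [Nontrivial V] {p q : ℕ}
    [hp : Fact p.Prime] [hq : Fact q.Prime] {a b : A} (ha : a ^ q = 1) (hb : b ^ p = 1)
    (hab : b * a * b⁻¹ ∈ Subgroup.zpowers a) : Commute a b := by
  by_contra hne
  obtain ⟨v, hv⟩ := exists_ne (1 : V)
  have hb1 : b ≠ 1 := fun h => hne (h ▸ Commute.one_right a)
  have ha1 : a ≠ 1 := fun h => hne (h ▸ Commute.one_left b)
  have hoa : orderOf a = q := orderOf_eq_prime ha ha1
  have hob : orderOf b = p := orderOf_eq_prime hb hb1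
  refine hv (eq_one_of_pow_prime hφ (hoa ▸ orderOf_dvd_natCard a) ?_)
  have hrow : ∀ i ∈ range q, ∏ j ∈ range p, φ (a ^ i * b ^ j * (a ^ i)⁻¹) v = 1 := by
    intro i _
    have h := prod_pow_eq_one hφ (x := a ^ i * b * (a ^ i)⁻¹)
      (by rw [conj_pow, hb, mul_one, mul_inv_cancel])
      (fun h => hb1 (conj_eq_one_iff.1 h)) v
    simpa only [conj_pow] using h
  have hmem : ∀ j : ℕ, b ^ j * a * (b ^ j)⁻¹ ∈ Subgroup.zpowers a := by
    intro j
    induction j with
    | zero => simp
    | succ j ih =>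
      obtain ⟨k, hk⟩ := Subgroup.mem_zpowers_iff.1 ih
      have h : b ^ (j + 1) * a * (b ^ (j + 1))⁻¹ = b * (b ^ j * a * (b ^ j)⁻¹) * b⁻¹ := by
        rw [pow_succ']; group
      rw [h, ← hk, ← conj_zpow]
      exact zpow_mem hab k
  have hcol : ∀ j ∈ range p, j ≠ 0 → ∏ i ∈ range q, φ (a ^ i * b ^ j * (a ^ i)⁻¹) v = 1 := by
    intro j hj hj0
    set d := b ^ j * a⁻¹ * (b ^ j)⁻¹
    have hd : d ∈ Subgroup.zpowers a := by
      have := inv_mem (hmem j)
      convert this using 1
      show b ^ j * a⁻¹ * (b ^ j)⁻¹ = _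
      group
    have hcd : Commute a d := by
      obtain ⟨k, hk⟩ := Subgroup.mem_zpowers_iff.1 hd
      exact hk ▸ (Commute.refl a).zpow_right k
    have hdq : d ^ q = 1 := by rw [conj_pow, inv_pow, ha, inv_one, mul_one, mul_inv_cancel]
    have hne1 : a * d ≠ 1 := fun h => hne (by
      have hc : Commute a (b ^ j) := by
        have h' : a * (b ^ j * a⁻¹ * (b ^ j)⁻¹) = 1 := h
        rw [← mul_assoc, ← mul_assoc, mul_inv_eq_one, mul_inv_eq_iff_eq_mul] at h'
        exact h'
      obtain ⟨m, -, hm⟩ := Nat.exists_mul_mod_eq_one_of_coprime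
        (((hp.out.coprime_iff_not_dvd.2 fun h => hj0
          (Nat.eq_zero_of_dvd_of_lt h (mem_range.1 hj)))).symm) hp.out.one_lt
      have h2 := hc.pow_right m
      rwa [← pow_mul, ← Nat.div_add_mod (j * m) p, hm, pow_add, pow_mul, hb, one_pow, one_mul,
        pow_one] at h2)
    have h := prod_pow_eq_one hφ (x := a * d) (by rw [hcd.mul_pow, ha, hdq, one_mul]) hne1
      (φ (b ^ j) v)
    refine Eq.trans (Finset.prod_congr rfl fun i _ => ?_) h
    rw [← MulAut.mul_apply, ← map_mul, hcd.mul_pow, conj_pow, inv_pow]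
    congr 2
    group
  have := Finset.prod_eq_one hrow
  rw [Finset.prod_comm, ← Finset.prod_erase_mul _ _ (mem_range.2 hp.out.pos),
    Finset.prod_eq_one (fun j hj => hcol j (mem_of_mem_erase hj) (ne_of_mem_erase hj)), one_mul]
    at this
  simpa using this

/-- A fixed-point-free group of order `p q` is cyclic. -/
theorem isCyclic_of_card (hφ : IsFpf φ) [Finite A] [Finite V] [Nontrivial V] {p q : ℕ}
    [hp : Fact p.Prime] [hq : Fact q.Prime] (hcard : Nat.card A = p * q) : IsCyclic A := by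
  wlog hle : p ≤ q generalizing p q
  · exact this (hp := hq) (hq := hp) (hcard.trans (mul_comm _ _)) (le_of_not_ge hle)
  rcases hle.lt_or_eq with hlt | heq
  · obtain ⟨b, hb⟩ := exists_prime_orderOf_dvd_card' (G := A) p (hcard ▸ dvd_mul_right p q)
    obtain ⟨a, ha⟩ := exists_prime_orderOf_dvd_card' (G := A) q (hcard ▸ dvd_mul_left q p)
    have hidx : (Subgroup.zpowers a).index = p := by
      have h := Subgroup.card_mul_index (Subgroup.zpowers a)
      rw [Nat.card_zpowers, ha, hcard, mul_comm p q] at h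
      exact Nat.eq_of_mul_eq_mul_left hq.out.pos h
    have hn : (Subgroup.zpowers a).Normal :=
      Subgroup.normal_of_index_eq_minFac_card (by
        rw [hidx, hcard]
        refine le_antisymm ?_ (Nat.minFac_le_of_dvd hp.out.two_le (dvd_mul_right p q))
        have hm := Nat.minFac_prime (by
          have := Nat.mul_le_mul hp.out.two_le hq.out.two_le; omega : p * q ≠ 1)
        rcases hm.dvd_mul.1 (Nat.minFac_dvd (p * q)) with h | h
        · exact ((Nat.prime_dvd_prime_iff_eq hm hp.out).1 h).ge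
        · exact hlt.le.trans ((Nat.prime_dvd_prime_iff_eq hm hq.out).1 h).ge)
    have hc := commute_of_conj_mem_zpowers hφ (p := p) (q := q)
      (ha ▸ pow_orderOf_eq_one a) (hb ▸ pow_orderOf_eq_one b)
      (hn.conj_mem a (Subgroup.mem_zpowers a) b)
    refine isCyclic_of_orderOf_eq_card (a * b) ?_
    rw [hc.orderOf_mul_eq_mul_orderOf_of_coprime
      (by rw [ha, hb]; exact (Nat.coprime_primes hq.out hp.out).2 hlt.ne'), ha, hb, hcard, mul_comm]
  · subst heq
    by_contra hnc
    obtain ⟨a, ha⟩ := exists_prime_orderOf_dvd_card' (G := A) p (hcard ▸ dvd_mul_right p p)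
    have hexp : ∀ x : A, x ^ p = 1 := fun x => by
      have hd : orderOf x ∣ p ^ 2 := by rw [sq, ← hcard]; exact orderOf_dvd_natCard x
      obtain ⟨i, hi, hxi⟩ := (Nat.dvd_prime_pow hp.out).1 hd
      rw [← orderOf_dvd_iff_pow_eq_one, hxi]
      interval_cases i
      · simp
      · simp
      · exact absurd (isCyclic_of_orderOf_eq_card x (by rw [hxi, hcard, sq])) hnc
    have hcomm := IsPGroup.commutative_of_card_eq_prime_sq (p := p) (G := A) (by rw [hcard, sq])
    apply hnc
    have htop : Subgroup.zpowers a = ⊤ := top_le_iff.1 fun x _ =>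
      mem_zpowers_of_commute hφ (ha ▸ pow_orderOf_eq_one a)
        (fun h => hp.out.ne_one (by rw [← ha, h, orderOf_one])) (hexp x) (hcomm a x)
    exact ⟨⟨a, fun x => htop.ge (Subgroup.mem_top x)⟩⟩

/-- An abelian fixed-point-free group is cyclic. -/
theorem isCyclic_of_comm (hφ : IsFpf φ) [Finite A] [Finite V] [Nontrivial V]
    (hA : ∀ x y : A, Commute x y) : IsCyclic A := by
  let _ : CommGroup A := { ‹Group A› with mul_comm := fun x y => (hA x y).eq }
  obtain ⟨a, ha⟩ := Monoid.exists_orderOf_eq_exponent (G := A) Monoid.ExponentExists.of_finite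
  refine ⟨⟨a, fun x => ?_⟩⟩
  by_contra hx
  -- an element of prime order modulo `⟨a⟩`
  set Z := Subgroup.zpowers a
  have : Nontrivial (A ⧸ Z) := ⟨⟨(x : A ⧸ Z), 1, fun h => hx ((QuotientGroup.eq_one_iff x).1 h)⟩⟩
  obtain ⟨p, hp, hpd⟩ :=
    Nat.exists_prime_and_dvd (Finite.one_lt_card (α := A ⧸ Z)).ne'
  have := Fact.mk hp
  obtain ⟨bq, hb⟩ := exists_prime_orderOf_dvd_card' p hpd
  obtain ⟨b, rfl⟩ := QuotientGroup.mk_surjective bq
  have hbZ : b ∉ Z := fun h => hp.ne_one (by
    rw [← hb, orderOf_eq_one_iff]; exact (QuotientGroup.eq_one_iff b).2 h)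
  have hbp : b ^ p ∈ Z := by
    rw [← QuotientGroup.eq_one_iff, QuotientGroup.mk_pow, ← hb, pow_orderOf_eq_one]
  obtain ⟨i, hi⟩ := (mem_powers_iff_mem_zpowers (x := a)).2 hbp
  simp only at hi
  have hpn : p ∣ orderOf a := by
    have h1 : p ∣ Monoid.exponent A := by
      refine dvd_trans ?_ (Monoid.order_dvd_exponent b)
      rw [← hb]
      exact orderOf_map_dvd (QuotientGroup.mk' Z) b
    rwa [ha]
  obtain ⟨m, hm⟩ := hpn
  have hm0 : 0 < m := by
    rcases Nat.eq_zero_or_pos m with h | h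
    · exact absurd hm (by rw [h, mul_zero]; exact (orderOf_pos a).ne')
    · exact h
  have hpi : p ∣ i := by
    have h1 : a ^ (i * m) = 1 := by
      rw [pow_mul, hi, ← pow_mul, ← hm, ha, Monoid.pow_exponent_eq_one]
    rw [← orderOf_dvd_iff_pow_eq_one, hm] at h1
    exact Nat.dvd_of_mul_dvd_mul_right hm0 h1
  obtain ⟨i', rfl⟩ := hpi
  set c := b * (a ^ i')⁻¹
  have hc : c ^ p = 1 := by
    rw [(hA b _).mul_pow, inv_pow, ← pow_mul, mul_comm, ← hi, mul_comm i', inv_mul_cancel]
  have hcZ : c ∉ Z := fun h => hbZ (by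
    have := mul_mem h (pow_mem (Subgroup.mem_zpowers a) i')
    simpa [c] using this)
  have ham : orderOf (a ^ m) = p := by
    rw [orderOf_pow' a hm0.ne', hm, Nat.gcd_eq_right (dvd_mul_left m p),
      Nat.mul_div_cancel _ hm0]
  exact hcZ ((Subgroup.zpowers_le.2 (pow_mem (Subgroup.mem_zpowers a) m))
    (mem_zpowers_of_commute hφ (p := p) (ham ▸ pow_orderOf_eq_one _)
      (fun h => hp.ne_one (by rw [← ham, h, orderOf_one])) hc (hA _ _)))

/-- In a fixed-point-free `p`-group all subgroups of order `p` coincide. -/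
theorem eq_of_card_eq_prime (hφ : IsFpf φ) [Finite A] [Finite V] [Nontrivial V] {p : ℕ}
    [hp : Fact p.Prime] (hA : IsPGroup p A) {H K : Subgroup A} (hH : Nat.card H = p)
    (hK : Nat.card K = p) : H = K := by
  have : Nontrivial A := by
    have : Nontrivial H := Finite.one_lt_card_iff_nontrivial.1 (hH.symm ▸ hp.out.one_lt)
    exact H.subtype_injective.nontrivial
  have := hA.center_nontrivial
  obtain ⟨k, hk⟩ := (hA.to_subgroup (Subgroup.center A)).exists_card_eq
  have hpc : p ∣ Nat.card (Subgroup.center A) := by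
    have : 1 < Nat.card (Subgroup.center A) := Finite.one_lt_card
    rw [hk] at this ⊢
    exact dvd_pow_self p (fun h => by simp [h] at this)
  obtain ⟨z, hz⟩ := exists_prime_orderOf_dvd_card' p hpc
  have hzp : orderOf (z : A) = p := by rw [Subgroup.orderOf_coe, hz]
  have key : ∀ L : Subgroup A, Nat.card L = p → L = Subgroup.zpowers (z : A) := by
    intro L hL
    refine Subgroup.eq_of_le_of_card_ge (fun x hx => ?_) (by rw [Nat.card_zpowers, hzp, hL])
    refine mem_zpowers_of_commute hφ (p := p) (hzp ▸ pow_orderOf_eq_one _)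
      (fun h => hp.out.ne_one (by rw [← hzp, h, orderOf_one])) ?_
      (Subgroup.mem_center_iff.1 z.2 x).symm
    rw [← hL]
    exact congrArg Subtype.val (pow_card_eq_one' (x := (⟨x, hx⟩ : L)))
  rw [key H hH, key K hK]

section Conj

open scoped IsMulCommutative

variable {G : Type*} [Group G] (H W : Subgroup G)

/-- Conjugation of an abelian subgroup by a subgroup normalising it. -/
def conjHom [IsMulCommutative W] (hHW : H ≤ Subgroup.normalizer (W : Set G)) : H →* MulAut W :=
  W.normalizerMonoidHom.comp (Subgroup.inclusion hHW)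

theorem isFpf_conjHom [IsMulCommutative W] (hHW : H ≤ Subgroup.normalizer (W : Set G))
    (hf : ∀ h ∈ H, h ≠ 1 → W ⊓ Subgroup.centralizer {h} = ⊥) :
    IsFpf (V := W) (conjHom H W hHW) := by
  intro a ha v hv
  have h' : (a : G) * v * (a : G)⁻¹ = v := congrArg Subtype.val hv
  have hm : (v : G) ∈ W ⊓ Subgroup.centralizer {(a : G)} :=
    ⟨v.2, Subgroup.mem_centralizer_singleton_iff.2 (mul_inv_eq_iff_eq_mul.1 h').symm⟩
  rw [hf a a.2 (fun h => ha (Subtype.ext h)), Subgroup.mem_bot] at hm
  exact Subtype.ext hm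

end Conj

end Cfsg.Agent.Frobenius.Fpf
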