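import Cfsg.Agent.Lib.Frobenius.Basic
import Cfsg.Agent.Lib.CharInt.FrobeniusKernel
import Mathlib.GroupTheory.Nilpotent

/-!
# The Frobenius kernel carries a fixed-point-free automorphism of prime order
-/

namespace Cfsg.Agent.Frobenius

open Subgroup

theorem exists_fpf_automorphism {G : Type*} [Group G] [Finite G] {H : Subgroup G}
    (hH : IsFrobeniusComplement H) :
    ∃ N : Subgroup G, (N : Set G) = frobeniusKernel H ∧ N.Normal ∧
      ∃ (φ : N ≃* N) (p : ℕ), MonoidHom.FixedPointFree (φ : N →* N) ∧ p.Prime ∧ orderOf φ = p := by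
  obtain ⟨N, hNk, hNn, hNc⟩ := CharInt.exists_frobeniusKernel hH
  have hN : N ≠ ⊥ := fun h => hH.2.1 (by
    have := hNc.sup_eq_top
    rwa [h, bot_sup_eq] at this)
  have hf := (isFrobeniusComplement_iff hNc hN hH.1).1 hH
  obtain ⟨p, hp, hpd⟩ := Nat.exists_prime_and_dvd
    (fun h => hH.1 (Subgroup.card_eq_one.1 h) : Nat.card H ≠ 1)
  have := Fact.mk hp
  obtain ⟨⟨h, hh⟩, hhp⟩ := exists_prime_orderOf_dvd_card' p hpd
  rw [Subgroup.orderOf_mk] at hhp
  have hh1 : h ≠ 1 := fun e => hp.ne_one (by rw [← hhp, e, orderOf_one])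
  refine ⟨N, hNk, hNn, MulAut.conjNormal h, p, fun n hn => ?_, hp, ?_⟩
  · have h' : h * n * h⁻¹ = n := congrArg Subtype.val hn
    have hm : (n : G) ∈ N ⊓ centralizer {h} :=
      ⟨n.2, mem_centralizer_singleton_iff.2 (mul_inv_eq_iff_eq_mul.1 h').symm⟩
    rw [hf h hh hh1, mem_bot] at hm
    exact Subtype.ext hm
  · refine orderOf_eq_prime ?_ fun e => ?_
    · rw [← map_pow, ← hhp, pow_orderOf_eq_one, map_one]
    · refine hN ((Subgroup.eq_bot_iff_forall _).2 fun x hx => ?_)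
      have h' : h * x * h⁻¹ = x := congrArg Subtype.val (DFunLike.congr_fun e (⟨x, hx⟩ : N))
      have hm : x ∈ N ⊓ centralizer {h} :=
        ⟨hx, mem_centralizer_singleton_iff.2 (mul_inv_eq_iff_eq_mul.1 h').symm⟩
      rwa [hf h hh hh1, mem_bot] at hm

end Cfsg.Agent.Frobenius
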