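import Cfsg.Agent.Lib.Frobenius.FixedPointFree
import Cfsg.Agent.Lib.Coprime.Sylow
import Cfsg.Agent.Lib.Components.Subnormal

/-!
# An abelian module for a fixed-point-free group of operators

* `coprime_of_fpf`: a subgroup acting fixed-point-freely on `K` has order prime to `|K|`;
* `exists_abelian_invariant`: a solvable such subgroup normalises a nontrivial abelian subgroup
  of `K`.
-/

namespace Cfsg.Agent.Frobenius

open Subgroup

variable {G : Type*} [Group G] [Finite G]

theorem coprime_of_fpf {A K : Subgroup G} (hAK : A ≤ normalizer (K : Set G))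
    (hf : ∀ a ∈ A, a ≠ 1 → K ⊓ centralizer {a} = ⊥) :
    (Nat.card A).Coprime (Nat.card K) := by
  refine Nat.coprime_of_dvd fun r hr hrA hrK => ?_
  have := Fact.mk hr
  obtain ⟨x, hx⟩ := exists_prime_orderOf_dvd_card' (G := A) r hrA
  have hx1 : (x : G) ≠ 1 := fun h => hr.ne_one (by rw [← hx, ← Subgroup.orderOf_coe, h, orderOf_one])
  let φ : zpowers x →* MulAut K :=
    K.normalizerMonoidHom.comp ((Subgroup.inclusion hAK).comp (zpowers x).subtype)
  let _ : MulAction (zpowers x) K := MulAction.compHom K φ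
  have hG : IsPGroup r (zpowers x) :=
    IsPGroup.of_card (n := 1) (by rw [Nat.card_zpowers, hx, pow_one])
  obtain ⟨w, hw, hw1⟩ := hG.exists_fixed_point_of_prime_dvd_card_of_fixed_point K hrK (a := 1)
    (fun s => map_one (φ s))
  have h' : (x : G) * w * (x : G)⁻¹ = w := congrArg Subtype.val (hw ⟨x, mem_zpowers x⟩)
  have hm : (w : G) ∈ K ⊓ centralizer {(x : G)} :=
    ⟨w.2, mem_centralizer_singleton_iff.2 (mul_inv_eq_iff_eq_mul.1 h').symm⟩
  rw [hf x x.2 hx1, mem_bot] at hm
  exact hw1 (Subtype.ext hm).symm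

theorem exists_abelian_invariant_le {A K : Subgroup G} (hAK : A ≤ normalizer (K : Set G))
    (hK : K ≠ ⊥) (hs : Group.IsSolvable A)
    (hf : ∀ a ∈ A, a ≠ 1 → K ⊓ centralizer {a} = ⊥) :
    ∃ W : Subgroup G, W ≤ K ∧ IsMulCommutative W ∧ W ≠ ⊥ ∧ A ≤ normalizer (W : Set G) ∧
      ∀ a ∈ A, a ≠ 1 → W ⊓ centralizer {a} = ⊥ := by
  obtain ⟨q, hq, hqK⟩ :=
    Nat.exists_prime_and_dvd (fun h => hK (Subgroup.card_eq_one.1 h) : Nat.card K ≠ 1)
  have := Fact.mk hq
  obtain ⟨Q, hQ⟩ := Coprime.exists_invariant_sylow hAK (coprime_of_fpf hAK hf) (Or.inl hs) q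
  set Q' : Subgroup G := (Q : Subgroup K).map K.subtype with hQ'
  have : Nontrivial Q' := (nontrivial_iff_ne_bot Q').2 fun h =>
    Q.ne_bot_of_dvd_card hqK ((map_eq_bot_iff_of_injective _ K.subtype_injective).1 h)
  have := (Q.2.map K.subtype).center_nontrivial (G := Q')
  refine ⟨(center Q').map Q'.subtype, (map_subtype_le _).trans (map_subtype_le _), inferInstance, fun h => ?_,
    hQ.trans (Components.normalizer_le_normalizer_map_of_characteristic Q' (center Q')),
    fun a ha ha1 => le_bot_iff.1 ((inf_le_inf_right _ ?_).trans (hf a ha ha1).le)⟩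
  · rw [map_eq_bot_iff_of_injective _ Q'.subtype_injective] at h
    exact (nontrivial_iff_ne_bot _).1 this h
  · exact (map_subtype_le _).trans (map_subtype_le _)

theorem exists_abelian_invariant {A K : Subgroup G} (hAK : A ≤ normalizer (K : Set G))
    (hK : K ≠ ⊥) (hs : Group.IsSolvable A)
    (hf : ∀ a ∈ A, a ≠ 1 → K ⊓ centralizer {a} = ⊥) :
    ∃ W : Subgroup G, IsMulCommutative W ∧ W ≠ ⊥ ∧ A ≤ normalizer (W : Set G) ∧
      ∀ a ∈ A, a ≠ 1 → W ⊓ centralizer {a} = ⊥ :=
  let ⟨W, _, h⟩ := exists_abelian_invariant_le hAK hK hs hf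
  ⟨W, h⟩

end Cfsg.Agent.Frobenius
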