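import Mathlib
import Cfsg.Agent.Lib.PSL2.PSLPartition
import Cfsg.Agent.Lib.PSL2.Classify
import Cfsg.Agent.Lib.PGroup.UniqueOrderP
import Cfsg.Agent.S3378

/-!
# Finite subgroups of `SL(2, k)` in characteristic zero

Over an algebraically closed field of characteristic zero a finite non-solvable subgroup of
`SL(2, k)` is isomorphic to `SL(2, 5)`, and two non-commuting elements of order three that generate
a solvable group have a product of order four or six.
-/

set_option autoImplicit false
set_option linter.style.haveILetI false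
set_option linter.unusedSectionVars false

open Matrix
open scoped MatrixGroups commutatorElement

namespace Cfsg.Agent.BinaryPolyhedral

open Cfsg.Agent.PSL2

variable {k : Type} [Field k]

/-- Cayley–Hamilton for a square. -/
theorem sq_entries (g : SL(2, k)) :
    (g * g) 0 0 = tr g * g 0 0 - 1 ∧ (g * g) 0 1 = tr g * g 0 1 ∧
    (g * g) 1 0 = tr g * g 1 0 ∧ (g * g) 1 1 = tr g * g 1 1 - 1 := by
  have hd := det_eq g
  simp only [mul00, mul01, mul10, mul11, tr_def]
  exact ⟨by linear_combination -hd, by ring, by ring, by linear_combination -hd⟩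

/-- The coordinates of an element commuting with a non-central element are unique. -/
theorem coords_unique {g : SL(2, k)} (hg : g ∉ Subgroup.center SL(2, k)) {x y x' y' : k}
    (h00 : x + y * g 0 0 = x' + y' * g 0 0) (h01 : y * g 0 1 = y' * g 0 1)
    (h10 : y * g 1 0 = y' * g 1 0) (h11 : x + y * g 1 1 = x' + y' * g 1 1) : x = x' ∧ y = y' := by
  have hy : y = y' := by
    by_contra hne
    have hd : y - y' ≠ 0 := sub_ne_zero.2 hne
    refine hg (mem_center_iff_entries.2 ⟨?_, ?_, ?_⟩)
    · exact (mul_eq_zero.1 (show (y - y') * g 0 1 = 0 by linear_combination h01)).resolve_left hd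
    · exact (mul_eq_zero.1 (show (y - y') * g 1 0 = 0 by linear_combination h10)).resolve_left hd
    · exact mul_left_cancel₀ hd (by linear_combination h00 - h11)
  exact ⟨by rw [hy] at h00; linear_combination h00, hy⟩

section CharZero

variable [CharZero k]

theorem two_ne : (2 : k) ≠ 0 := two_ne_zero

/-- An element of finite order and trace two is trivial. -/
theorem eq_one_of_tr_two {g : SL(2, k)} {n : ℕ} (hn : 0 < n) (hgn : g ^ n = 1)
    (ht : tr g = 2) : g = 1 := by
  obtain ⟨s00, s01, s10, s11⟩ := sq_entries g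
  rw [ht] at s00 s01 s10 s11
  have key : ∀ m : ℕ, (g ^ m) 0 0 = 1 + m * (g 0 0 - 1) ∧ (g ^ m) 0 1 = m * g 0 1 ∧
      (g ^ m) 1 0 = m * g 1 0 ∧ (g ^ m) 1 1 = 1 + m * (g 1 1 - 1) := by
    intro m
    induction m with
    | zero => simp
    | succ m ih =>
      obtain ⟨a, b, c, d⟩ := ih
      simp only [mul00, mul01, mul10, mul11] at s00 s01 s10 s11
      rw [pow_succ, mul00, mul01, mul10, mul11, a, b, c, d]
      push_cast
      refine ⟨?_, ?_, ?_, ?_⟩
      · linear_combination (m : k) * s00
      · linear_combination (m : k) * s01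
      · linear_combination (m : k) * s10
      · linear_combination (m : k) * s11
  obtain ⟨a, b, c, d⟩ := key n
  rw [hgn] at a b c d
  have hnk : (n : k) ≠ 0 := Nat.cast_ne_zero.2 hn.ne'
  simp only [Matrix.SpecialLinearGroup.coe_one, Matrix.one_apply_eq,
    Matrix.one_apply_ne (by decide : (0 : Fin 2) ≠ 1), Matrix.one_apply_ne (by decide : (1 : Fin 2) ≠ 0)]
    at a b c d
  refine ext2 ?_ ?_ ?_ ?_ <;> simp only [Matrix.SpecialLinearGroup.coe_one, Matrix.one_apply_eq,
    Matrix.one_apply_ne (by decide : (0 : Fin 2) ≠ 1), Matrix.one_apply_ne (by decide : (1 : Fin 2) ≠ 0)]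
  · exact sub_eq_zero.1 ((mul_eq_zero.1 (show (n : k) * (g 0 0 - 1) = 0 by linear_combination -a)).resolve_left hnk)
  · exact (mul_eq_zero.1 b.symm).resolve_left hnk
  · exact (mul_eq_zero.1 c.symm).resolve_left hnk
  · exact sub_eq_zero.1 ((mul_eq_zero.1 (show (n : k) * (g 1 1 - 1) = 0 by linear_combination -d)).resolve_left hnk)

theorem tr_sq_ne_four {g : SL(2, k)} (hg : g ∉ Subgroup.center SL(2, k)) (hfin : IsOfFinOrder g) :
    tr g ^ 2 ≠ 4 := by
  intro h4
  obtain ⟨n, hn, hgn⟩ := isOfFinOrder_iff_pow_eq_one.1 hfin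
  rcases sq_eq_sq_iff_eq_or_eq_neg.1 (show tr g ^ 2 = (2 : k) ^ 2 by rw [h4]; norm_num) with h | h
  · exact hg (mem_center_iff_pm.2 (Or.inl (eq_one_of_tr_two hn hgn h)))
  · refine hg (mem_center_iff_pm.2 (Or.inr ?_))
    have hneg : -g = 1 := eq_one_of_tr_two (n := 2 * n) (by omega)
      (by rw [pow_mul, neg_sq, ← pow_mul, mul_comm, pow_mul, hgn, one_pow]) (by rw [tr_neg, h]; ring)
    rw [← neg_neg g, hneg]

/-- An element of order three has trace `-1`. -/
theorem tr_of_cube {g : SL(2, k)} (hg : g ^ 3 = 1) (h1 : g ≠ 1) : tr g = -1 := by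
  obtain ⟨s00, s01, s10, s11⟩ := sq_entries g
  have hfin : IsOfFinOrder g := isOfFinOrder_iff_pow_eq_one.2 ⟨3, by norm_num, hg⟩
  have hnc : g ∉ Subgroup.center SL(2, k) := by
    intro hc
    rcases mem_center_iff_pm.1 hc with e | e
    · exact h1 e
    · apply h1
      rw [e] at hg ⊢
      simpa [pow_succ] using hg
  have hd := det_eq g
  have e3 : g ^ 3 = g * g * g := by rw [pow_succ, pow_two]
  rw [e3] at hg
  have a := congrArg (fun m : SL(2, k) => m 0 0) hg
  have b := congrArg (fun m : SL(2, k) => m 0 1) hg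
  have c := congrArg (fun m : SL(2, k) => m 1 0) hg
  have d := congrArg (fun m : SL(2, k) => m 1 1) hg
  simp only [mul00 (g * g), mul01 (g * g), mul10 (g * g), mul11 (g * g), s00, s01, s10, s11,
    Matrix.SpecialLinearGroup.coe_one, Matrix.one_apply_eq,
    Matrix.one_apply_ne (by decide : (0 : Fin 2) ≠ 1), Matrix.one_apply_ne (by decide : (1 : Fin 2) ≠ 0)]
    at a b c d
  set t := tr g with ht
  have htd : t = g 0 0 + g 1 1 := rfl
  obtain ⟨hx, hy⟩ := coords_unique hnc (x := -t - 1) (y := t ^ 2 - 1) (x' := 0) (y' := 0)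
    (by linear_combination a + t * hd + t * g 0 0 * htd)
    (by linear_combination b + t * g 0 1 * htd)
    (by linear_combination c + t * g 1 0 * htd)
    (by linear_combination d + t * hd + t * g 1 1 * htd)
  linear_combination -hx

/-- Non-central elements of order three commute if the product has trace `-1`. -/
theorem commute_of_tr {x y : SL(2, k)} (hx : tr x = -1) (hy : tr y = -1) (hxy : tr (x * y) = -1)
    (hfin : IsOfFinOrder ⁅x, y⁆) : Commute x y := by
  have ht : tr ⁅x, y⁆ = 2 := by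
    have dx := det_eq x
    have dy := det_eq y
    rw [commutatorElement_def]
    simp only [tr_def, mul00, mul01, mul10, mul11, inv00, inv01, inv10, inv11] at hx hy hxy ⊢
    have h : tr ⁅x, y⁆ = tr x ^ 2 + tr y ^ 2 + tr (x * y) ^ 2 - tr x * tr y * tr (x * y) - 2 := by
      rw [commutatorElement_def]
      simp only [tr_def, mul00, mul01, mul10, mul11, inv00, inv01, inv10, inv11]
      grind
    rw [commutatorElement_def] at h
    simp only [tr_def, mul00, mul01, mul10, mul11, inv00, inv01, inv10, inv11] at h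
    rw [h, hx, hy, hxy]
    norm_num
  obtain ⟨n, hn, hgn⟩ := isOfFinOrder_iff_pow_eq_one.1 hfin
  exact commutatorElement_eq_one_iff_mul_comm.1 (eq_one_of_tr_two hn hgn ht)

variable [IsAlgClosed k]

theorem isCyclic_cent_inf {g : SL(2, k)} (hg : g ∉ Subgroup.center SL(2, k))
    (hfin : IsOfFinOrder g) (H : Subgroup SL(2, k)) [Finite H] :
    IsCyclic ↥(cent g ⊓ H : Subgroup SL(2, k)) := by
  classical
  obtain ⟨r, hr⟩ : ∃ r : k, r ^ 2 - tr g * r + 1 = 0 := by
    obtain ⟨r, hr⟩ := IsAlgClosed.exists_root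
      (Polynomial.X ^ 2 - Polynomial.C (tr g) * Polynomial.X + Polynomial.C 1) (by
        have : (Polynomial.X ^ 2 - Polynomial.C (tr g) * Polynomial.X + Polynomial.C 1).degree = 2 := by
          compute_degree!
        rw [this]; norm_num)
    exact ⟨r, by simpa using hr⟩
  have h4 := tr_sq_ne_four hg hfin
  set C : Subgroup SL(2, k) := cent g ⊓ H
  haveI : Finite C := Finite.of_injective (fun c : C => (⟨c.1, c.2.2⟩ : H))
    fun a b e => Subtype.ext (congrArg Subtype.val e :)
  have hco : ∀ c : C, ∃ x y : k, (c : SL(2, k)) 0 0 = x + y * g 0 0 ∧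
      (c : SL(2, k)) 0 1 = y * g 0 1 ∧ (c : SL(2, k)) 1 0 = y * g 1 0 ∧
      (c : SL(2, k)) 1 1 = x + y * g 1 1 := fun c => exists_coords hg (mem_cent.1 c.2.1)
  choose X Y h00 h01 h10 h11 using hco
  have hd := det_eq g
  let χ : C →* k :=
    { toFun := fun c => X c + Y c * r
      map_one' := by
        obtain ⟨e, f⟩ := coords_unique hg (x := X 1) (y := Y 1) (x' := 1) (y' := 0)
          (by rw [← h00]; simp) (by rw [← h01]; simp) (by rw [← h10]; simp) (by rw [← h11]; simp)
        rw [e, f]; ring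
      map_mul' := fun c d => by
        obtain ⟨e, f⟩ := coords_unique hg (x := X (c * d)) (y := Y (c * d))
          (x' := X c * X d - Y c * Y d) (y' := X c * Y d + Y c * X d + tr g * Y c * Y d)
          (by rw [← h00, Subgroup.coe_mul, mul00, h00, h01, h00, h10, tr_def]
              linear_combination -(Y c * Y d) * hd)
          (by rw [← h01, Subgroup.coe_mul, mul01, h00, h01, h01, h11, tr_def]; ring)
          (by rw [← h10, Subgroup.coe_mul, mul10, h10, h00, h11, h10, tr_def]; ring)
          (by rw [← h11, Subgroup.coe_mul, mul11, h10, h01, h11, h11, tr_def]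
              linear_combination -(Y c * Y d) * hd)
        rw [e, f]
        linear_combination (-(Y c * Y d)) * hr }
  refine isCyclic_of_subgroup_isDomain χ ((injective_iff_map_eq_one χ).2 fun c hc => ?_)
  change X c + Y c * r = 1 at hc
  have hdet := det_eq (c : SL(2, k))
  rw [h00, h01, h10, h11] at hdet
  -- the other root gives the inverse
  have h' : X c + Y c * (tr g - r) = 1 := by
    have : (X c + Y c * r) * (X c + Y c * (tr g - r)) = 1 := by
      rw [tr_def] at hr ⊢
      linear_combination hdet + (Y c) ^ 2 * (- hd) - (Y c) ^ 2 * hr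
    rwa [hc, one_mul] at this
  have hY : Y c = 0 := by
    refine (mul_eq_zero.1 (show Y c * (tr g - 2 * r) = 0 by linear_combination h' - hc)).resolve_right ?_
    intro h0
    exact h4 (by linear_combination (tr g - 2 * r) * h0 - (4 : k) * hr)
  apply Subtype.ext
  refine ext2 ?_ ?_ ?_ ?_
  · rw [h00, hY]; simpa [hY] using hc
  · rw [h01, hY]; simp
  · rw [h10, hY]; simp
  · rw [h11, hY]; simpa [hY] using hc

/-- The image of `H` in `PSL(2, k)`. -/
abbrev proj (H : Subgroup SL(2, k)) : Subgroup PSL(2, k) := H.map mk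

/-- The preimage of the image of `H`. -/
abbrev hull (H : Subgroup SL(2, k)) : Subgroup SL(2, k) := (proj H).comap mk

theorem mem_hull {H : Subgroup SL(2, k)} {g : SL(2, k)} : g ∈ hull H ↔ g ∈ H ∨ -g ∈ H := by
  constructor
  · rintro ⟨h, hh, e⟩
    rcases mk_eq_mk.1 e with rfl | rfl
    · exact Or.inl hh
    · exact Or.inr hh
  · rintro (h | h)
    · exact ⟨g, h, rfl⟩
    · exact ⟨-g, h, mk_neg g⟩

theorem finite_hull (H : Subgroup SL(2, k)) [Finite H] : Finite (hull H) := by
  classical
  refine Finite.of_injective (β := H × Bool) (fun g => if h : (g : SL(2, k)) ∈ H then (⟨_, h⟩, true)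
    else (⟨_, (mem_hull.1 g.2).resolve_left h⟩, false)) fun a b e => ?_
  apply Subtype.ext
  by_cases ha : (a : SL(2, k)) ∈ H <;> by_cases hb : (b : SL(2, k)) ∈ H <;>
    simp [ha, hb] at e
  · exact congrArg Subtype.val e
  · exact congrArg Subtype.val e

theorem exists_lift {H : Subgroup SL(2, k)} (x : proj H) : ∃ g ∈ H, mk g = (x : PSL(2, k)) :=
  x.2

theorem finite_proj (H : Subgroup SL(2, k)) [Finite H] : Finite (proj H) :=
  Finite.of_surjective _ (MonoidHom.subgroupMap_surjective mk H)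

theorem finOrder_of_mem {H : Subgroup SL(2, k)} [Finite H] {g : SL(2, k)} (hg : g ∈ H) :
    IsOfFinOrder g :=
  MonoidHom.isOfFinOrder H.subtype (isOfFinOrder_of_finite (⟨g, hg⟩ : H))

theorem mem_comp_iff {H : Subgroup SL(2, k)} {g : SL(2, k)} (x : proj H)
    (hgx : mk g = (x : PSL(2, k))) (y : proj H) :
    y ∈ (pslComp (x : PSL(2, k))).subgroupOf (proj H) ↔
      ∃ c ∈ H, c ∈ cent g ∧ mk c = (y : PSL(2, k)) := by
  rw [Subgroup.mem_subgroupOf, ← hgx, pslComp_mk]
  obtain ⟨c, hc, hcy⟩ := exists_lift y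
  constructor
  · intro h
    refine ⟨c, hc, ?_, hcy⟩
    rw [← hcy] at h
    exact (mk_mem_map_iff (center_le_cent g)).1 h
  · rintro ⟨d, -, hd, e⟩
    exact ⟨d, hd, e⟩

theorem inverts_of_normalizes {H : Subgroup SL(2, k)} [Finite H] {g h : SL(2, k)} {x a : proj H}
    (hx : x ≠ 1) (hg : g ∈ H) (hgx : mk g = (x : PSL(2, k))) (hh : h ∈ H)
    (hha : mk h = (a : PSL(2, k)))
    (ha : a ∈ Subgroup.normalizer (((pslComp (x : PSL(2, k))).subgroupOf (proj H) : Subgroup _) : Set _))
    (hna : a ∉ (pslComp (x : PSL(2, k))).subgroupOf (proj H)) :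
    h * g * h⁻¹ = g⁻¹ := by
  have hgc : g ∉ Subgroup.center SL(2, k) :=
    mk_ne_one_iff.1 fun e => hx (Subtype.ext (hgx.symm.trans e))
  have hxx : x ∈ (pslComp (x : PSL(2, k))).subgroupOf (proj H) :=
    (mem_comp_iff x hgx x).2 ⟨g, hg, mem_cent.2 (Commute.refl g), hgx⟩
  obtain ⟨c, -, hc, hce⟩ := (mem_comp_iff x hgx _).1 ((Subgroup.mem_normalizer_iff.1 ha x).1 hxx)
  have hcg : Commute (h * g * h⁻¹) g := by
    have hm : mk (h * g * h⁻¹) = mk c := by
      rw [hce, map_mul, map_mul, map_inv, hha, hgx]; rfl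
    rcases mk_eq_mk.1 hm with e | e
    · rw [e]; exact mem_cent.1 hc
    · rw [e]; exact (mem_cent.1 hc).neg_left
  rcases eq_or_eq_inv_of_tr_eq (tr_sq_ne_four hgc (finOrder_of_mem hg)) hcg (tr_conj h g) with e | e
  · exact absurd ((mem_comp_iff x hgx a).2
      ⟨h, hh, mem_cent.2 (mul_inv_eq_iff_eq_mul.1 e), hha⟩) hna
  · exact e

/-- The partition of the image of a finite subgroup of `SL(2, k)` by its rotation axes. -/
theorem exists_partition (H : Subgroup SL(2, k)) [Finite H] {p : ℕ} [hp : Fact p.Prime]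
    (hpH : ¬ p ∣ Nat.card (proj H)) :
    ∃ P : Part.Partition (proj H) p,
      (∀ x, P.comp x = (pslComp (x : PSL(2, k))).subgroupOf (proj H)) ∧
      ∀ x, x ≠ 1 → ¬ IsPGroup p (P.comp x) := by
  haveI := finite_proj H
  let comp : proj H → Subgroup (proj H) := fun x => (pslComp (x : PSL(2, k))).subgroupOf (proj H)
  have hself : ∀ x, x ≠ 1 → x ∈ comp x := by
    intro x _
    obtain ⟨g, hg, hgx⟩ := exists_lift x
    exact (mem_comp_iff x hgx x).2 ⟨g, hg, mem_cent.2 (Commute.refl g), hgx⟩
  have hnp : ∀ x, x ≠ 1 → ¬ IsPGroup p (comp x) := by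
    intro x hx hP
    obtain ⟨n, hn⟩ := IsPGroup.iff_card.1 hP
    rcases n with _ | n
    · exact hx (Subgroup.mem_bot.1 (Subgroup.card_eq_one.1 (by rw [hn, pow_zero]) ▸ hself x hx))
    · exact hpH ((dvd_pow_self p (by omega)).trans (hn ▸ Subgroup.card_subgroup_dvd_card (comp x)))
  refine ⟨{
    comp := comp
    mem_self := hself
    eq_of_mem := ?_
    conj := ?_
    centralizer_p := fun x y hx hP => absurd hP (hnp x hx)
    cyclic := ?_
    inverting := ?_
    two := ?_
    borel := fun x y hx _ hP => absurd hP (hnp x hx) }, fun x => rfl, hnp⟩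
  · intro x y hx hy hy1
    obtain ⟨g, hg, hgx⟩ := exists_lift x
    obtain ⟨h, hh, hhy⟩ := exists_lift y
    obtain ⟨c, -, hc, hce⟩ := (mem_comp_iff x hgx y).1 hy
    have hgc : g ∉ Subgroup.center SL(2, k) :=
      mk_ne_one_iff.1 fun e => hx (Subtype.ext (hgx.symm.trans e))
    have hcc : c ∉ Subgroup.center SL(2, k) :=
      mk_ne_one_iff.1 fun e => hy1 (Subtype.ext (hce.symm.trans e))
    simp only [comp]
    rw [← hgx, ← hce, pslComp_mk, pslComp_mk, cent_eq_cent hgc hcc (mem_cent.1 hc)]
  · intro x a _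
    obtain ⟨g, hg, hgx⟩ := exists_lift x
    obtain ⟨h, hh, hha⟩ := exists_lift a
    ext y
    rw [Part.Partition.mem_map_conj]
    simp only [comp, Subgroup.mem_subgroupOf, Subgroup.coe_mul, Subgroup.coe_inv]
    rw [← hgx, ← hha, ← map_inv, ← map_mul, ← map_mul, pslComp_mk, pslComp_mk, cent_conj]
    obtain ⟨c, hc, hcy⟩ := exists_lift y
    rw [← hcy, ← map_mul, ← map_mul, mk_mem_map_iff (center_le_cent g),
      mk_mem_map_iff (((center_le_cent _).trans (le_of_eq (cent_conj h g))))]
    exact Part.Partition.mem_map_conj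
  · intro x hx _
    obtain ⟨g, hg, hgx⟩ := exists_lift x
    have hgc : g ∉ Subgroup.center SL(2, k) :=
      mk_ne_one_iff.1 fun e => hx (Subtype.ext (hgx.symm.trans e))
    refine ⟨?_, fun hd => hpH (hd.trans (Subgroup.card_subgroup_dvd_card _))⟩
    haveI := isCyclic_cent_inf hgc (finOrder_of_mem hg) H
    let f : ↥(cent g ⊓ H : Subgroup SL(2, k)) →* comp x :=
      { toFun := fun c => ⟨⟨mk c, ⟨c, c.2.2, rfl⟩⟩, (mem_comp_iff x hgx _).2 ⟨c, c.2.2, c.2.1, rfl⟩⟩
        map_one' := Subtype.ext (Subtype.ext (map_one mk))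
        map_mul' := fun c d => Subtype.ext (Subtype.ext (map_mul mk c.1 d.1)) }
    refine isCyclic_of_surjective f fun y => ?_
    obtain ⟨c, hc, hc', e⟩ := (mem_comp_iff x hgx _).1 y.2
    exact ⟨⟨c, hc', hc⟩, Subtype.ext (Subtype.ext e)⟩
  · intro x a hx _ ha hna
    obtain ⟨g, hg, hgx⟩ := exists_lift x
    obtain ⟨h, hh, hha⟩ := exists_lift a
    have hgc : g ∉ Subgroup.center SL(2, k) :=
      mk_ne_one_iff.1 fun e => hx (Subtype.ext (hgx.symm.trans e))
    have hinv := inverts_of_normalizes hx hg hgx hh hha ha hna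
    have hgh : Commute (h * h) g := by
      show h * h * g = g * (h * h)
      have h1 : h * g⁻¹ * h⁻¹ = g := by
        have := congrArg (·⁻¹) hinv
        simpa [mul_assoc] using this
      conv_rhs => rw [← h1]
      rw [← hinv]
      group
    have h1 := conj_eq_inv hgc hgh hinv
    rw [← mul_assoc, mul_inv_cancel_right] at h1
    constructor
    · apply Subtype.ext
      show (a : PSL(2, k)) * (a : PSL(2, k)) = 1
      rw [← hha, ← map_mul, mk_eq_one]
      exact eq_pm_of_mul_self_eq_one two_ne (by nth_rw 1 [h1]; exact inv_mul_cancel _)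
    · intro y hy
      obtain ⟨c, hc, hc', e⟩ := (mem_comp_iff x hgx y).1 hy
      apply Subtype.ext
      show (a : PSL(2, k)) * (y : PSL(2, k)) * (a : PSL(2, k))⁻¹ = (y : PSL(2, k))⁻¹
      rw [← hha, ← e, ← map_inv, ← map_inv, ← map_mul, ← map_mul,
        conj_eq_inv hgc (mem_cent.1 hc') hinv]
  · intro x a b hx _ ha hb hna hnb
    obtain ⟨g, hg, hgx⟩ := exists_lift x
    obtain ⟨h, hh, hha⟩ := exists_lift a
    obtain ⟨h', hh', hhb⟩ := exists_lift b
    refine (mem_comp_iff x hgx _).2 ⟨h * h', H.mul_mem hh hh', mem_cent.2 ?_, by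
      rw [map_mul, hha, hhb]; rfl⟩
    refine mul_inv_eq_iff_eq_mul.1 ?_
    rw [show h * h' * g * (h * h')⁻¹ = h * (h' * g * h'⁻¹) * h⁻¹ by group,
      inverts_of_normalizes hx hg hgx hh' hhb hb hnb, ← conj_inv,
      inverts_of_normalizes hx hg hgx hh hha ha hna, inv_inv]

/-- The shapes of the image of a finite subgroup. -/
theorem shapes (H : Subgroup SL(2, k)) [Finite H] :
    Subsingleton (proj H) ∨
    (∃ g ∈ H, g ∉ Subgroup.center SL(2, k) ∧ ∀ h ∈ H, Commute h g) ∨
    (∃ g ∈ H, g ∉ Subgroup.center SL(2, k) ∧ ∀ h ∈ H, Commute h g ∨ mk (h * h) = 1) ∨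
    Nonempty (proj H ≃* alternatingGroup (Fin 4)) ∨
    Nonempty (proj H ≃* Equiv.Perm (Fin 4)) ∨
    Nonempty (proj H ≃* alternatingGroup (Fin 5)) := by
  haveI := finite_proj H
  obtain ⟨p, hple, hp⟩ := Nat.exists_infinite_primes (Nat.card (proj H) + 1)
  haveI : Fact p.Prime := ⟨hp⟩
  obtain ⟨P, hcomp, hnp⟩ := exists_partition H (p := p) fun hd => by
    have := Nat.le_of_dvd Nat.card_pos hd
    omega
  have key : ∀ x : proj H, x ≠ 1 → ∃ g ∈ H, g ∉ Subgroup.center SL(2, k) ∧
      ∀ (h : SL(2, k)) (hh : h ∈ H), Commute h g ↔ (⟨mk h, h, hh, rfl⟩ : proj H) ∈ P.comp x := by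
    intro x hx
    obtain ⟨g, hg, hgx⟩ := exists_lift x
    refine ⟨g, hg, mk_ne_one_iff.1 fun e => hx (Subtype.ext (hgx.symm.trans e)), fun h hh => ?_⟩
    rw [hcomp, Subgroup.mem_subgroupOf, ← hgx, pslComp_mk, mk_mem_map_iff (center_le_cent g),
      mem_cent]
  rcases P.classify with h | ⟨x, hx, -, htop⟩ | ⟨x, hx, hT, htop, -⟩ | ⟨x, hx, hP, -⟩ | h | h | h |
    ⟨x, -, hx, hP, -⟩
  · exact Or.inl h
  · obtain ⟨g, hg, hgc, hk⟩ := key x hx
    exact Or.inr (Or.inl ⟨g, hg, hgc, fun h hh => (hk h hh).2 (htop ▸ Subgroup.mem_top _)⟩)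
  · obtain ⟨g, hg, hgc, hk⟩ := key x hx
    refine Or.inr (Or.inr (Or.inl ⟨g, hg, hgc, fun h hh => ?_⟩))
    by_cases hm : (⟨mk h, h, hh, rfl⟩ : proj H) ∈ P.comp x
    · exact Or.inl ((hk h hh).2 hm)
    · right
      have := congrArg Subtype.val
        (P.inverting x _ hx hT (htop ▸ Subgroup.mem_top _) hm).1
      rw [map_mul]
      exact this
  · exact absurd hP (hnp x hx)
  · exact Or.inr (Or.inr (Or.inr (Or.inl h)))
  · exact Or.inr (Or.inr (Or.inr (Or.inr (Or.inl h))))
  · exact Or.inr (Or.inr (Or.inr (Or.inr (Or.inr h))))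
  · exact absurd hP (hnp x hx)

theorem solvable_of_proj {H : Subgroup SL(2, k)} (h : Group.IsSolvable (proj H)) :
    Group.IsSolvable H := by
  haveI := h
  haveI : Group.IsSolvable (Subgroup.center H) :=
    Group.isSolvable_of_comm fun a b => Subtype.ext (Subgroup.mem_center_iff.1 b.2 a)
  refine Group.isSolvable_of_ker_le_range (Subgroup.center H).subtype (mk.subgroupMap H) ?_
  intro x hx
  have hx' : mk (x : SL(2, k)) = 1 := congrArg Subtype.val (MonoidHom.mem_ker.1 hx)
  refine ⟨⟨x, Subgroup.mem_center_iff.2 fun y => Subtype.ext ?_⟩, rfl⟩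
  exact Subgroup.mem_center_iff.1 (mem_center_iff_pm.2 (mk_eq_one.1 hx')) y

theorem alternatingFour_orders : ∀ g : alternatingGroup (Fin 4), g ^ 2 = 1 ∨ g ^ 3 = 1 := by
  decide +kernel

theorem alternatingFive_orders : ∀ g : alternatingGroup (Fin 5), g ^ 4 = 1 → g ^ 2 = 1 := by
  decide +kernel

/-- **Non-solvable finite subgroups** of `SL(2, k)` are copies of `SL(2, 5)`. -/
theorem mulEquiv_SL25 (H : Subgroup SL(2, k)) [Finite H] (hns : ¬ Group.IsSolvable H) :
    Nonempty (H ≃* SL(2, ZMod 5)) := by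
  haveI := finite_proj H
  have hAb : ∀ x, x ∈ H → ∀ y, y ∈ H → ∀ g, g ∉ Subgroup.center SL(2, k) → Commute x g →
      Commute y g → Commute x y := fun x _ y _ g hg hx hy => cent_comm hg hx hy
  have h5 : Nonempty (proj H ≃* alternatingGroup (Fin 5)) := by
    rcases shapes H with h | ⟨g, -, hg, hc⟩ | ⟨g, hgH, hg, hc⟩ | ⟨⟨e⟩⟩ | ⟨⟨e⟩⟩ | h
    · exact absurd (solvable_of_proj (Group.isSolvable_of_comm fun a b => Subsingleton.elim _ _)) hns
    · exact absurd (Group.isSolvable_of_comm fun a b : H =>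
        Subtype.ext (hAb a a.2 b b.2 g hg (hc a a.2) (hc b b.2)).eq) hns
    · -- a dihedral image: the derived group lies in the centraliser of `g`
      refine absurd (solvable_of_proj ?_) hns
      let g' : proj H := ⟨mk g, g, hgH, rfl⟩
      have hsq : ∀ a : proj H, (∃ c ∈ H, Commute c g ∧ mk c = (a : PSL(2, k))) ∨ a * a = 1 := by
        intro a
        obtain ⟨c, hc', e⟩ := exists_lift a
        rcases hc c hc' with h | h
        · exact Or.inl ⟨c, hc', h, e⟩
        · right
          apply Subtype.ext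
          show (a : PSL(2, k)) * (a : PSL(2, k)) = 1
          rw [← e, ← map_mul]; exact h
      let C : Subgroup (proj H) := ((cent g).map mk).subgroupOf (proj H)
      have hC : ∀ a b : proj H, a ∈ C → b ∈ C → a * b = b * a := by
        rintro a b ha hb
        obtain ⟨c, hc1, e⟩ := Subgroup.mem_subgroupOf.1 ha
        obtain ⟨d, hd1, f⟩ := Subgroup.mem_subgroupOf.1 hb
        apply Subtype.ext
        show (a : PSL(2, k)) * (b : PSL(2, k)) = b * a
        rw [← e, ← f, ← map_mul, ← map_mul, (cent_comm hg (mem_cent.1 hc1) (mem_cent.1 hd1)).eq]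
      have hout : ∀ a : proj H, a ∉ C → a * a = 1 := fun a ha => (hsq a).resolve_left
        fun ⟨c, hc', hcg, e⟩ => ha (Subgroup.mem_subgroupOf.2 ⟨c, mem_cent.2 hcg, e⟩)
      haveI hCn : C.Normal := by
        refine ⟨fun c hc a => ?_⟩
        by_cases ha : a ∈ C
        · exact C.mul_mem (C.mul_mem ha hc) (C.inv_mem ha)
        have hac : a * c ∉ C := fun h => ha (by simpa [mul_assoc] using C.mul_mem h (C.inv_mem hc))
        have hinv : a⁻¹ = a := inv_eq_of_mul_eq_one_right (hout a ha)
        have h2 := hout _ hac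
        have : a * c * a = c⁻¹ := eq_inv_of_mul_eq_one_left (by rw [← h2]; group)
        rw [hinv, this]
        exact C.inv_mem hc
      haveI : Group.IsSolvable C := Group.isSolvable_of_comm fun a b => Subtype.ext (hC a b a.2 b.2)
      haveI : Group.IsSolvable (proj H ⧸ C) := by
        refine Group.isSolvable_of_comm fun a b => ?_
        have hsq' : ∀ q : proj H ⧸ C, q * q = 1 ∨ q = 1 := by
          intro q
          obtain ⟨x, rfl⟩ := QuotientGroup.mk'_surjective C q
          by_cases hx : x ∈ C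
          · exact Or.inr ((QuotientGroup.eq_one_iff x).2 hx)
          · left
            rw [← map_mul, hout x hx, map_one]
        have h1 : ∀ q : proj H ⧸ C, q * q = 1 := fun q => (hsq' q).elim id fun e => by rw [e, one_mul]
        have i : ∀ q : proj H ⧸ C, q⁻¹ = q := fun q => inv_eq_of_mul_eq_one_right (h1 q)
        calc a * b = (a * b)⁻¹ := (i _).symm
          _ = b * a := by rw [_root_.mul_inv_rev, i, i]
      exact Group.isSolvable_of_ker_le_range C.subtype (QuotientGroup.mk' C) (by simp)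
    · refine absurd (solvable_of_proj ?_) hns
      haveI : Group.IsSolvable (alternatingGroup (Fin 4)) :=
        CharInt.isSolvable_of_card_eq (p := 2) (q := 3) (a := 2) (b := 1) Nat.prime_two Nat.prime_three
          (by rw [nat_card_alternatingGroup, Nat.card_fin]; decide)
      exact Group.isSolvable_of_isSolvable_injective (f := e.toMonoidHom) e.injective
    · refine absurd (solvable_of_proj ?_) hns
      haveI : Group.IsSolvable (Equiv.Perm (Fin 4)) :=
        CharInt.isSolvable_of_card_eq (p := 2) (q := 3) (a := 3) (b := 1) Nat.prime_two Nat.prime_three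
          (by rw [Nat.card_perm, Nat.card_fin]; decide)
      exact Group.isSolvable_of_isSolvable_injective (f := e.toMonoidHom) e.injective
    · exact h
  obtain ⟨e⟩ := h5
  have hQ : Nat.card (proj H) = 60 := by
    rw [Nat.card_congr e.toEquiv, nat_card_alternatingGroup, Nat.card_fin]; decide
  have hneg : (-1 : SL(2, k)) ∈ H := by
    by_contra hn
    have hinj : Function.Injective (mk.subgroupMap H) := by
      rw [injective_iff_map_eq_one]
      intro x hx
      rcases mk_eq_one.1 (congrArg Subtype.val hx : mk (x : SL(2, k)) = 1) with h | h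
      · exact Subtype.ext h
      · exact absurd (h ▸ x.2) hn
    obtain ⟨t, ht⟩ := exists_prime_orderOf_dvd_card' 2 (G := H) (by
      rw [Nat.card_congr (Equiv.ofBijective _ ⟨hinj, MonoidHom.subgroupMap_surjective mk H⟩), hQ]
      norm_num)
    have := eq_neg_one_of_orderOf_eq_two two_ne (g := (t : SL(2, k))) (by rwa [Subgroup.orderOf_coe])
    exact hn (this ▸ t.2)
  have hcard : Nat.card H = 120 := by
    let f := mk.subgroupMap H
    have hk : Nat.card f.ker = 2 := by
      have : f.ker = Subgroup.zpowers (⟨-1, hneg⟩ : H) := by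
        ext x
        rw [MonoidHom.mem_ker]
        constructor
        · intro hx
          rcases mk_eq_one.1 (congrArg Subtype.val hx : mk (x : SL(2, k)) = 1) with h | h
          · rw [show x = 1 from Subtype.ext h]; exact one_mem _
          · rw [show x = ⟨-1, hneg⟩ from Subtype.ext h]; exact Subgroup.mem_zpowers _
        · rintro ⟨n, rfl⟩
          rw [map_zpow, show f ⟨-1, hneg⟩ = 1 from Subtype.ext mk_neg_one, _root_.one_zpow]
      rw [this, Nat.card_zpowers, ← Subgroup.orderOf_coe, orderOf_neg_one two_ne]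
    rw [← f.ker.card_mul_index, hk, Subgroup.index_ker,
      MonoidHom.range_eq_top.2 (MonoidHom.subgroupMap_surjective mk H), Subgroup.card_top, hQ]
  refine Cfsg.Agent.S3378.result.1 H hcard hns fun P => ?_
  have hPc : Nat.card (P : Subgroup H) = 2 ^ 3 := by
    rw [P.card_eq_multiplicity, hcard]
    congr 1
    rw [show (120 : ℕ) = 2 ^ 3 * 15 by norm_num, Nat.factorization_mul (by norm_num) (by norm_num),
      Nat.Prime.factorization_pow Nat.prime_two]
    simp [Nat.factorization_eq_zero_of_not_dvd (show ¬ 2 ∣ 15 by norm_num)]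
  have huniq : ∀ A B : Subgroup P, Nat.card A = 2 → Nat.card B = 2 → A = B := by
    have key : ∀ A : Subgroup P, Nat.card A = 2 → ∀ a : P, a ∈ A ↔
        ((a : H) : SL(2, k)) = 1 ∨ ((a : H) : SL(2, k)) = -1 := by
      intro A hA a
      obtain ⟨t, ht⟩ := exists_prime_orderOf_dvd_card' 2 (G := A) (by rw [hA])
      have hz : (((t : P) : H) : SL(2, k)) = -1 := eq_neg_one_of_orderOf_eq_two two_ne
        (by rw [Subgroup.orderOf_coe, Subgroup.orderOf_coe, Subgroup.orderOf_coe, ht])
      constructor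
      · intro ha
        have h2 : a ^ 2 = 1 := by
          have := pow_card_eq_one' (x := (⟨a, ha⟩ : A))
          rw [hA] at this
          simpa using congrArg Subtype.val this
        exact eq_pm_of_mul_self_eq_one two_ne
          (by simpa [pow_two] using congrArg (fun x : P => ((x : H) : SL(2, k))) h2)
      · rintro (h | h)
        · rw [show a = 1 from Subtype.ext (Subtype.ext h)]; exact A.one_mem
        · rw [show a = (t : P) from Subtype.ext (Subtype.ext (h.trans hz.symm))]; exact t.2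
    exact fun A B hA hB => Subgroup.ext fun a => (key A hA a).trans (key B hB a).symm
  rcases PGroup.cyclic_or_quaternion_of_unique P.2 huniq with hc | ⟨-, n, hn, hcn, hq⟩
  · exfalso
    obtain ⟨a, ha⟩ := hc.exists_generator
    have ho : orderOf a = 8 := by
      rw [orderOf_eq_card_of_forall_mem_zpowers ha, hPc]; norm_num
    set b : H := (a : H) with hb
    have hb8 : orderOf b = 8 := by rw [hb, Subgroup.orderOf_coe, ho]
    have h8 : b ^ 8 = 1 := hb8 ▸ pow_orderOf_eq_one b
    have h4 : (b : SL(2, k)) ^ 4 * (b : SL(2, k)) ^ 4 = 1 := by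
      rw [← pow_add]; exact congrArg Subtype.val h8
    have hm : (mk.subgroupMap H b) ^ 4 = 1 := by
      apply Subtype.ext
      show mk (b : SL(2, k)) ^ 4 = 1
      rw [← map_pow]
      exact mk_eq_one.2 (eq_pm_of_mul_self_eq_one two_ne h4)
    have hm2 : (mk.subgroupMap H b) ^ 2 = 1 := e.injective (by
      rw [map_pow, map_one]
      exact alternatingFive_orders _ (by rw [← map_pow, hm, map_one]))
    have hb4 : b ^ 4 = 1 := by
      have : mk ((b : SL(2, k)) ^ 2) = 1 := by
        rw [map_pow]; exact congrArg Subtype.val hm2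
      apply Subtype.ext
      show (b : SL(2, k)) ^ 4 = 1
      rcases mk_eq_one.1 this with h | h <;> rw [show 4 = 2 * 2 from rfl, pow_mul, h] <;> simp
    have := orderOf_dvd_of_pow_eq_one hb4
    rw [hb8] at this
    norm_num at this
  · obtain ⟨n, rfl⟩ : ∃ m, n = m + 1 := ⟨n - 1, by omega⟩
    rw [hPc] at hcn
    have := Nat.pow_right_injective (le_refl 2) hcn
    obtain rfl : n = 0 := by omega
    exact hq

set_option maxHeartbeats 1000000 in
/-- The orders of elements of a non-solvable finite subgroup, modulo the centre. -/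
theorem orders_of_not_solvable (H : Subgroup SL(2, k)) [Finite H] (hns : ¬ Group.IsSolvable H)
    (g : SL(2, k)) (hg : g ∈ H) (c : SL(2, k)) (hc : c ∈ H) :
    (mk (g ^ 2) = 1 ∨ mk (g ^ 3) = 1 ∨ mk (g ^ 5) = 1) ∧
      (mk (c ^ 2) = 1 ∨ mk (c ^ 3) = 1 ∨ mk (c ^ 5) = 1) := by
  obtain ⟨E⟩ := mulEquiv_SL25 H hns
  have horders : ∀ q : SL(2, ZMod 5), q ^ 4 = 1 ∨ q ^ 6 = 1 ∨ q ^ 10 = 1 := by decide +kernel
  have key : ∀ a, a ∈ H → mk (a ^ 2) = 1 ∨ mk (a ^ 3) = 1 ∨ mk (a ^ 5) = 1 := by
    intro a ha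
    have hq : ∀ n, E ⟨a, ha⟩ ^ (n * 2) = 1 → mk (a ^ n) = 1 := fun n hn => by
      rw [← map_pow, MulEquiv.map_eq_one_iff] at hn
      have h1 : a ^ n * a ^ n = 1 := by
        rw [← pow_add, ← mul_two]; exact congrArg Subtype.val hn
      exact mk_eq_one.2 (eq_pm_of_mul_self_eq_one two_ne h1)
    rcases horders (E ⟨a, ha⟩) with h | h | h
    exacts [Or.inl (hq 2 h), Or.inr (Or.inl (hq 3 h)), Or.inr (Or.inr (hq 5 h))]
  exact ⟨key g hg, key c hc⟩

/-- An element whose square, cube or fifth power is central. -/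
theorem tr_cases {g : SL(2, k)} (h : mk (g ^ 2) = 1 ∨ mk (g ^ 3) = 1 ∨ mk (g ^ 5) = 1) :
    g = 1 ∨ g = -1 ∨ tr g = 0 ∨ tr g ^ 2 = 1 ∨ tr g ^ 4 - 3 * tr g ^ 2 + 1 = 0 := by
  by_cases hc : g ∈ Subgroup.center SL(2, k)
  · rcases mem_center_iff_pm.1 hc with h | h
    exacts [Or.inl h, Or.inr (Or.inl h)]
  obtain ⟨s00, s01, s10, s11⟩ := sq_entries g
  have hd := det_eq g
  set t := tr g with ht
  have htd : t = g 0 0 + g 1 1 := rfl
  -- `g ^ (n + 1) = p n • g - p (n - 1)`
  have key : ∀ (n : ℕ) (e : k), (mk (g ^ n) = 1) → (g ^ n) 0 1 = e * g 0 1 → (g ^ n) 1 0 = e * g 1 0 →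
      (g ^ n) 0 0 - (g ^ n) 1 1 = e * (g 0 0 - g 1 1) → e = 0 := by
    intro n e hn a b c
    have hz : (g ^ n) 0 1 = 0 ∧ (g ^ n) 1 0 = 0 ∧ (g ^ n) 0 0 = (g ^ n) 1 1 :=
      mem_center_iff_entries.1 (mem_center_iff_pm.2 (mk_eq_one.1 hn))
    by_contra he
    refine hc (mem_center_iff_entries.2 ⟨?_, ?_, ?_⟩)
    · exact (mul_eq_zero.1 (a.symm.trans hz.1)).resolve_left he
    · exact (mul_eq_zero.1 (b.symm.trans hz.2.1)).resolve_left he
    · exact sub_eq_zero.1 ((mul_eq_zero.1 (c.symm.trans (sub_eq_zero.2 hz.2.2))).resolve_left he)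
  have e2 : g ^ 2 = g * g := pow_two g
  have e3 : g ^ 3 = g * g * g := by rw [pow_succ, pow_two]
  have e5 : g ^ 5 = g * g * g * (g * g) := by rw [← e3, ← e2, ← pow_add]
  right; right
  rcases h with h | h | h
  · left
    refine key 2 t h ?_ ?_ ?_ <;> rw [e2] <;> simp only [s00, s01, s10, s11] <;> ring
  · right; left
    refine sub_eq_zero.1 (key 3 (t ^ 2 - 1) h ?_ ?_ ?_) <;> rw [e3] <;>
      simp only [mul00 (g * g), mul01 (g * g), mul10 (g * g), mul11 (g * g), s00, s01, s10, s11] <;>
      first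
      | linear_combination (-(t * g 0 1)) * htd
      | linear_combination (-(t * g 1 0)) * htd
      | linear_combination (-(t * g 0 0) + t * g 1 1) * htd
  · right; right
    refine key 5 _ h ?_ ?_ ?_ <;> rw [e5] <;>
      simp only [mul00 (g * g * g), mul01 (g * g * g), mul10 (g * g * g), mul11 (g * g * g),
        mul00 (g * g) g, mul01 (g * g) g, mul10 (g * g) g, mul11 (g * g) g, s00, s01, s10, s11] <;>
      grind

theorem commute_of_mul_central {x y : SL(2, k)} (h : x * y = 1 ∨ x * y = -1) : Commute x y := by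
  rcases h with h | h
  · rw [show y = x⁻¹ from (inv_eq_of_mul_eq_one_right h).symm]
    exact (Commute.refl x).inv_right
  · rw [show y = x⁻¹ * -1 by rw [← h]; group]
    exact ((Commute.refl x).inv_right).mul_right (commute_neg_one x).symm

/-- The product of two non-commuting elements of order three in a finite subgroup. -/
theorem product_cases (x y : SL(2, k)) (hx : x ^ 3 = 1) (hy : y ^ 3 = 1) (hnc : ¬ Commute x y)
    (hxy : mk ((x * y) ^ 2) = 1 ∨ mk ((x * y) ^ 3) = 1 ∨ mk ((x * y) ^ 5) = 1)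
    (hcm : mk (⁅x, y⁆ ^ 2) = 1 ∨ mk (⁅x, y⁆ ^ 3) = 1 ∨ mk (⁅x, y⁆ ^ 5) = 1) :
    (x * y) ^ 2 = -1 ∨ (x * y) ^ 3 = -1 ∨ (x * y) ^ 5 = -1 := by
  have hx1 : x ≠ 1 := fun h => hnc (h ▸ Commute.one_left y)
  have hy1 : y ≠ 1 := fun h => hnc (h ▸ Commute.one_right x)
  have tx := tr_of_cube hx hx1
  have ty := tr_of_cube hy hy1
  have hne : ¬ (x * y = 1 ∨ x * y = -1) := fun h => hnc (commute_of_mul_central h)
  set c := ⁅x, y⁆ with hcd
  have hc1 : c ≠ 1 := fun h => hnc (commutatorElement_eq_one_iff_mul_comm.1 h)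
  have htc : tr c = tr (x * y) ^ 2 - tr (x * y) := by
    have h : tr ⁅x, y⁆ = tr x ^ 2 + tr y ^ 2 + tr (x * y) ^ 2 - tr x * tr y * tr (x * y) - 2 := by
      have dx := det_eq x
      have dy := det_eq y
      rw [commutatorElement_def]
      simp only [tr_def, mul00, mul01, mul10, mul11, inv00, inv01, inv10, inv11]
      grind
    rw [hcd, h, tx, ty]; ring
  obtain ⟨s00, s01, s10, s11⟩ := sq_entries (x * y)
  set g := x * y with hgd
  set t := tr g with ht
  have htd : t = g 0 0 + g 1 1 := rfl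
  have hcfin : IsOfFinOrder c := by
    have : ∀ n, 0 < n → mk (c ^ n) = 1 → IsOfFinOrder c := fun n hn h => by
      refine isOfFinOrder_iff_pow_eq_one.2 ⟨n * 2, by omega, ?_⟩
      rw [pow_mul, pow_two]
      rcases mk_eq_one.1 h with h | h <;> rw [h] <;> simp
    rcases hcm with h | h | h
    exacts [this 2 (by norm_num) h, this 3 (by norm_num) h, this 5 (by norm_num) h]
  rcases tr_cases hxy with h | h | h | h | h
  · exact absurd (Or.inl h) hne
  · exact absurd (Or.inr h) hne
  · left; rw [pow_two]; exact sq_eq_neg_one_of_tr_eq_zero h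
  · rcases sq_eq_one_iff.1 h with h1 | h1
    · right; left
      rw [pow_succ, pow_two]
      refine ext2 ?_ ?_ ?_ ?_ <;>
        simp only [mul00 (g * g), mul01 (g * g), mul10 (g * g), mul11 (g * g), s00, s01, s10, s11,
          Matrix.SpecialLinearGroup.coe_neg, Matrix.neg_apply, Matrix.SpecialLinearGroup.coe_one,
          Matrix.one_apply_eq, Matrix.one_apply_ne (by decide : (0 : Fin 2) ≠ 1),
          Matrix.one_apply_ne (by decide : (1 : Fin 2) ≠ 0), ← ht] <;>
        grind [det_eq g]
    · exfalso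
      exact hnc (commute_of_tr tx ty h1 hcfin)
  · by_cases hgood : t ^ 2 - t - 1 = 0
    · right; right
      have e5 : g ^ 5 = g * g * g * (g * g) := by rw [← pow_two, ← pow_succ, ← pow_add]
      rw [e5]
      refine ext2 ?_ ?_ ?_ ?_ <;>
        simp only [mul00 (g * g * g), mul01 (g * g * g), mul10 (g * g * g), mul11 (g * g * g),
          mul00 (g * g) g, mul01 (g * g) g, mul10 (g * g) g, mul11 (g * g) g, s00, s01, s10, s11,
          Matrix.SpecialLinearGroup.coe_neg, Matrix.neg_apply, Matrix.SpecialLinearGroup.coe_one,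
          Matrix.one_apply_eq, Matrix.one_apply_ne (by decide : (0 : Fin 2) ≠ 1),
          Matrix.one_apply_ne (by decide : (1 : Fin 2) ≠ 0), ← ht] <;>
        grind [det_eq g]
    · exfalso
      have hbad : t ^ 2 + t - 1 = 0 := (mul_eq_zero.1
        (show (t ^ 2 - t - 1) * (t ^ 2 + t - 1) = 0 by linear_combination h)).resolve_left hgood
      have hu : tr c ^ 2 - 4 * tr c - 1 = 0 := by
        rw [htc]; linear_combination (t ^ 2 - 3 * t + 1) * hbad
      rcases tr_cases hcm with e | e | e | e | e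
      · exact hc1 e
      · rw [e, tr_neg, tr_one] at hu; norm_num at hu
      · rw [e] at hu; norm_num at hu
      · have : tr c = 0 := by linear_combination (-(1 / 4) : k) * hu + (1 / 4 : k) * e
        rw [this] at e; norm_num at e
      · have h60 : tr c = -(1 / 4) := by
          linear_combination (1 / 60 : k) * e - (1 / 60 : k) * (tr c ^ 2 + 4 * tr c + 14) * hu
        rw [h60] at hu; norm_num at hu

/-- Two non-commuting elements of order three generating a solvable group: the product has order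
four or six. -/
theorem mul_pair (x y : SL(2, k)) (hx : x ^ 3 = 1) (hy : y ^ 3 = 1) (hnc : ¬ Commute x y)
    [Finite (Subgroup.closure {x, y} : Subgroup SL(2, k))]
    (hsol : Group.IsSolvable (Subgroup.closure {x, y} : Subgroup SL(2, k))) :
    (x * y) ^ 2 = -1 ∨ (x * y) ^ 3 = -1 := by
  set H : Subgroup SL(2, k) := Subgroup.closure {x, y} with hH
  haveI := finite_proj H
  have hxH : x ∈ H := Subgroup.subset_closure (by simp)
  have hyH : y ∈ H := Subgroup.subset_closure (by simp)
  have hx1 : x ≠ 1 := fun h => hnc (h ▸ Commute.one_left y)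
  have hy1 : y ≠ 1 := fun h => hnc (h ▸ Commute.one_right x)
  have hcube : ∀ z : SL(2, k), z ^ 3 = 1 → mk (z * z) = 1 → z = 1 := by
    intro z hz h
    have h' : (z * z) = 1 ∨ (z * z) = -1 := mk_eq_one.1 h
    have e : z = (z * z) * (z * z) := by
      rw [show z * z * (z * z) = z ^ 3 * z by simp [pow_succ, mul_assoc], hz, one_mul]
    rcases h' with h' | h' <;> rw [e, h'] <;> simp
  rcases shapes H with h | ⟨g, -, hg, hc⟩ | ⟨g, -, hg, hc⟩ | ⟨⟨e⟩⟩ | ⟨⟨e⟩⟩ | ⟨⟨e⟩⟩
  · refine absurd ?_ hnc
    have h1 : mk x = 1 := congrArg Subtype.val (Subsingleton.elim (⟨mk x, x, hxH, rfl⟩ : proj H) 1)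
    exact ((Subgroup.mem_center_iff.1 (mem_center_iff_pm.2 (mk_eq_one.1 h1))) y).symm
  · exact absurd (cent_comm hg (hc x hxH) (hc y hyH)) hnc
  · refine absurd (cent_comm hg ((hc x hxH).resolve_right fun h => hx1 (hcube x hx h))
      ((hc y hyH).resolve_right fun h => hy1 (hcube y hy h))) hnc
  · set q : proj H := ⟨mk (x * y), x * y, H.mul_mem hxH hyH, rfl⟩
    have hq : q ^ 2 = 1 ∨ q ^ 3 = 1 := by
      rcases alternatingFour_orders (e q) with h | h
      · exact Or.inl (e.injective (by rw [map_pow, h, map_one]))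
      · exact Or.inr (e.injective (by rw [map_pow, h, map_one]))
    rcases hq with h | h
    · left
      have h' : mk ((x * y) ^ 2) = 1 := by rw [map_pow]; exact congrArg Subtype.val h
      refine (mk_eq_one.1 h').resolve_left fun h1 => hnc ?_
      rw [pow_two] at h1
      rcases eq_pm_of_mul_self_eq_one two_ne h1 with h1 | h1
      · rw [show y = x⁻¹ from (inv_eq_of_mul_eq_one_right h1).symm]
        exact (Commute.refl x).inv_right
      · rw [show y = x⁻¹ * -1 by rw [← h1]; group]
        exact ((Commute.refl x).inv_right).mul_right (commute_neg_one x).symm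
    · right
      have h' : mk ((x * y) ^ 3) = 1 := by rw [map_pow]; exact congrArg Subtype.val h
      refine (mk_eq_one.1 h').resolve_left fun h1 => hnc ?_
      by_cases hone : x * y = 1
      · rw [show y = x⁻¹ from (inv_eq_of_mul_eq_one_right hone).symm]
        exact (Commute.refl x).inv_right
      · refine commute_of_tr (tr_of_cube hx hx1) (tr_of_cube hy hy1) (tr_of_cube h1 hone) ?_
        have : ⁅x, y⁆ ∈ H := H.mul_mem (H.mul_mem (H.mul_mem hxH hyH) (H.inv_mem hxH)) (H.inv_mem hyH)
        exact finOrder_of_mem this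
  · exfalso
    let f : H →* ℤˣ := (Equiv.Perm.sign.comp e.toMonoidHom).comp (mk.subgroupMap H)
    have hf : ∀ z : H, (z : SL(2, k)) ^ 3 = 1 → f z = 1 := by
      intro z hz
      have h3 : f z ^ 3 = 1 := by
        rw [← map_pow, show z ^ 3 = 1 from Subtype.ext hz, map_one]
      rcases Int.units_eq_one_or (f z) with h | h
      · exact h
      · rw [h] at h3; exact absurd h3 (by decide)
    have hle : H ≤ f.ker.map H.subtype := (Subgroup.closure_le _).2 (by
      rintro z (rfl | rfl)
      · exact ⟨⟨z, hxH⟩, hf ⟨z, hxH⟩ hx, rfl⟩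
      · exact ⟨⟨z, hyH⟩, hf ⟨z, hyH⟩ hy, rfl⟩)
    obtain ⟨s, hs⟩ := Equiv.Perm.sign_surjective (Fin 4) (-1)
    obtain ⟨z, hz⟩ := MonoidHom.subgroupMap_surjective mk H (e.symm s)
    have : f z = -1 := by
      show Equiv.Perm.sign (e (mk.subgroupMap H z)) = -1
      rw [hz, e.apply_symm_apply, hs]
    obtain ⟨z', hz', e'⟩ := hle z.2
    rw [← show z' = z from Subtype.ext e', MonoidHom.mem_ker.1 hz'] at this
    exact absurd this (by decide)
  · exfalso
    haveI := hsol
    have h1 : Group.IsSolvable (proj H) :=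
      Group.isSolvable_of_surjective (f := mk.subgroupMap H) (MonoidHom.subgroupMap_surjective mk H)
    haveI := h1
    have h2 : Group.IsSolvable (alternatingGroup (Fin 5)) :=
      Group.isSolvable_of_surjective (f := e.toMonoidHom) e.surjective
    haveI : IsSimpleGroup (alternatingGroup (Fin 5)) := alternatingGroup.isSimpleGroup_five
    obtain ⟨a, b, hab⟩ : ∃ a b : alternatingGroup (Fin 5), a * b ≠ b * a := by decide +kernel
    exact hab (IsSimpleGroup.comm_iff_isSolvable.2 h2 a b)

end CharZero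

end Cfsg.Agent.BinaryPolyhedral
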