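import Mathlib
import Cfsg.Agent.Lib.Frobenius.BinaryPolyhedral

/-!
# Fixed-point-free linear representations: pairs of elements of order three

For a fixed-point-free representation in characteristic zero, two non-commuting elements `x, y` of
order three generate a group that embeds in `SL(2, k)`.
-/

set_option autoImplicit false
set_option linter.style.haveILetI false
set_option linter.unusedSectionVars false

open Module Module.End
open scoped MatrixGroups

namespace Cfsg.Agent.FpfRep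

variable {k : Type} [Field k] {V : Type} [AddCommGroup V] [Module k V] {G : Type*} [Group G]

/-- No element but `1` fixes a vector but `0`. -/
def IsFpfRep (ρ : G →* Module.End k V) : Prop :=
  ∀ g : G, g ≠ 1 → ∀ v : V, ρ g v = v → v = 0

variable {ρ : G →* Module.End k V} (hρ : IsFpfRep ρ)

theorem ker_eq {g h : G} (he : ρ g = ρ h) [Nontrivial V] (hρ : IsFpfRep ρ) : g = h := by
  by_contra hne
  obtain ⟨v, hv⟩ := exists_ne (0 : V)
  refine hv (hρ (h⁻¹ * g) (fun e => hne (inv_mul_eq_one.1 e).symm) v ?_)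
  rw [map_mul, Module.End.mul_apply, he, ← Module.End.mul_apply, ← map_mul, inv_mul_cancel, map_one,
    Module.End.one_apply]

include hρ

theorem comp_subgroup (H : Subgroup G) : IsFpfRep (ρ.comp H.subtype) :=
  fun g hg v hv => hρ (g : G) (fun e => hg (Subtype.ext e)) v hv

theorem eq_zero_of_fix {g : G} (hg : g ≠ 1) {T : Module.End k V} (h : ρ g * T = T) : T = 0 :=
  LinearMap.ext fun v => hρ g hg (T v) (LinearMap.congr_fun h v)

theorem rho_involution {g : G} (h2 : g ^ 2 = 1) (h1 : g ≠ 1) : ρ g = -1 := by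
  have hsq : ρ g * ρ g = 1 := by rw [← map_mul, ← pow_two, h2, map_one]
  refine eq_neg_of_add_eq_zero_left (eq_zero_of_fix hρ h1 (T := ρ g + 1) ?_)
  rw [mul_add, hsq, mul_one, add_comm]

theorem rho_cube {g : G} (h3 : g ^ 3 = 1) (h1 : g ≠ 1) : ρ g * ρ g + ρ g + 1 = 0 := by
  have hc : ρ g * ρ g * ρ g = 1 := by
    rw [← map_mul, ← map_mul, ← pow_two, ← pow_succ, h3, map_one]
  refine eq_zero_of_fix hρ h1 ?_
  rw [mul_add, mul_add, ← mul_assoc, hc, mul_one]
  abel

theorem rho_sq {g : G} (h4 : g ^ 4 = 1) (h2 : g ^ 2 ≠ 1) : ρ g * ρ g = -1 := by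
  rw [← map_mul, ← pow_two]
  exact rho_involution hρ (by rw [← pow_mul]; exact h4) h2

theorem rho_six {g : G} (h6 : g ^ 6 = 1) (h3 : g ^ 3 ≠ 1) (h2 : g ^ 2 ≠ 1) :
    ρ g * ρ g - ρ g + 1 = 0 := by
  have hc : ρ g * ρ g * ρ g = -1 := by
    rw [← map_mul, ← map_mul, ← pow_two, ← pow_succ]
    exact rho_involution hρ (by rw [← pow_mul]; exact h6) h3
  have h4 : g ^ 4 ≠ 1 := fun e => h2 (by
    have := h6
    rw [show 6 = 4 + 2 from rfl, pow_add, e, one_mul] at this
    exact this)
  have hT : ρ g * (ρ g * ρ g - ρ g + 1) = -(ρ g * ρ g - ρ g + 1) := by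
    linear_combination (norm := noncomm_ring) hc
  refine eq_zero_of_fix hρ h4 ?_
  rw [map_pow, show 4 = 1 + 1 + 1 + 1 from rfl, pow_succ, pow_succ, pow_succ, pow_one, mul_assoc, hT,
    mul_neg, mul_assoc, hT, mul_neg, neg_neg, mul_assoc, hT, mul_neg, hT, neg_neg]

theorem commute_of_common_eigenvector {x y : G} {v : V} (hv : v ≠ 0) {c d : k} (hx : ρ x v = c • v)
    (hy : ρ y v = d • v) : x * y = y * x := by
  by_contra hne
  refine hv (hρ ((y * x)⁻¹ * (x * y)) (fun e => hne (inv_mul_eq_one.1 e).symm) v ?_)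
  have h : ρ (x * y) v = ρ (y * x) v := by
    rw [map_mul, map_mul, Module.End.mul_apply, Module.End.mul_apply, hy, hx, map_smul, map_smul, hx,
      hy, smul_comm]
  rw [map_mul, Module.End.mul_apply, h, ← Module.End.mul_apply, ← map_mul, inv_mul_cancel, map_one,
    Module.End.one_apply]

theorem eq_or_eq_inv_of_commute {x y : G} (hx : x ^ 3 = 1) (hy : y ^ 3 = 1) (hx1 : x ≠ 1)
    (hy1 : y ≠ 1) (hc : x * y = y * x) [Nontrivial V] : x = y ∨ x = y⁻¹ := by
  by_contra h
  push Not at h
  have hX := rho_cube hρ hx hx1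
  have hY := rho_cube hρ hy hy1
  have hXY : ρ x * ρ y = ρ y * ρ x := by rw [← map_mul, ← map_mul, hc]
  have hYi : ρ y⁻¹ = -1 - ρ y := by
    have : ρ y⁻¹ = ρ y * ρ y := by
      rw [← map_mul]; congr 1
      exact inv_eq_of_mul_eq_one_right (by rw [← mul_assoc, ← pow_three', hy])
    rw [this]; linear_combination (norm := abel) hY
  have h0 : (ρ x - ρ y) * (ρ x - ρ y⁻¹) = 0 := by
    rw [hYi]
    linear_combination (norm := noncomm_ring) hX - hY + hXY
  have h2 : ρ x - ρ y⁻¹ = 0 := LinearMap.ext fun v => by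
    have h1 : (ρ x - ρ y) ((ρ x - ρ y⁻¹) v) = 0 := LinearMap.congr_fun h0 v
    refine hρ (y⁻¹ * x) (fun e => h.1 (inv_mul_eq_one.1 e).symm) _ ?_
    rw [LinearMap.sub_apply, sub_eq_zero] at h1
    rw [map_mul, Module.End.mul_apply, h1, ← Module.End.mul_apply, ← map_mul, inv_mul_cancel, map_one,
      Module.End.one_apply]
  exact h.2 (ker_eq (sub_eq_zero.1 h2) hρ)

omit hρ

/-- The matrices recording the action of pairs on the plane spanned by `v, u`. -/
def planeGraph (ρ : G →* Module.End k V) (v u : V) : Subgroup (G × SL(2, k)) where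
  carrier := {p | ρ p.1 v = p.2 0 0 • v + p.2 1 0 • u ∧ ρ p.1 u = p.2 0 1 • v + p.2 1 1 • u}
  one_mem' := by simp
  mul_mem' := by
    rintro ⟨g, M⟩ ⟨h, N⟩ ⟨a, b⟩ ⟨c, d⟩
    simp only [Set.mem_setOf_eq, Prod.mk_mul_mk, map_mul, Module.End.mul_apply, c, d, map_add, map_smul,
      a, b, PSL2.mul00, PSL2.mul01, PSL2.mul10, PSL2.mul11]
    constructor <;> module
  inv_mem' := by
    rintro ⟨g, M⟩ ⟨a, b⟩
    have hd := PSL2.det_eq M
    have hinv : ∀ w, ρ g⁻¹ (ρ g w) = w := fun w => by
      rw [← Module.End.mul_apply, ← map_mul, inv_mul_cancel, map_one, Module.End.one_apply]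
    have hv : ρ g (M 1 1 • v - M 1 0 • u) = v := by
      rw [map_sub, map_smul, map_smul, a, b]
      linear_combination (norm := module) hd • v
    have hu : ρ g (-M 0 1 • v + M 0 0 • u) = u := by
      rw [map_add, map_smul, map_smul, a, b]
      linear_combination (norm := module) hd • u
    simp only [Set.mem_setOf_eq, Prod.inv_mk, PSL2.inv00, PSL2.inv01, PSL2.inv10, PSL2.inv11]
    constructor
    · conv_lhs => rw [← hv, hinv]
      module
    · conv_lhs => rw [← hu, hinv]

include hρ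

variable [CharZero k] [IsAlgClosed k] [FiniteDimensional k V] [Nontrivial V]

/-- **Non-commuting elements of order three generate a subgroup of `SL(2, k)`**. -/
theorem exists_sl_embedding {x y : G} (hx : x ^ 3 = 1) (hy : y ^ 3 = 1) (hnc : x * y ≠ y * x) :
    ∃ φ : ↥(Subgroup.closure {x, y}) →* SL(2, k), Function.Injective φ := by
  have hx1 : x ≠ 1 := fun e => hnc (by simp [e])
  have hy1 : y ≠ 1 := fun e => hnc (by simp [e])
  set X := ρ x with hXdef
  set Y := ρ y with hYdef
  have hX := rho_cube hρ hx hx1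
  have hY := rho_cube hρ hy hy1
  rw [← hXdef] at hX; rw [← hYdef] at hY
  set τ := X * Y + Y * X + X + Y + 1 with hτ
  have hτX : X * τ = τ * X := by
    rw [hτ]; linear_combination (norm := noncomm_ring) hX * Y - Y * hX
  have hτY : Y * τ = τ * Y := by
    rw [hτ]; linear_combination (norm := noncomm_ring) hY * X - X * hY
  obtain ⟨t, ht⟩ := Module.End.exists_eigenvalue τ
  obtain ⟨u₀, hu₀, hu₀0⟩ := ht.exists_hasEigenvector
  rw [Module.End.mem_eigenspace_iff] at hu₀
  obtain ⟨a, ha⟩ : ∃ a : k, a ^ 2 + a + 1 = 0 := by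
    obtain ⟨r, hr⟩ := IsAlgClosed.exists_root
      (Polynomial.X ^ 2 + Polynomial.X + Polynomial.C (1 : k)) (by
        have : (Polynomial.X ^ 2 + Polynomial.X + Polynomial.C (1 : k)).degree = 2 := by compute_degree!
        rw [this]; norm_num)
    exact ⟨r, by simpa using hr⟩
  obtain ⟨v, c, hv0, hc, hXv, hτv⟩ :
      ∃ (v : V) (c : k), v ≠ 0 ∧ c ^ 2 + c + 1 = 0 ∧ X v = c • v ∧ τ v = t • v := by
    by_cases h : X u₀ - a • u₀ = 0
    · exact ⟨u₀, a, hu₀0, ha, sub_eq_zero.1 h, hu₀⟩
    · refine ⟨_, -1 - a, h, by linear_combination ha, ?_, ?_⟩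
      · have h2 : X (X u₀) + X u₀ + u₀ = 0 := by simpa using LinearMap.congr_fun hX u₀
        rw [map_sub, map_smul]
        linear_combination (norm := module) h2 - ha • u₀
      · have h2 : τ (X u₀) = X (τ u₀) := (LinearMap.congr_fun hτX u₀).symm
        rw [map_sub, map_smul, h2, hu₀, map_smul]
        module
  set u := Y v with hu
  have hind : ∀ α β : k, α • v + β • u = 0 → α = 0 ∧ β = 0 := by
    intro α β h
    by_cases hβ : β = 0
    · exact ⟨by simpa [hβ, hv0] using h, hβ⟩
    · refine absurd (commute_of_common_eigenvector hρ hv0 hXv (d := -(α / β)) ?_) hnc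
      show Y v = _
      rw [← hu]
      apply smul_right_injective V hβ
      simp only [smul_smul]
      linear_combination (norm := skip) h
      rw [mul_neg, mul_div_cancel₀ _ hβ]
      module
  have hXu : X u = (t + c ^ 2) • v + c ^ 2 • u := by
    have h1 : τ v = X (Y v) + Y (X v) + X v + Y v + v := by simp [hτ]
    rw [hτv, hXv, map_smul, ← hu] at h1
    linear_combination (norm := module) (-1 : k) • h1 - hc • v - hc • u
  have hYu : Y u = (-1 : k) • v + (-1 : k) • u := by
    have h1 : Y (Y v) + Y v + v = 0 := by simpa using LinearMap.congr_fun hY v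
    rw [← hu] at h1
    linear_combination (norm := module) h1
  let Mx : SL(2, k) := ⟨!![c, t + c ^ 2; 0, c ^ 2], by
    simp [Matrix.det_fin_two]; linear_combination (c - 1) * hc⟩
  let My : SL(2, k) := ⟨!![0, -1; 1, -1], by simp [Matrix.det_fin_two]⟩
  let Γ : Subgroup (G × SL(2, k)) := Subgroup.closure {(x, Mx), (y, My)}
  have hΓ : Γ ≤ planeGraph ρ v u := (Subgroup.closure_le _).2 (by
    rintro p (rfl | rfl)
    · exact ⟨by simpa [Mx] using hXv, by simpa [Mx] using hXu⟩
    · exact ⟨by simp [My, hu]; rfl, by simpa [My] using hYu⟩)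
  have hfix : ∀ p ∈ Γ, (p.1 = 1 → p.2 = 1) ∧ (p.2 = 1 → p.1 = 1) := by
    intro p hp
    obtain ⟨h1, h2⟩ := hΓ hp
    refine ⟨fun e => ?_, fun e => ?_⟩
    · rw [e, map_one, Module.End.one_apply] at h1 h2
      obtain ⟨a1, a2⟩ := hind (p.2 0 0 - 1) (p.2 1 0)
        (by linear_combination (norm := module) -h1)
      obtain ⟨a3, a4⟩ := hind (p.2 0 1) (p.2 1 1 - 1)
        (by linear_combination (norm := module) -h2)
      refine PSL2.ext2 ?_ ?_ ?_ ?_ <;> simp [sub_eq_zero.1 a1, a2, a3, sub_eq_zero.1 a4]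
    · by_contra hne
      rw [e] at h1
      exact hv0 (hρ p.1 hne v (by simpa using h1))
  let π : Γ →* G := (MonoidHom.fst G SL(2, k)).comp Γ.subtype
  have hπ : Function.Injective π := (injective_iff_map_eq_one π).2 fun p hp =>
    Subtype.ext (Prod.ext hp ((hfix _ p.2).1 hp))
  have hrange : π.range = Subgroup.closure {x, y} := by
    rw [MonoidHom.range_comp, Subgroup.range_subtype, MonoidHom.map_closure, Set.image_insert_eq,
      Set.image_singleton]
    rfl
  refine ⟨((MonoidHom.snd G SL(2, k)).comp Γ.subtype).comp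
    ((MonoidHom.ofInjective hπ).symm.toMonoidHom.comp (MulEquiv.subgroupCongr hrange.symm).toMonoidHom), ?_⟩
  rw [injective_iff_map_eq_one]
  intro g hg
  set q : Γ := (MonoidHom.ofInjective hπ).symm (MulEquiv.subgroupCongr hrange.symm g) with hq
  have hq1 : q = 1 := Subtype.ext (Prod.ext ((hfix _ q.2).2 hg) hg)
  rw [hq, MulEquiv.map_eq_one_iff, MulEquiv.map_eq_one_iff] at hq1
  exact hq1

/-- Non-commuting elements of order three generating a solvable group have product of order four
or six. -/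
theorem tau_of_solvable [Finite G] {x y : G} (hx : x ^ 3 = 1) (hy : y ^ 3 = 1) (hnc : x * y ≠ y * x)
    (hsol : Group.IsSolvable (Subgroup.closure {x, y} : Subgroup G)) :
    ρ x * ρ y + ρ y * ρ x + ρ x + ρ y + 1 = 0 ∨ ρ x * ρ y + ρ y * ρ x + ρ x + ρ y + 1 = 1 := by
  obtain ⟨φ, hφ⟩ := exists_sl_embedding hρ hx hy hnc
  let H : Subgroup G := Subgroup.closure {x, y}
  let x' : H := ⟨x, Subgroup.subset_closure (by simp)⟩
  let y' : H := ⟨y, Subgroup.subset_closure (by simp)⟩
  have hr : Subgroup.closure {φ x', φ y'} = φ.range := by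
    rw [show ({φ x', φ y'} : Set _) = φ '' {x', y'} by rw [Set.image_insert_eq, Set.image_singleton],
      ← MonoidHom.map_closure, MonoidHom.range_eq_map]
    congr 1
    rw [eq_top_iff]
    rintro ⟨z, hz⟩ -
    induction hz using Subgroup.closure_induction with
    | mem z hz => exact Subgroup.subset_closure (by rcases hz with rfl | rfl <;> simp [x', y'])
    | one => exact Subgroup.one_mem _
    | mul a b ha hb iha ihb => exact Subgroup.mul_mem _ iha ihb
    | inv a ha iha => exact Subgroup.inv_mem _ iha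
  haveI := hsol
  have hfin : Finite (φ.range : Subgroup SL(2, k)) := Finite.of_surjective _ φ.rangeRestrict_surjective
  haveI : Finite (Subgroup.closure {φ x', φ y'} : Subgroup SL(2, k)) := hr ▸ hfin
  have hsol' : Group.IsSolvable (Subgroup.closure {φ x', φ y'} : Subgroup SL(2, k)) := by
    rw [hr]; exact Group.isSolvable_of_surjective φ.rangeRestrict_surjective
  have hcube : ∀ z : H, (z : G) ^ 3 = 1 → φ z ^ 3 = 1 := fun z hz => by
    rw [← map_pow, show z ^ 3 = 1 from Subtype.ext hz, map_one]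
  have h2 : (-1 : SL(2, k)) ≠ 1 := PSL2.neg_one_ne_one two_ne_zero
  have hpair := BinaryPolyhedral.mul_pair (φ x') (φ y') (hcube x' hx) (hcube y' hy)
    (fun hc => hnc (congrArg Subtype.val (hφ (by rw [map_mul, map_mul]; exact hc.eq) :
      x' * y' = y' * x'))) hsol'
  rw [← map_mul] at hpair
  have hone : ∀ n, φ (x' * y') ^ n = 1 → (x * y) ^ n = 1 := fun n hn => by
    have : (x' * y') ^ n = 1 := hφ (by rw [map_pow, hn, map_one])
    simpa [x', y'] using congrArg Subtype.val this
  have hne : ∀ n, φ (x' * y') ^ n = -1 → (x * y) ^ n ≠ 1 := fun n hn e => h2 (by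
    rw [← hn, ← map_pow, show (x' * y') ^ n = 1 from Subtype.ext (by simpa [x', y'] using e), map_one])
  set Z := ρ (x * y) with hZ
  have hZi : ρ (x * y)⁻¹ * Z = 1 := by rw [hZ, ← map_mul, inv_mul_cancel, map_one]
  have hτ : ρ x * ρ y + ρ y * ρ x + ρ x + ρ y + 1 = Z + ρ (x * y)⁻¹ := by
    have hx1 : x ≠ 1 := fun e => hnc (by simp [e])
    have hy1 : y ≠ 1 := fun e => hnc (by simp [e])
    have hX := rho_cube hρ hx hx1
    have hY := rho_cube hρ hy hy1
    have hi : ∀ z : G, z ^ 3 = 1 → ρ z⁻¹ = ρ z * ρ z := fun z hz => by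
      rw [← map_mul]; congr 1
      exact inv_eq_of_mul_eq_one_right (by rw [← mul_assoc, ← pow_three', hz])
    rw [_root_.mul_inv_rev, map_mul ρ y⁻¹, hi x hx, hi y hy, hZ, map_mul]
    linear_combination (norm := noncomm_ring) -hY * (ρ x * ρ x)
      + ρ y * hX + hX
  rw [hτ]
  rcases hpair with h | h
  · left
    have h4 : φ (x' * y') ^ 4 = 1 := by rw [show 4 = 2 * 2 from rfl, pow_mul, h]; simp
    have hsq : Z * Z = -1 := rho_sq hρ (hone 4 h4) (hne 2 h)
    have : ρ (x * y)⁻¹ = -Z := by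
      calc ρ (x * y)⁻¹ = ρ (x * y)⁻¹ * (Z * -Z) := by rw [mul_neg, hsq, neg_neg, mul_one]
        _ = -Z := by rw [← mul_assoc, hZi, one_mul]
    rw [this, add_neg_cancel]
  · right
    have h6 : φ (x' * y') ^ 6 = 1 := by rw [show 6 = 3 * 2 from rfl, pow_mul, h]; simp
    have h2' : (x * y) ^ 2 ≠ 1 := by
      intro e
      have h1 := hne 3 h
      have hz : ρ (x * y) = -1 := rho_involution hρ e fun e1 => h1 (by rw [e1, one_pow])
      -- then `y = -x⁻¹` commutes with `x`
      refine hnc (ker_eq ?_ hρ)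
      have hmul : ρ x * ρ y = -1 := by rw [← map_mul]; exact hz
      have hxi : ρ x⁻¹ * ρ x = 1 := by rw [← map_mul, inv_mul_cancel, map_one]
      have hyv : ρ y = -ρ x⁻¹ := by
        calc ρ y = ρ x⁻¹ * (ρ x * ρ y) := by rw [← mul_assoc, hxi, one_mul]
          _ = -ρ x⁻¹ := by rw [hmul, mul_neg, mul_one]
      rw [hz, map_mul, hyv, neg_mul, hxi]
    have hsq : Z * Z - Z + 1 = 0 := rho_six hρ (hone 6 h6) (hne 3 h) h2'
    have : ρ (x * y)⁻¹ = 1 - Z := by
      calc ρ (x * y)⁻¹ = ρ (x * y)⁻¹ * (Z * (1 - Z)) := by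
            rw [show Z * (1 - Z) = 1 by linear_combination (norm := noncomm_ring) -hsq, mul_one]
        _ = 1 - Z := by rw [← mul_assoc, hZi, one_mul]
    rw [this, add_sub_cancel]

end Cfsg.Agent.FpfRep
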