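import Mathlib
import Cfsg.Agent.Lib.Frobenius.FpfRep
import Cfsg.Agent.Lib.Transfer.Frobenius
import Cfsg.Agent.Lib.Coprime.Commutator
import Cfsg.Agent.Lib.PGroup.Frattini

/-!
# Zassenhaus: a non-solvable group with a fixed-point-free representation contains `SL(2, 5)`
-/

set_option autoImplicit false
set_option linter.style.haveILetI false
set_option linter.unusedSectionVars false

open scoped MatrixGroups

namespace Cfsg.Agent.SL25

open FpfRep

variable {K : Type*} [Group K]

/-- A homomorphism from a perfect group to a solvable group is trivial. -/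
theorem exists_exponents_of_dvd {n : ℕ} (h : n ∣ 2 ^ 3 * 3 ^ 1) :
    ∃ a b, n = 2 ^ a * 3 ^ b ∧ a ≤ 3 ∧ b ≤ 1 := by
  obtain ⟨u, v, hu, hv, rfl⟩ := Nat.dvd_mul.1 h
  obtain ⟨a, ha, rfl⟩ := (Nat.dvd_prime_pow Nat.prime_two).1 hu
  obtain ⟨b, hb, rfl⟩ := (Nat.dvd_prime_pow Nat.prime_three).1 hv
  exact ⟨a, b, rfl, ha, hb⟩

/-- A homomorphism from a perfect group to a solvable group is trivial. -/
theorem hom_eq_one (hperf : commutator K = ⊤) {M : Type*} [Group M] (hM : Group.IsSolvable M)
    (f : K →* M) (g : K) : f g = 1 := by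
  obtain ⟨n, hn⟩ := (Group.isSolvable_def M).1 hM
  have htop : ∀ m, derivedSeries K m = ⊤ := by
    intro m
    induction m with
    | zero => exact derivedSeries_zero K
    | succ m ih => rw [derivedSeries_succ, ih]; exact hperf
  have := map_derivedSeries_le_derivedSeries f n ⟨g, (htop n).symm ▸ Subgroup.mem_top g, rfl⟩
  rwa [hn, Subgroup.mem_bot] at this

variable [Finite K]

section Rep

variable {k : Type} [Field k] [CharZero k] {V : Type} [AddCommGroup V] [Module k V] [Nontrivial V]
  {ρ : K →* Module.End k V} (hρ : IsFpfRep ρ)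
include hρ

theorem geom_sum_eq_zero {g : K} {n : ℕ} (hgn : g ^ n = 1) (hg : g ≠ 1) :
    ∑ i ∈ Finset.range n, ρ (g ^ i) = 0 := by
  refine eq_zero_of_fix hρ hg ?_
  rw [Finset.mul_sum]
  have h1 := Finset.sum_range_succ' (fun i => ρ (g ^ i)) n
  have h2 := Finset.sum_range_succ (fun i => ρ (g ^ i)) n
  rw [h2] at h1
  simp only [pow_zero, hgn] at h1
  calc ∑ i ∈ Finset.range n, ρ g * ρ (g ^ i) = ∑ i ∈ Finset.range n, ρ (g ^ (i + 1)) := by
        refine Finset.sum_congr rfl fun i _ => ?_
        rw [← map_mul, ← pow_succ']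
    _ = ∑ i ∈ Finset.range n, ρ (g ^ i) := (add_right_cancel h1).symm

/-- No subgroup of type `(p, p)`. -/
theorem mem_zpowers_of_commute {p : ℕ} [hp : Fact p.Prime] {x y : K} (hx : orderOf x = p)
    (hy : y ^ p = 1) (hc : Commute x y) : y ∈ Subgroup.zpowers x := by
  by_contra hn
  have hxp : x ^ p = 1 := hx ▸ pow_orderOf_eq_one x
  have hx1 : x ≠ 1 := fun e => hp.out.ne_one (by rw [← hx, e, orderOf_one])
  have hne : ∀ j, y * x ^ j ≠ 1 := fun j e => hn (by
    rw [eq_inv_of_mul_eq_one_left e]; exact inv_mem (Subgroup.npow_mem_zpowers x j))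
  have hz : ∀ j, ∑ i ∈ Finset.range p, ρ ((y * x ^ j) ^ i) = 0 := fun j =>
    geom_sum_eq_zero hρ (by rw [((hc.symm).pow_right j).mul_pow, hy, ← pow_mul, mul_comm, pow_mul,
      hxp, one_pow, one_mul]) (hne j)
  have h0 : ∑ i ∈ Finset.range p, ∑ j ∈ Finset.range p, ρ ((y * x ^ j) ^ i) = 0 := by
    rw [Finset.sum_comm]; simp only [hz, Finset.sum_const_zero]
  rw [Finset.sum_eq_single_of_mem 0 (Finset.mem_range.2 hp.out.pos) (fun i hi hi0 => ?_)] at h0
  · simp only [pow_zero, map_one, Finset.sum_const, Finset.card_range] at h0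
    obtain ⟨v, hv⟩ := exists_ne (0 : V)
    have h1 := LinearMap.congr_fun h0 v
    rw [LinearMap.smul_apply, Module.End.one_apply, LinearMap.zero_apply,
      ← Nat.cast_smul_eq_nsmul k, smul_eq_zero] at h1
    exact h1.elim (Nat.cast_ne_zero.2 hp.out.ne_zero) hv
  · have hsplit : ∀ j, ρ ((y * x ^ j) ^ i) = ρ (y ^ i) * ρ ((x ^ i) ^ j) := fun j => by
      rw [((hc.symm).pow_right j).mul_pow, map_mul, ← pow_mul, ← pow_mul, mul_comm j]
    simp only [hsplit]
    rw [← Finset.mul_sum, geom_sum_eq_zero hρ (g := x ^ i) (n := p)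
      (by rw [← pow_mul, mul_comm, pow_mul, hxp, one_pow])
      (pow_ne_one_of_lt_orderOf hi0 (hx.symm ▸ Finset.mem_range.1 hi)), mul_zero]

theorem unique_prime_subgroup {p : ℕ} [hp : Fact p.Prime] {P : Subgroup K} (hP : IsPGroup p P) :
    ∀ A B : Subgroup P, Nat.card A = p → Nat.card B = p → A = B := by
  intro A B hA hB
  haveI : Nontrivial P := by
    by_contra hnt
    haveI := not_nontrivial_iff_subsingleton.1 hnt
    exact hp.out.ne_one (hA.symm.trans (by rw [Subgroup.eq_bot_of_subsingleton A, Subgroup.card_bot]))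
  haveI := hP.center_nontrivial
  have hpc : p ∣ Nat.card (Subgroup.center P) := by
    obtain ⟨n, hn⟩ := IsPGroup.iff_card.1 (hP.to_subgroup (Subgroup.center P))
    rcases n with _ | n
    · exact absurd hn (by rw [pow_zero]; exact Finite.one_lt_card.ne')
    · rw [hn]; exact dvd_pow_self p n.succ_ne_zero
  obtain ⟨z, hz⟩ := exists_prime_orderOf_dvd_card' p hpc
  suffices key : ∀ C : Subgroup P, Nat.card C = p → C = Subgroup.zpowers (z : P) by
    rw [key A hA, key B hB]
  intro C hC
  refine Subgroup.eq_of_le_of_card_ge (fun c hc => ?_) (by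
    rw [hC, Nat.card_zpowers, Subgroup.orderOf_coe, hz])
  have hcp : (c : K) ^ p = 1 := by
    have := pow_card_eq_one' (x := (⟨c, hc⟩ : C))
    rw [hC] at this
    simpa using congrArg (fun t : C => ((t : P) : K)) this
  have hcom : Commute ((z : P) : K) (c : K) :=
    (congrArg Subtype.val (Subgroup.mem_center_iff.1 z.2 c)).symm
  obtain ⟨m, hm⟩ := mem_zpowers_of_commute hρ (by rw [Subgroup.orderOf_coe, Subgroup.orderOf_coe, hz]) hcp hcom
  exact ⟨m, Subtype.ext (by simpa using hm)⟩

theorem isCyclic_of_isPGroup_odd {p : ℕ} [Fact p.Prime] (hp2 : p ≠ 2) {P : Subgroup K}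
    (hP : IsPGroup p P) : IsCyclic P :=
  (PGroup.cyclic_or_quaternion_of_unique hP (unique_prime_subgroup hρ hP)).resolve_right
    fun h => hp2 h.1

theorem isZGroup_of_odd (h2 : ¬ 2 ∣ Nat.card K) : IsZGroup K := by
  refine ⟨fun p hp P => ?_⟩
  haveI := Fact.mk hp
  rcases eq_or_ne p 2 with rfl | hp2
  · have : Nat.card (P : Subgroup K) = 1 := by
      rw [P.card_eq_multiplicity, Nat.factorization_eq_zero_of_not_dvd h2, pow_zero]
    haveI : Subsingleton (P : Subgroup K) := (Nat.card_eq_one_iff_unique.1 this).1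
    exact isCyclic_of_subsingleton
  · exact isCyclic_of_isPGroup_odd hρ hp2 P.2

theorem involution_unique {a b : K} (ha : orderOf a = 2) (hb : orderOf b = 2) : a = b :=
  ker_eq (by rw [rho_involution hρ (ha ▸ pow_orderOf_eq_one a) (fun e => by simp [e] at ha),
    rho_involution hρ (hb ▸ pow_orderOf_eq_one b) (fun e => by simp [e] at hb)]) hρ

theorem unique_order_two (Q : Subgroup K) :
    ∀ A B : Subgroup Q, Nat.card A = 2 → Nat.card B = 2 → A = B := by
  have key : ∀ A : Subgroup Q, Nat.card A = 2 → ∀ a : Q, a ∈ A ↔ a ^ 2 = 1 := by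
    intro A hA a
    obtain ⟨t, ht⟩ := exists_prime_orderOf_dvd_card' 2 (G := A) (by rw [hA])
    constructor
    · intro ha
      have := pow_card_eq_one' (x := (⟨a, ha⟩ : A))
      rw [hA] at this
      simpa using congrArg Subtype.val this
    · intro ha
      by_cases h1 : a = 1
      · rw [h1]; exact A.one_mem
      · have hao : orderOf a = 2 := orderOf_eq_prime ha h1
        rw [show a = (t : Q) from Subtype.ext (involution_unique hρ (by rwa [Subgroup.orderOf_coe])
          (by rwa [Subgroup.orderOf_coe, Subgroup.orderOf_coe]))]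
        exact t.2
  exact fun A B hA hB => Subgroup.ext fun a => (key A hA a).trans (key B hB a).symm

/-- Every `2`-subgroup has at most four elements modulo its Frattini subgroup. -/
theorem card_frattini_quotient_le {Q : Subgroup K} (hQ : IsPGroup 2 Q) :
    Nat.card (Q ⧸ frattini Q) ≤ 4 := by
  classical
  obtain ⟨T, hT, hgen⟩ : ∃ T : Finset Q, T.card ≤ 2 ∧ Subgroup.closure (T : Set Q) = ⊤ := by
    rcases PGroup.cyclic_or_quaternion_of_unique hQ (unique_order_two hρ Q) with hc | ⟨-, n, -, -, ⟨e⟩⟩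
    · obtain ⟨a, ha⟩ := isCyclic_iff_exists_zpowers_eq_top.1 hc
      exact ⟨{a}, by simp, by rw [Finset.coe_singleton, ← Subgroup.zpowers_eq_closure, ha]⟩
    · haveI : NeZero (2 ^ n) := ⟨by positivity⟩
      refine ⟨{e.symm (QuaternionGroup.a 1), e.symm (QuaternionGroup.xa 0)}, Finset.card_le_two, ?_⟩
      rw [eq_top_iff]
      intro q _
      rw [← e.symm_apply_apply q]
      have ha : ∀ i, e.symm (QuaternionGroup.a i) ∈ Subgroup.closure
          (({e.symm (QuaternionGroup.a 1), e.symm (QuaternionGroup.xa 0)} : Finset Q) : Set Q) := by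
        intro i
        rw [← ZMod.natCast_zmod_val i, ← QuaternionGroup.a_one_pow, map_pow]
        exact Subgroup.pow_mem _ (Subgroup.subset_closure (by simp)) _
      rcases e q with i | i
      · exact ha i
      · rw [show QuaternionGroup.xa i = QuaternionGroup.xa 0 * QuaternionGroup.a i by simp, map_mul]
        exact Subgroup.mul_mem _ (Subgroup.subset_closure (by simp)) (ha i)
  have h := PGroup.card_closure_sup_frattini_le hQ T
  rw [hgen, top_sup_eq, Subgroup.card_top, ← (frattini Q).card_mul_index] at h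
  have h4 : 2 ^ T.card ≤ 4 := (Nat.pow_le_pow_right two_pos hT).trans_eq (by norm_num)
  exact le_trans (Nat.le_of_mul_le_mul_left h Nat.card_pos) h4

/-- A perfect group with a fixed-point-free representation, all of whose proper subgroups are
solvable, has order divisible by three unless it is solvable. -/
theorem three_dvd (hns : ¬ Group.IsSolvable K)
    (hmin : ∀ L : Subgroup K, L ≠ ⊤ → Group.IsSolvable L) : 3 ∣ Nat.card K := by
  by_contra h3
  obtain ⟨P⟩ := (inferInstance : Nonempty (Sylow 2 K))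
  obtain ⟨S, N, hN, hc⟩ := Transfer.hasNormalPComplement_of_centralizer P fun Q hQ g hg hco => by
    have hQp : IsPGroup 2 Q := P.2.to_le hQ
    haveI := Fintype.ofFinite (Q ⧸ frattini Q)
    haveI : (frattini Q).Characteristic := frattini_characteristic
    let α : MulAut Q := Subgroup.normalizerMonoidHom Q ⟨g, hg⟩
    have hα : ∀ q : Q, ((α q : Q) : K) = g * q * g⁻¹ := fun q => rfl
    let f : (MulAut Q) →* Equiv.Perm (Q ⧸ frattini Q) :=
      { toFun := fun β => (QuotientGroup.congr (frattini Q) (frattini Q) β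
          (Subgroup.characteristic_iff_map_eq.1 inferInstance β)).toEquiv
        map_one' := Equiv.ext fun q => by induction q using QuotientGroup.induction_on; rfl
        map_mul' := fun β γ => Equiv.ext fun q => by induction q using QuotientGroup.induction_on; rfl }
    have hord : orderOf (f α) = 1 := by
      have h1 : orderOf (f α) ∣ orderOf g := by
        refine (orderOf_map_dvd f α).trans ((orderOf_map_dvd (Subgroup.normalizerMonoidHom Q) _).trans ?_)
        rw [Subgroup.orderOf_mk]
      have h2 : orderOf (f α) ∣ 24 := by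
        refine (orderOf_dvd_natCard _).trans ?_
        rw [Nat.card_perm]
        exact (Nat.factorial_dvd_factorial (card_frattini_quotient_le hρ hQp)).trans (by decide)
      have h3' : Nat.Coprime (orderOf g) 3 := ((Nat.prime_three.coprime_iff_not_dvd).2
        fun hd => h3 (hd.trans (_root_.orderOf_dvd_natCard g))).symm
      have h24 : Nat.Coprime (orderOf g) 24 := by
        rw [show (24 : ℕ) = 2 ^ 3 * 3 by norm_num]
        exact Nat.Coprime.mul_right (hco.pow_right 3) h3'
      exact Nat.eq_one_of_dvd_coprimes h24 h1 h2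
    have hz : Subgroup.zpowers g ≤ Subgroup.centralizer (Q : Set K) := by
      refine Coprime.le_centralizer_of_frattini (Subgroup.zpowers_le.2 hg) ?_ fun a ha q hq => ?_
      · obtain ⟨n, hn⟩ := IsPGroup.iff_card.1 (hQp.to_subgroup (frattini Q))
        rw [Nat.card_zpowers, hn]
        exact hco.pow_right n
      · -- the induced permutation is trivial
        obtain ⟨m, rfl⟩ := ha
        have hm : f (α ^ m) = 1 := by rw [map_zpow, orderOf_eq_one_iff.1 hord, one_zpow]
        have hαm : ((α ^ m) ⟨q, hq⟩ : Q) = (g ^ m : K) * q * (g ^ m)⁻¹ := by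
          rw [show α ^ m = Subgroup.normalizerMonoidHom Q (⟨g, hg⟩ ^ m) from (map_zpow _ _ m).symm]
          show ((⟨g, hg⟩ ^ m : Subgroup.normalizer (Q : Set K)) : K) * q *
            (((⟨g, hg⟩ ^ m : Subgroup.normalizer (Q : Set K)) : K))⁻¹ = _
          rw [Subgroup.coe_zpow]
        have he : (QuotientGroup.mk ((α ^ m) ⟨q, hq⟩) : Q ⧸ frattini Q) = QuotientGroup.mk ⟨q, hq⟩ :=
          Equiv.congr_fun hm (QuotientGroup.mk ⟨q, hq⟩)
        have hmem : (α ^ m) ⟨q, hq⟩ * (⟨q, hq⟩ : Q)⁻¹ ∈ frattini Q := by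
          rw [← QuotientGroup.eq_one_iff, QuotientGroup.mk_mul, QuotientGroup.mk_inv, he, mul_inv_cancel]
        refine ⟨_, hmem, ?_⟩
        simp [hαm]
    exact hz (Subgroup.mem_zpowers g)
  haveI := hN
  have hdvd : 2 ∣ Nat.card K := by
    by_contra h2
    haveI := isZGroup_of_odd hρ h2
    exact hns inferInstance
  have hNne : N ≠ ⊤ := by
    intro e
    have h1 := hc.card_mul_card
    rw [e, Subgroup.card_top] at h1
    have h2 : Nat.card (S : Subgroup K) = 1 := by
      have := Nat.card_pos (α := K)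
      exact Nat.eq_of_mul_eq_mul_left this (by rw [mul_one]; exact h1)
    exact S.ne_bot_of_dvd_card hdvd (Subgroup.card_eq_one.1 h2)
  haveI := hmin N hNne
  have hQ2 : IsPGroup 2 (K ⧸ N) := IsPGroup.of_equiv S.2 (hc.symm.QuotientMulEquiv).symm
  haveI : Group.IsSolvable (K ⧸ N) := by
    haveI := hQ2.isNilpotent
    infer_instance
  exact hns (Group.isSolvable_of_ker_le_range N.subtype (QuotientGroup.mk' N) (by simp))

omit hρ [Nontrivial V] [CharZero k] in
/-- In a perfect group, an element normalised up to inversion is central. -/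
theorem central_of_conj_eq_or_inv (hperf : commutator K = ⊤) {x : K}
    (h : ∀ g : K, g * x * g⁻¹ = x ∨ g * x * g⁻¹ = x⁻¹) (g : K) : g * x = x * g := by
  by_cases hxx : x⁻¹ = x
  · exact mul_inv_eq_iff_eq_mul.1 ((h g).elim id (fun e => e.trans hxx))
  classical
  let f : K →* ℤˣ := MonoidHom.mk' (fun g => if g * x * g⁻¹ = x then 1 else -1) (by
    intro a b
    have e : a * b * x * (a * b)⁻¹ = a * (b * x * b⁻¹) * a⁻¹ := by group
    have ei : a * x⁻¹ * a⁻¹ = (a * x * a⁻¹)⁻¹ := by group
    show (if a * b * x * (a * b)⁻¹ = x then (1 : ℤˣ) else -1) =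
      (if a * x * a⁻¹ = x then (1 : ℤˣ) else -1) * (if b * x * b⁻¹ = x then (1 : ℤˣ) else -1)
    rw [e]
    rcases h b with hb | hb <;> rcases h a with ha | ha <;> simp only [hb, ei, ha] <;> simp [hxx])
  have := hom_eq_one hperf (Group.isSolvable_of_comm fun a b : ℤˣ => mul_comm a b) f g
  by_contra hne
  have hne' : ¬ g * x * g⁻¹ = x := fun e => hne (mul_inv_eq_iff_eq_mul.1 e)
  simp [f, hne'] at this

theorem not_central_three (hperf : commutator K = ⊤) {x : K} (hx : orderOf x = 3)
    (hc : ∀ g : K, g * x = x * g) : False := by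
  haveI : Fact (Nat.Prime 3) := ⟨Nat.prime_three⟩
  have hxp : IsPGroup 3 (Subgroup.zpowers x) :=
    IsPGroup.of_card (n := 1) (by rw [Nat.card_zpowers, hx, pow_one])
  obtain ⟨P, hP⟩ := hxp.exists_le_sylow
  haveI := isCyclic_of_isPGroup_odd hρ (p := 3) (by norm_num) P.2
  letI : CommGroup (P : Subgroup K) := IsCyclic.commGroup
  have key : ∀ (m : ℕ) (g₀ : K), g₀⁻¹ * x ^ m * g₀ ∈ (P : Subgroup K) → g₀⁻¹ * x ^ m * g₀ = x ^ m := by
    intro m g₀ _
    rw [mul_assoc, ← (show Commute g₀ (x ^ m) from (show Commute g₀ x from hc g₀).pow_right m).eq,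
      ← mul_assoc, inv_mul_cancel, one_mul]
  have h1 := hom_eq_one hperf (Group.isSolvable_of_comm fun a b : (P : Subgroup K) => mul_comm a b)
    (MonoidHom.transfer (MonoidHom.id (P : Subgroup K))) x
  rw [MonoidHom.transfer_eq_pow (MonoidHom.id (P : Subgroup K)) x key] at h1
  have h2 : x ^ (P : Subgroup K).index = 1 := congrArg Subtype.val h1
  have h3 := orderOf_dvd_of_pow_eq_one h2
  rw [hx] at h3
  exact P.not_dvd_index h3

omit hρ [Nontrivial V] in
/-- The fifth axis: an element with `e² = -3` cannot make angles `±1/3` with all four axes of a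
tetrahedron. -/
theorem no_fifth [Nontrivial V] {i j e : Module.End k V} (hi : i * i = -1) (hj : j * j = -1)
    (hij : j * i = -(i * j)) (he : e * e = -(3 : k) • 1) {s₁ s₂ s₃ s₄ : k}
    (h₁ : e * (j - i - i * j) + (j - i - i * j) * e = (2 * s₁) • 1)
    (h₂ : e * (j - i + i * j) + (j - i + i * j) * e = (2 * s₂) • 1)
    (h₃ : e * (-i - j + i * j) + (-i - j + i * j) * e = (2 * s₃) • 1)
    (h₄ : e * (-i - j - i * j) + (-i - j - i * j) * e = (2 * s₄) • 1)
    (hs₁ : s₁ = 1 ∨ s₁ = -1) (hs₂ : s₂ = 1 ∨ s₂ = -1) (hs₃ : s₃ = 1 ∨ s₃ = -1)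
    (hs₄ : s₄ = 1 ∨ s₄ = -1) : False := by
  set m := i * j with hm
  have hmi : m * i = j := by rw [hm, mul_assoc, hij, mul_neg, ← mul_assoc, hi, neg_one_mul, neg_neg]
  have him : i * m = -j := by rw [hm, ← mul_assoc, hi, neg_one_mul]
  have hmj : m * j = -i := by rw [hm, mul_assoc, hj, mul_neg_one]
  have hjm : j * m = i := by rw [hm, ← mul_assoc, hij, neg_mul, mul_assoc, hj, mul_neg_one, neg_neg]
  have hmm : m * m = -1 := by rw [show m * m = m * i * j from (mul_assoc m i j).symm ▸ rfl, hmi, hj]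
  set p : k := -(s₁ + s₂ + s₃ + s₄) / 2 with hp
  set q : k := (s₁ + s₂ - s₃ - s₄) / 2 with hq
  set r : k := s₂ - s₁ with hr
  have hAi : e * i + i * e = p • 1 := by
    simp only [mul_sub, sub_mul, mul_add, add_mul, mul_neg, neg_mul] at h₁ h₂ h₃ h₄
    rw [hp]
    linear_combination (norm := module) -(1 / 4 : k) • h₁ - (1 / 4 : k) • h₂ - (1 / 4 : k) • h₃
      - (1 / 4 : k) • h₄
  have hAj : e * j + j * e = q • 1 := by
    simp only [mul_sub, sub_mul, mul_add, add_mul, mul_neg, neg_mul] at h₁ h₂ h₃ h₄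
    rw [hq]
    linear_combination (norm := module) (1 / 4 : k) • h₁ + (1 / 4 : k) • h₂ - (1 / 4 : k) • h₃
      - (1 / 4 : k) • h₄
  have hAm : e * m + m * e = r • 1 := by
    simp only [mul_sub, sub_mul, mul_add, add_mul, mul_neg, neg_mul] at h₁ h₂
    rw [hr]
    linear_combination (norm := module) -(1 / 2 : k) • h₁ + (1 / 2 : k) • h₂
  set f := e + (p / 2) • i + (q / 2) • j + (r / 2) • m with hf
  have hfi : f * i + i * f = 0 := by
    simp only [hf, add_mul, mul_add, smul_mul_assoc, mul_smul_comm, hi, hij, hmi, him]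
    linear_combination (norm := module) hAi
  have hfj : f * j + j * f = 0 := by
    simp only [hf, add_mul, mul_add, smul_mul_assoc, mul_smul_comm, hj, hij, hmj, hjm, ← hm]
    linear_combination (norm := module) hAj
  have hfm : f * m + m * f = 0 := by
    simp only [hf, add_mul, mul_add, smul_mul_assoc, mul_smul_comm, hmm, hmi, him, hmj, hjm]
    linear_combination (norm := module) hAm
  have hcomm : f * m = m * f := by
    rw [hm, ← mul_assoc, eq_neg_of_add_eq_zero_left hfi, neg_mul, mul_assoc,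
      eq_neg_of_add_eq_zero_left hfj, mul_neg, neg_neg, mul_assoc]
  have hf0 : f = 0 := by
    have h2 : (2 : k) • (f * m) = 0 := by
      rw [two_smul]; nth_rw 2 [hcomm]; exact hfm
    have h3 : f * m = 0 := (smul_eq_zero.1 h2).resolve_left two_ne_zero
    have := congrArg (· * m) h3
    simpa [mul_assoc, hmm] using this
  have he' : e = -((p / 2) • i + (q / 2) • j + (r / 2) • m) := by
    rw [hf] at hf0
    linear_combination (norm := abel) hf0
  have hsq : (-(p ^ 2 + q ^ 2 + r ^ 2) / 4) • (1 : Module.End k V) = -(3 : k) • 1 := by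
    rw [← he, he']
    simp only [neg_mul_neg, add_mul, mul_add, smul_mul_assoc, mul_smul_comm, hi, hj, hmm, hij, hmi, him,
      hmj, hjm, ← hm]
    module
  have h12 : -(p ^ 2 + q ^ 2 + r ^ 2) / 4 = -(3 : k) := by
    obtain ⟨v, hv⟩ := exists_ne (0 : V)
    exact smul_left_injective k hv (by simpa using LinearMap.congr_fun hsq v)
  rw [hp, hq, hr] at h12
  rcases hs₁ with rfl | rfl <;> rcases hs₂ with rfl | rfl <;> rcases hs₃ with rfl | rfl <;>
    rcases hs₄ with rfl | rfl <;> norm_num at h12

variable [IsAlgClosed k] [FiniteDimensional k V]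

/-- A perfect group with all proper subgroups solvable is generated by two elements of order
three. -/
theorem exists_generating_pair (hperf : commutator K = ⊤) (hns : ¬ Group.IsSolvable K)
    (hmin : ∀ L : Subgroup K, L ≠ ⊤ → Group.IsSolvable L) :
    ∃ x y : K, x ^ 3 = 1 ∧ y ^ 3 = 1 ∧ x * y ≠ y * x ∧ Subgroup.closure {x, y} = ⊤ := by
  by_contra hcon
  haveI : Fact (Nat.Prime 3) := ⟨Nat.prime_three⟩
  have hi : ∀ z : K, z ^ 3 = 1 → ρ z⁻¹ = ρ z * ρ z := fun z hz => by
    rw [← map_mul]; congr 1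
    exact inv_eq_of_mul_eq_one_right (by rw [← mul_assoc, ← pow_three', hz])
  -- every pair has product of order four or six
  have hpair : ∀ x y : K, x ^ 3 = 1 → y ^ 3 = 1 → x * y ≠ y * x →
      ρ x * ρ y + ρ y * ρ x + ρ x + ρ y + 1 = 0 ∨ ρ x * ρ y + ρ y * ρ x + ρ x + ρ y + 1 = 1 :=
    fun x y hx hy hnc => tau_of_solvable hρ hx hy hnc
      (hmin _ fun htop => hcon ⟨x, y, hx, hy, hnc, htop⟩)
  have hinv : ∀ x : K, x ^ 3 = 1 → ∀ g : K, (g * x * g⁻¹) ^ 3 = 1 := fun x hx g => by
    rw [conj_pow, hx, mul_one, mul_inv_cancel]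
  have hcentral : ∀ x : K, x ^ 3 = 1 → x ≠ 1 →
      (∀ g : K, g * x * g⁻¹ = x ∨ g * x * g⁻¹ = x⁻¹) → False := fun x hx hx1 h =>
    not_central_three hρ hperf (orderOf_eq_prime hx hx1) (central_of_conj_eq_or_inv hperf h)
  obtain ⟨x, hx⟩ := exists_prime_orderOf_dvd_card' 3 (three_dvd hρ hns hmin)
  have hx3 : x ^ 3 = 1 := hx ▸ pow_orderOf_eq_one x
  have hx1 : x ≠ 1 := fun e => by simp [e] at hx
  obtain ⟨g, hg⟩ : ∃ g : K, x * (g * x * g⁻¹) ≠ g * x * g⁻¹ * x := by
    by_contra hall
    push Not at hall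
    exact hcentral x hx3 hx1 fun g =>
      eq_or_eq_inv_of_commute hρ (hinv x hx3 g) hx3 (by simpa using hx1) hx1 (hall g).symm
  obtain ⟨y, hy3, hxy, hτ⟩ : ∃ y : K, y ^ 3 = 1 ∧ x * y ≠ y * x ∧
      ρ x * ρ y + ρ y * ρ x + ρ x + ρ y + 1 = 0 := by
    rcases hpair x _ hx3 (hinv x hx3 g) hg with h | h
    · exact ⟨_, hinv x hx3 g, hg, h⟩
    · refine ⟨(g * x * g⁻¹)⁻¹, by rw [inv_pow, hinv x hx3 g, inv_one], fun e => hg ?_, ?_⟩
      · exact (Commute.inv_right_iff.1 e).eq
      · rw [hi _ (hinv x hx3 g)]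
        have hY := rho_cube hρ (hinv x hx3 g) (by simpa using hx1)
        linear_combination (norm := noncomm_ring) ρ x * hY + hY * ρ x + hY - h
  have hy1 : y ≠ 1 := fun e => hxy (by simp [e])
  set X := ρ x with hXd
  set Y := ρ y with hYd
  have hX := rho_cube hρ hx3 hx1
  have hY := rho_cube hρ hy3 hy1
  rw [← hXd] at hX; rw [← hYd] at hY
  set i := X * Y with hiv
  set j := -(Y * X) with hjv
  have hinv_xy : ρ (x * y)⁻¹ = -i := by
    rw [_root_.mul_inv_rev, map_mul, hi x hx3, hi y hy3, ← hXd, ← hYd, hiv]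
    linear_combination (norm := noncomm_ring) hY * (X * X) - Y * hX - hX + hτ
  have hsq : i * i = -1 := by
    have h : ρ (x * y) * ρ (x * y)⁻¹ = 1 := by rw [← map_mul, mul_inv_cancel, map_one]
    rw [hinv_xy, map_mul, ← hXd, ← hYd, ← hiv, mul_neg] at h
    exact neg_eq_iff_eq_neg.1 h
  have hjeq : j = X + Y + 1 + i := by rw [hjv, hiv]; linear_combination (norm := abel) -hτ
  have hji : j * i = -(i * j) := by
    rw [hjv, hiv]; rw [hiv] at hτ
    linear_combination (norm := noncomm_ring) -(Y * hX * Y) - X * hY + hτ * Y - (X * hY * X) - Y * hX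
      + hτ * X
  have hij : i * j = Y - X := by
    rw [hjv, hiv]; rw [hiv] at hτ
    linear_combination (norm := noncomm_ring) -(X * hY * X) - Y * hX + hτ * X
  have hjj : j * j = -1 := by
    rw [hjv]; rw [hiv] at hτ
    linear_combination (norm := noncomm_ring) hY - Y * hX - Y * Y * hX + Y * hτ * X
  have ha : (2 : k) • X + 1 = j - i - i * j := by
    rw [hij, hjeq]; module
  have hb : (2 : k) • Y + 1 = j - i + i * j := by
    rw [hij, hjeq]; module
  have him : i * (i * j) = -j := by rw [← mul_assoc, hsq, neg_one_mul]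
  have hjm : i * (j * i) = j := by rw [hji, mul_neg, him, neg_neg]
  have hmi : i * j * i = j := by rw [mul_assoc, hjm]
  set z := x * y with hzd
  have hz : ρ z = i := by rw [hzd, map_mul]
  have hconj : ∀ w : K, ρ (z * w * z⁻¹) = -(i * ρ w * i) := fun w => by
    rw [map_mul, map_mul, hz, hinv_xy, mul_neg]
  have hc : (2 : k) • ρ (z * x * z⁻¹) + 1 = -i - j + i * j := by
    calc (2 : k) • ρ (z * x * z⁻¹) + 1 = -(i * ((2 : k) • X + 1) * i) := by
          rw [hconj, ← hXd]
          simp only [mul_add, add_mul, mul_smul_comm, smul_mul_assoc, mul_one, hsq]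
          module
      _ = _ := by
          rw [ha]
          simp only [mul_sub, sub_mul, hmi, hsq, neg_one_mul, mul_assoc, him, hjm, neg_mul, one_mul]
          linear_combination (norm := abel_nf) -hji
  have hd : (2 : k) • ρ (z * y * z⁻¹) + 1 = -i - j - i * j := by
    calc (2 : k) • ρ (z * y * z⁻¹) + 1 = -(i * ((2 : k) • Y + 1) * i) := by
          rw [hconj, ← hYd]
          simp only [mul_add, add_mul, mul_smul_comm, smul_mul_assoc, mul_one, hsq]
          module
      _ = _ := by
          rw [hb]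
          simp only [mul_sub, sub_mul, mul_add, add_mul, hmi, hsq, neg_one_mul, mul_assoc, him, hjm, neg_mul, one_mul]
          linear_combination (norm := abel_nf) hji
  -- every element of order three lies on one of four axes
  let axes : Finset (Subgroup K) := by
    classical exact {Subgroup.zpowers x, Subgroup.zpowers y, Subgroup.zpowers (z * x * z⁻¹),
      Subgroup.zpowers (z * y * z⁻¹)}
  have hax : ∀ w : K, w ^ 3 = 1 → w ≠ 1 → Subgroup.zpowers w ∈ axes := by
    intro w hw hw1
    classical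
    have he : ((2 : k) • ρ w + 1) * ((2 : k) • ρ w + 1) = -(3 : k) • 1 := by
      have h := rho_cube hρ hw hw1
      simp only [mul_add, add_mul, mul_smul_comm, smul_mul_assoc, mul_one, one_mul, smul_smul]
      linear_combination (norm := module) (4 : k) • h
    have hrel : ∀ u : K, u ^ 3 = 1 → u ≠ 1 →
        Subgroup.zpowers w = Subgroup.zpowers u ∨ ∃ s : k, (s = 1 ∨ s = -1) ∧
          ((2 : k) • ρ w + 1) * ((2 : k) • ρ u + 1) + ((2 : k) • ρ u + 1) * ((2 : k) • ρ w + 1) =
            (2 * s) • 1 := by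
      intro u hu hu1
      by_cases hc : w * u = u * w
      · left
        rcases eq_or_eq_inv_of_commute hρ hw hu hw1 hu1 hc with e | e <;> rw [e]
        exact Subgroup.zpowers_inv
      · right
        rcases hpair w u hw hu hc with h | h
        · refine ⟨-1, Or.inr rfl, ?_⟩
          simp only [mul_add, add_mul, mul_smul_comm, smul_mul_assoc, mul_one, one_mul, smul_smul]
          linear_combination (norm := module) (4 : k) • h
        · refine ⟨1, Or.inl rfl, ?_⟩
          simp only [mul_add, add_mul, mul_smul_comm, smul_mul_assoc, mul_one, one_mul, smul_smul]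
          linear_combination (norm := module) (4 : k) • h
    have hzx : z * x * z⁻¹ ≠ 1 := by simpa using hx1
    have hzy : z * y * z⁻¹ ≠ 1 := by simpa using hy1
    rcases hrel x hx3 hx1 with e | ⟨s₁, t₁, r₁⟩
    · simp [axes, e]
    rcases hrel y hy3 hy1 with e | ⟨s₂, t₂, r₂⟩
    · simp [axes, e]
    rcases hrel _ (hinv x hx3 z) hzx with e | ⟨s₃, t₃, r₃⟩
    · simp [axes, e]
    rcases hrel _ (hinv y hy3 z) hzy with e | ⟨s₄, t₄, r₄⟩
    · simp [axes, e]
    rw [← hXd, ha] at r₁
    rw [← hYd, hb] at r₂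
    rw [hc] at r₃
    rw [hd] at r₄
    exact (no_fifth hsq hjj hji he r₁ r₂ r₃ r₄ t₁ t₂ t₃ t₄).elim
  -- the group permutes at most four axes
  let Ω := {P : Subgroup K // Nat.card P = 3}
  have hΩ : Nat.card Ω ≤ 4 := by
    classical
    have hmem : ∀ P : Ω, P.1 ∈ axes := fun ⟨P, hP⟩ => by
      obtain ⟨w, hw⟩ := exists_prime_orderOf_dvd_card' 3 (G := P) (by rw [hP])
      have hwK : orderOf (w : K) = 3 := by rw [Subgroup.orderOf_coe, hw]
      have : P = Subgroup.zpowers (w : K) := (Subgroup.eq_of_le_of_card_ge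
        (Subgroup.zpowers_le.2 w.2) (by rw [hP, Nat.card_zpowers, hwK])).symm
      show P ∈ axes
      rw [this]
      exact hax _ (hwK ▸ pow_orderOf_eq_one _) (fun e => by simp [e] at hwK)
    calc Nat.card Ω ≤ Nat.card axes :=
          Nat.card_le_card_of_injective (fun P => (⟨P.1, hmem P⟩ : axes)) fun P Q e =>
            Subtype.ext (congrArg (fun t : axes => (t : Subgroup K)) e :)
      _ ≤ 4 := by rw [Nat.card_eq_finsetCard]; exact Finset.card_le_four
  let act : K →* Equiv.Perm Ω :=
    MonoidHom.mk' (fun g =>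
      { toFun := fun P => ⟨P.1.map (MulAut.conj g).toMonoidHom, by
          rw [Subgroup.card_map_of_injective (MulAut.conj g).injective, P.2]⟩
        invFun := fun P => ⟨P.1.map (MulAut.conj g⁻¹).toMonoidHom, by
          rw [Subgroup.card_map_of_injective (MulAut.conj g⁻¹).injective, P.2]⟩
        left_inv := fun P => Subtype.ext (Subgroup.ext fun q => by simp [Subgroup.map_map, mul_assoc])
        right_inv := fun P => Subtype.ext (Subgroup.ext fun q => by simp [Subgroup.map_map, mul_assoc]) })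
      (fun a b => Equiv.ext fun P => Subtype.ext (by
        show P.1.map _ = (P.1.map _).map _
        rw [Subgroup.map_map]
        congr 1
        ext q
        simp [mul_assoc]))
  haveI : Finite (Equiv.Perm Ω) := inferInstance
  have hsolv : Group.IsSolvable (Equiv.Perm Ω) := by
    obtain ⟨n, hn⟩ : ∃ n, Nat.card (Equiv.Perm Ω) = n := ⟨_, rfl⟩
    have hd : Nat.card (Equiv.Perm Ω) ∣ 2 ^ 3 * 3 ^ 1 := by
      rw [Nat.card_perm]; exact (Nat.factorial_dvd_factorial hΩ).trans (by decide)
    obtain ⟨a, b, hab, ha3, hb1⟩ := exists_exponents_of_dvd hd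
    exact CharInt.isSolvable_of_card_eq Nat.prime_two Nat.prime_three hab
  refine hcentral x hx3 hx1 fun g => ?_
  have hfix := congrArg (fun σ => (σ ⟨Subgroup.zpowers x, by rw [Nat.card_zpowers, hx]⟩ : Ω).1)
    (hom_eq_one hperf hsolv act g)
  have hmem : g * x * g⁻¹ ∈ Subgroup.zpowers x := by
    have : g * x * g⁻¹ ∈ (Subgroup.zpowers x).map (MulAut.conj g).toMonoidHom :=
      ⟨x, Subgroup.mem_zpowers x, by simp⟩
    exact (show (Subgroup.zpowers x).map (MulAut.conj g).toMonoidHom = Subgroup.zpowers x from hfix) ▸ this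
  refine eq_or_eq_inv_of_commute hρ (hinv x hx3 g) hx3 (by simpa using hx1) hx1 ?_
  obtain ⟨m, hm⟩ := hmem
  rw [← hm]
  exact ((Commute.refl x).zpow_left m).eq

end Rep

omit [Finite K] in
/-- **Zassenhaus**: a finite non-solvable group with a fixed-point-free representation in
characteristic zero contains a copy of `SL(2, 5)`. -/
theorem exists_SL25 {G : Type*} [Group G] [Finite G] {k : Type} [Field k] [CharZero k] [IsAlgClosed k]
    {V : Type} [AddCommGroup V] [Module k V] [FiniteDimensional k V] [Nontrivial V]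
    {ρ : G →* Module.End k V} (hρ : IsFpfRep ρ) (hns : ¬ Group.IsSolvable G) :
    ∃ K : Subgroup G, Nonempty (K ≃* SL(2, ZMod 5)) := by
  obtain ⟨K, hKns, hKmin⟩ : ∃ K : Subgroup G, ¬ Group.IsSolvable K ∧
      ∀ L : Subgroup G, L < K → Group.IsSolvable L := by
    obtain ⟨K, hK⟩ := (Set.toFinite {K : Subgroup G | ¬ Group.IsSolvable K}).exists_minimal
      ⟨⊤, fun h => hns (by
        haveI := h
        exact Group.isSolvable_of_surjective (f := (Subgroup.topEquiv : (⊤ : Subgroup G) ≃* G).toMonoidHom)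
          Subgroup.topEquiv.surjective)⟩
    exact ⟨K, hK.1, fun L hL => by_contra fun h => hL.not_ge (hK.2 h hL.le)⟩
  have hmin : ∀ L : Subgroup K, L ≠ ⊤ → Group.IsSolvable L := by
    intro L hL
    have hlt : L.map K.subtype < K := lt_of_le_of_ne (Subgroup.map_subtype_le L) fun e => hL
      (Subgroup.map_injective K.subtype_injective
        (e.trans (by rw [← MonoidHom.range_eq_map, Subgroup.range_subtype])))
    haveI := hKmin _ hlt
    exact Group.isSolvable_of_isSolvable_injective
      (f := (Subgroup.equivMapOfInjective L K.subtype K.subtype_injective).toMonoidHom)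
      (MulEquiv.injective _)
  have hperf : commutator K = ⊤ := by
    by_contra h
    haveI := hmin _ h
    haveI : Group.IsSolvable (K ⧸ commutator K) :=
      Group.isSolvable_of_comm (G := Abelianization K) fun a b => mul_comm a b
    exact hKns (Group.isSolvable_of_ker_le_range (commutator K).subtype
      (QuotientGroup.mk' (commutator K)) (by simp))
  have hρK := comp_subgroup hρ K
  obtain ⟨x, y, hx, hy, hnc, htop⟩ := exists_generating_pair hρK hperf hKns hmin
  obtain ⟨φ, hφ⟩ := exists_sl_embedding hρK hx hy hnc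
  let e : K ≃* (Subgroup.closure {x, y} : Subgroup K) :=
    (Subgroup.topEquiv.symm).trans (MulEquiv.subgroupCongr htop.symm)
  have hψ : Function.Injective (φ.comp e.toMonoidHom) := hφ.comp e.injective
  haveI : Finite ((φ.comp e.toMonoidHom).range) :=
    Finite.of_surjective _ (φ.comp e.toMonoidHom).rangeRestrict_surjective
  let E := MonoidHom.ofInjective hψ
  obtain ⟨e'⟩ := BinaryPolyhedral.mulEquiv_SL25 (φ.comp e.toMonoidHom).range fun h => hKns (by
    haveI := h
    exact Group.isSolvable_of_isSolvable_injective (f := E.toMonoidHom) E.injective)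
  exact ⟨K, ⟨E.trans e'⟩⟩

end Cfsg.Agent.SL25
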