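import Mathlib
import Cfsg.Agent.Lib.Frobenius.SL25

/-!
# Axes of elements of order three in a fixed-point-free representation

For an element `x` of order three let `ax x = 2 ρ(x) + 1`; it squares to `-3`.  Four axes forming
a tetrahedron have at most one neighbour for each pair of them.
-/

set_option autoImplicit false
set_option linter.style.haveILetI false
set_option linter.unusedSectionVars false

open scoped MatrixGroups commutatorElement

namespace Cfsg.Agent.Axes

open FpfRep SL25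

section Algebra

variable {k : Type} [Field k] [CharZero k] {A : Type} [Ring A] [Algebra k A] [Nontrivial A]

theorem smul_one_inj {c d : k} (h : c • (1 : A) = d • 1) : c = d := by
  rw [← Algebra.algebraMap_eq_smul_one, ← Algebra.algebraMap_eq_smul_one] at h
  exact (algebraMap k A).injective h

theorem sq_smul_one (c : k) : (c • (1 : A)) * (c • 1) = (c * c) • 1 := by
  rw [smul_mul_assoc, one_mul, smul_smul]

/-- Three square roots of `20` cannot add up to `±2`. -/
theorem three_fives {t t' t'' : A} {c : k} (ht : t * t = (20 : k) • 1) (ht' : t' * t' = (20 : k) • 1)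
    (ht'' : t'' * t'' = (20 : k) • 1) (hc : c = 2 ∨ c = -2) (hsum : c • 1 + t + t' + t'' = 0) :
    False := by
  have hc2 : c * c = 4 := by rcases hc with rfl | rfl <;> norm_num
  have hc0 : c ≠ 0 := by rcases hc with rfl | rfl <;> norm_num
  have hq : t'' = -(c • 1 + t + t') := eq_neg_of_add_eq_zero_right hsum
  rw [hq, neg_mul_neg] at ht''
  simp only [mul_add, add_mul, smul_add, smul_mul_assoc, mul_smul_comm, one_mul, mul_one, smul_smul, hc2,
    ht, ht'] at ht''
  have e1 : t * t' + t' * t = -(24 : k) • 1 - (2 * c) • (t + t') := by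
    linear_combination (norm := module) ht''
  have hcomm : t * t' = t' * t := by
    have h : t * (t * t' + t' * t) = (t * t' + t' * t) * t := by
      rw [mul_add, add_mul, ← mul_assoc, ht, smul_mul_assoc, one_mul, mul_assoc t' t t, ht,
        mul_smul_comm, mul_one, mul_assoc t t' t, add_comm]
    rw [e1] at h
    simp only [mul_add, add_mul, mul_sub, sub_mul, smul_mul_assoc, mul_smul_comm, one_mul, mul_one,
      smul_add, ht] at h
    refine smul_right_injective A (mul_ne_zero two_ne_zero hc0) ?_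
    linear_combination (norm := module) -h
  have e2 : t * t' = -(12 : k) • 1 - c • t - c • t' := by
    rw [← hcomm] at e1
    linear_combination (norm := module) (1 / 2 : k) • e1
  have e3 : (20 : k) • t' = -(12 : k) • t - (20 * c) • 1 - c • (t * t') := by
    have h := congrArg (t * ·) e2
    simp only [← mul_assoc, ht, smul_mul_assoc, one_mul, mul_sub, mul_smul_comm, mul_one, smul_smul] at h
    linear_combination (norm := module) h
  rw [e2] at e3
  simp only [smul_sub, smul_smul, hc2] at e3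
  have e4 : t' = -(1 / 2 : k) • t - (c / 2) • 1 := by
    linear_combination (norm := module) (1 / 16 : k) • e3
  have e5 := ht'
  rw [e4] at e5
  simp only [mul_sub, sub_mul, smul_mul_assoc, mul_smul_comm, one_mul, mul_one, smul_smul, ht, smul_sub]
    at e5
  have e6 : c • t = (56 - 2 : k) • 1 + (2 : k) • (1 : A) - (28 : k) • (1 : A) := by
    rcases hc with rfl | rfl <;> linear_combination (norm := module) (2 : k) • e5
  have e7 : t = (c * 7) • (1 : A) := by
    have h := congrArg (c • ·) e6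
    simp only [smul_sub, smul_add, smul_smul, hc2] at h
    linear_combination (norm := module) (1 / 4 : k) • h
  rw [e7, sq_smul_one] at ht
  have := smul_one_inj ht
  rcases hc with rfl | rfl <;> norm_num at this

/-- Two axes in a coordinate plane. -/
theorem mul_pattern {i j a b c d : A} (hi : i * i = -1) (hj : j * j = -1) (hji : j * i = -(i * j))
    (hc : Commute c i ∧ Commute c j) (hd : Commute d i ∧ Commute d j) :
    (a * j + b * (i * j)) * (c * j + d * (i * j)) = -(a * c + b * d) + (a * d - b * c) * i := by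
  have cj : ∀ x : A, j * (c * x) = c * (j * x) := fun x => by rw [← mul_assoc, ← hc.2.eq, mul_assoc]
  have dj : ∀ x : A, j * (d * x) = d * (j * x) := fun x => by rw [← mul_assoc, ← hd.2.eq, mul_assoc]
  have ci : ∀ x : A, i * (c * x) = c * (i * x) := fun x => by rw [← mul_assoc, ← hc.1.eq, mul_assoc]
  have di : ∀ x : A, i * (d * x) = d * (i * x) := fun x => by rw [← mul_assoc, ← hd.1.eq, mul_assoc]
  have jij : j * (i * j) = i := by rw [← mul_assoc, hji, neg_mul, mul_assoc, hj, mul_neg_one, neg_neg]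
  have ci' : i * c = c * i := hc.1.eq.symm
  have di' : i * d = d * i := hd.1.eq.symm
  simp only [mul_add, add_mul, sub_mul, mul_assoc, cj, dj, ci, di, ci', di', jij, hj, mul_neg, mul_one]
  have iii : i * i * i = -i := by rw [hi, neg_one_mul]
  simp only [← mul_assoc] at iii ⊢
  simp only [mul_assoc, hi, mul_neg, mul_one]
  abel

end Algebra

section Rep

variable {G : Type*} [Group G] {k : Type} [Field k] [CharZero k] {V : Type} [AddCommGroup V]
  [Module k V]

/-- The axis of an element of order three. -/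
def ax (ρ : G →* Module.End k V) (x : G) : Module.End k V := (2 : k) • ρ x + 1

/-- Twice the inner product of two axes, negated. -/
def sv (ρ : G →* Module.End k V) (x y : G) : Module.End k V := ax ρ x * ax ρ y + ax ρ y * ax ρ x

variable {ρ : G →* Module.End k V}

theorem sv_comm (x y : G) : sv ρ x y = sv ρ y x := add_comm _ _

theorem ax_conj (g x : G) : ax ρ (g * x * g⁻¹) = ρ g * ax ρ x * ρ g⁻¹ := by
  rw [ax, ax, map_mul, map_mul, mul_add, add_mul, mul_one, mul_smul_comm, smul_mul_assoc, ← map_mul ρ g g⁻¹,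
    mul_inv_cancel, map_one]

theorem sv_conj (g x y : G) : sv ρ (g * x * g⁻¹) (g * y * g⁻¹) = ρ g * sv ρ x y * ρ g⁻¹ := by
  have h : ∀ a b : Module.End k V, ρ g * a * ρ g⁻¹ * (ρ g * b * ρ g⁻¹) = ρ g * (a * b) * ρ g⁻¹ := by
    intro a b
    rw [show ρ g * a * ρ g⁻¹ * (ρ g * b * ρ g⁻¹) = ρ g * a * (ρ g⁻¹ * ρ g) * b * ρ g⁻¹ by noncomm_ring,
      ← map_mul, inv_mul_cancel, map_one, mul_one, mul_assoc (ρ g) a b]
  rw [sv, sv, ax_conj, ax_conj, h, h, mul_add, add_mul]

theorem ax_comm_sv {x : G} (y : G) (hx : ax ρ x * ax ρ x = -(3 : k) • 1) :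
    Commute (sv ρ x y) (ax ρ x) := by
  show (ax ρ x * ax ρ y + ax ρ y * ax ρ x) * ax ρ x = ax ρ x * (ax ρ x * ax ρ y + ax ρ y * ax ρ x)
  rw [add_mul, mul_add, mul_assoc (ax ρ y), hx, ← mul_assoc (ax ρ x) (ax ρ x), hx, mul_smul_comm, mul_one,
    smul_mul_assoc, one_mul, ← mul_assoc]
  abel

variable [Nontrivial V] (hρ : IsFpfRep ρ)
include hρ

theorem ax_sq {x : G} (hx : x ^ 3 = 1) (hx1 : x ≠ 1) : ax ρ x * ax ρ x = -(3 : k) • 1 := by
  have h := rho_cube hρ hx hx1
  simp only [ax, mul_add, add_mul, mul_smul_comm, smul_mul_assoc, mul_one, one_mul, smul_smul]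
  linear_combination (norm := module) (4 : k) • h

theorem ax_inv {x : G} (hx : x ^ 3 = 1) (hx1 : x ≠ 1) : ax ρ x⁻¹ = -ax ρ x := by
  have hi : ρ x⁻¹ = ρ x * ρ x := by
    rw [← map_mul]; congr 1
    exact inv_eq_of_mul_eq_one_right (by rw [← mul_assoc, ← pow_three', hx])
  have h := rho_cube hρ hx hx1
  rw [ax, ax, hi]
  linear_combination (norm := module) (2 : k) • h

theorem ax_injective {x y : G} (h : ax ρ x = ax ρ y) : x = y :=
  ker_eq (smul_right_injective _ (two_ne_zero (α := k)) (add_right_cancel h)) hρ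

theorem sv_eq {x y : G} : sv ρ x y =
    (4 : k) • (ρ x * ρ y + ρ y * ρ x + ρ x + ρ y + 1) - (2 : k) • 1 := by
  simp only [sv, ax, mul_add, add_mul, mul_smul_comm, smul_mul_assoc, mul_one, one_mul, smul_smul]
  module

theorem sv_inv_right {x y : G} (hy : y ^ 3 = 1) (hy1 : y ≠ 1) : sv ρ x y⁻¹ = -sv ρ x y := by
  rw [sv, sv, ax_inv hρ hy hy1, mul_neg, neg_mul, neg_add]

theorem sv_inv_left {x y : G} (hx : x ^ 3 = 1) (hx1 : x ≠ 1) : sv ρ x⁻¹ y = -sv ρ x y := by
  rw [sv_comm, sv_inv_right hρ hx hx1, sv_comm]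

theorem sv_self {x : G} (hx : x ^ 3 = 1) (hx1 : x ≠ 1) : sv ρ x x = -(6 : k) • 1 := by
  rw [sv, ax_sq hρ hx hx1]; module

theorem sv_sq_of_commute {x y : G} (hx : x ^ 3 = 1) (hy : y ^ 3 = 1) (hx1 : x ≠ 1) (hy1 : y ≠ 1)
    (hc : x * y = y * x) : sv ρ x y = -(6 : k) • 1 ∨ sv ρ x y = (6 : k) • 1 := by
  rcases eq_or_eq_inv_of_commute hρ hx hy hx1 hy1 hc with rfl | rfl
  · exact Or.inl (sv_self hρ hx hx1)
  · right; rw [sv_inv_left hρ hy hy1, sv_self hρ hy hy1]; module

theorem not_commute_of_sv {x y : G} (hx : x ^ 3 = 1) (hy : y ^ 3 = 1) (hx1 : x ≠ 1) (hy1 : y ≠ 1)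
    {c : k} (hc : c * c ≠ 36) (h : sv ρ x y = c • 1) : x * y ≠ y * x := by
  intro hxy
  rcases sv_sq_of_commute hρ hx hy hx1 hy1 hxy with e | e <;>
    · have := smul_one_inj (e.symm.trans h)
      exact hc (by rw [← this]; norm_num)

/-- The product of two non-commuting elements of order three has order four, six or ten. -/
theorem tau_cases [IsAlgClosed k] [FiniteDimensional k V] [Finite G] {x y : G} (hx : x ^ 3 = 1)
    (hy : y ^ 3 = 1) (hnc : x * y ≠ y * x) :
    ρ x * ρ y + ρ y * ρ x + ρ x + ρ y + 1 = 0 ∨ ρ x * ρ y + ρ y * ρ x + ρ x + ρ y + 1 = 1 ∨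
      (ρ x * ρ y + ρ y * ρ x + ρ x + ρ y + 1) * (ρ x * ρ y + ρ y * ρ x + ρ x + ρ y + 1) =
        (ρ x * ρ y + ρ y * ρ x + ρ x + ρ y + 1) + 1 := by
  obtain ⟨φ, hφ⟩ := exists_sl_embedding hρ hx hy hnc
  let x' : (Subgroup.closure {x, y} : Subgroup G) := ⟨x, Subgroup.subset_closure (by simp)⟩
  let y' : (Subgroup.closure {x, y} : Subgroup G) := ⟨y, Subgroup.subset_closure (by simp)⟩
  by_cases hsol : Group.IsSolvable (Subgroup.closure {x, y} : Subgroup G)
  · rcases tau_of_solvable hρ hx hy hnc hsol with h | h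
    exacts [Or.inl h, Or.inr (Or.inl h)]
  have hns : ¬ Group.IsSolvable φ.range := fun h => hsol (by
    haveI := h
    exact Group.isSolvable_of_isSolvable_injective (f := φ.rangeRestrict)
      (fun a b e => hφ (congrArg Subtype.val e :)))
  haveI : Finite (φ.range : Subgroup SL(2, k)) := Finite.of_surjective _ φ.rangeRestrict_surjective
  obtain ⟨c5, c6⟩ := BinaryPolyhedral.orders_of_not_solvable φ.range hns (φ (x' * y')) ⟨_, rfl⟩
    ⁅φ x', φ y'⁆ ⟨⁅x', y'⁆, map_commutatorElement φ x' y'⟩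
  have hcube : ∀ z : (Subgroup.closure {x, y} : Subgroup G), (z : G) ^ 3 = 1 → φ z ^ 3 = 1 :=
    fun z hz => by rw [← map_pow, show z ^ 3 = 1 from Subtype.ext hz, map_one]
  have hne : ¬ Commute (φ x') (φ y') := fun hc => hnc
    (congrArg Subtype.val (hφ (by rw [map_mul, map_mul]; exact hc.eq) : x' * y' = y' * x'))
  have hone : ∀ n, φ (x' * y') ^ n = 1 → (x * y) ^ n = 1 := fun n hn => by
    have : (x' * y') ^ n = 1 := hφ (by rw [map_pow, hn, map_one])
    simpa [x', y'] using congrArg Subtype.val this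
  have h2 : (-1 : SL(2, k)) ≠ 1 := PSL2.neg_one_ne_one two_ne_zero
  have hneg : ∀ n, φ (x' * y') ^ n = -1 → (x * y) ^ n ≠ 1 := fun n hn e => h2 (by
    rw [← hn, ← map_pow, show (x' * y') ^ n = 1 from Subtype.ext (by simpa [x', y'] using e), map_one])
  rw [map_mul] at c5 hone hneg
  have hτ : ρ x * ρ y + ρ y * ρ x + ρ x + ρ y + 1 = ρ (x * y) + ρ (x * y)⁻¹ := by
    have hx1 : x ≠ 1 := fun e => hnc (by simp [e])
    have hy1 : y ≠ 1 := fun e => hnc (by simp [e])
    have hX := rho_cube hρ hx hx1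
    have hY := rho_cube hρ hy hy1
    have hi : ∀ z : G, z ^ 3 = 1 → ρ z⁻¹ = ρ z * ρ z := fun z hz => by
      rw [← map_mul]; congr 1
      exact inv_eq_of_mul_eq_one_right (by rw [← mul_assoc, ← pow_three', hz])
    rw [_root_.mul_inv_rev, map_mul ρ y⁻¹, hi x hx, hi y hy, map_mul]
    linear_combination (norm := noncomm_ring) -hY * (ρ x * ρ x) + ρ y * hX + hX
  set Z := ρ (x * y) with hZ
  have hZi : ρ (x * y)⁻¹ * Z = 1 := by rw [hZ, ← map_mul, inv_mul_cancel, map_one]
  have hiZ : Z * ρ (x * y)⁻¹ = 1 := by rw [hZ, ← map_mul, mul_inv_cancel, map_one]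
  rw [hτ]
  rcases BinaryPolyhedral.product_cases (φ x') (φ y') (hcube x' hx) (hcube y' hy) hne c5 c6 with h | h | h
  · left
    have hsq : Z * Z = -1 := rho_sq hρ (hone 4 (by rw [show 4 = 2 * 2 from rfl, pow_mul, h]; simp))
      (hneg 2 h)
    have : ρ (x * y)⁻¹ = -Z := by
      calc ρ (x * y)⁻¹ = ρ (x * y)⁻¹ * (Z * -Z) := by rw [mul_neg, hsq, neg_neg, mul_one]
        _ = -Z := by rw [← mul_assoc, hZi, one_mul]
    rw [this, add_neg_cancel]
  · right; left
    have hsq : Z * Z - Z + 1 = 0 := rho_six hρ (hone 6 (by rw [show 6 = 3 * 2 from rfl, pow_mul, h]; simp))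
      (hneg 3 h) (fun e => hne (by
        have e' : (φ x' * φ y') ^ 2 = 1 := by
          rw [← map_mul, ← map_pow, show (x' * y') ^ 2 = 1 from Subtype.ext (by simpa [x', y'] using e),
            map_one]
        rw [pow_two] at e'
        exact BinaryPolyhedral.commute_of_mul_central (PSL2.eq_pm_of_mul_self_eq_one two_ne_zero e')))
    have : ρ (x * y)⁻¹ = 1 - Z := by
      calc ρ (x * y)⁻¹ = ρ (x * y)⁻¹ * (Z * (1 - Z)) := by
            rw [show Z * (1 - Z) = 1 by linear_combination (norm := noncomm_ring) -hsq, mul_one]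
        _ = 1 - Z := by rw [← mul_assoc, hZi, one_mul]
    rw [this, add_sub_cancel]
  · right; right
    have h10 : ((x * y) ^ 5) ^ 2 = 1 := by
      rw [← pow_mul]; exact hone 10 (by rw [show 10 = 5 * 2 from rfl, pow_mul, h]; simp)
    have h5 : Z * Z * Z * Z * Z = -1 := by
      have := rho_involution hρ h10 (hneg 5 h)
      rw [map_pow, ← hZ] at this
      rw [← this]; noncomm_ring
    have hT : Z * Z * Z * Z - Z * Z * Z + Z * Z - Z + 1 = 0 := by
      have hm : Z * (Z * Z * Z * Z - Z * Z * Z + Z * Z - Z + 1) =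
          -(Z * Z * Z * Z - Z * Z * Z + Z * Z - Z + 1) := by
        linear_combination (norm := noncomm_ring) h5
      have hne2 : (x * y) ^ 2 ≠ 1 := fun e => hneg 5 h (by
        have e' : (φ x' * φ y') ^ 2 = 1 := by
          rw [← map_mul, ← map_pow, show (x' * y') ^ 2 = 1 from Subtype.ext (by simpa [x', y'] using e),
            map_one]
        rw [pow_two] at e'
        exact absurd (BinaryPolyhedral.commute_of_mul_central
          (PSL2.eq_pm_of_mul_self_eq_one two_ne_zero e')) hne)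
      refine eq_zero_of_fix hρ hne2 ?_
      rw [map_pow, ← hZ, pow_two, mul_assoc, hm, mul_neg, hm, neg_neg]
    have hZ' : ∀ W : Module.End k V, ρ (x * y)⁻¹ * (Z * W) = W := fun W => by rw [← mul_assoc, hZi, one_mul]
    have h2' := congrArg (fun W => ρ (x * y)⁻¹ * (ρ (x * y)⁻¹ * W)) hT
    simp only [mul_zero, mul_add, mul_sub, mul_assoc, hZ', hZi, mul_one] at h2'
    linear_combination (norm := noncomm_ring) h2' + hiZ + hZi

/-- Four axes of a binary tetrahedral subgroup, with coordinates. -/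
structure Tetra (ρ : G →* Module.End k V) where
  i : Module.End k V
  j : Module.End k V
  hi : i * i = -1
  hj : j * j = -1
  hji : j * i = -(i * j)
  u : Fin 4 → G
  gi : G
  gj : G
  hgi : ρ gi = i
  hgj : ρ gj = j
  hu : ∀ n, u n ^ 3 = 1
  hu1 : ∀ n, u n ≠ 1
  h0 : ax ρ (u 0) = i + j + i * j
  h1 : ax ρ (u 1) = i - j - i * j
  h2 : ax ρ (u 2) = -i + j - i * j
  h3 : ax ρ (u 3) = -i - j + i * j

/-- The tetrahedron of two elements of order three with product of order four. -/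
theorem exists_tetra {x y : G} (hx : x ^ 3 = 1) (hy : y ^ 3 = 1) (hx1 : x ≠ 1) (hy1 : y ≠ 1)
    (hxy : sv ρ x y = -(2 : k) • 1) :
    ∃ T : Tetra ρ, T.u 2 = x ∧ T.u 1 = y⁻¹ ∧ T.u 3 = x * y * x * (x * y)⁻¹ ∧
      T.u 0 = (x * y * y * (x * y)⁻¹)⁻¹ ∧ ∀ n, T.u n ∈ Subgroup.closure {x, y} := by
  have hi' : ∀ z : G, z ^ 3 = 1 → ρ z⁻¹ = ρ z * ρ z := fun z hz => by
    rw [← map_mul]; congr 1
    exact inv_eq_of_mul_eq_one_right (by rw [← mul_assoc, ← pow_three', hz])
  have hτ : ρ x * ρ y + ρ y * ρ x + ρ x + ρ y + 1 = 0 := by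
    rw [sv_eq hρ] at hxy
    refine smul_right_injective _ (show (4 : k) ≠ 0 by norm_num) ?_
    simp only [smul_zero]
    linear_combination (norm := module) hxy
  set X := ρ x with hXd
  set Y := ρ y with hYd
  have hX := rho_cube hρ hx hx1
  have hY := rho_cube hρ hy hy1
  rw [← hXd] at hX; rw [← hYd] at hY
  have hinv : ρ (x * y)⁻¹ = -(X * Y) := by
    rw [_root_.mul_inv_rev, map_mul, hi' x hx, hi' y hy, ← hXd, ← hYd]
    linear_combination (norm := noncomm_ring) hY * (X * X) - Y * hX - hX + hτ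
  have hinv' : ρ (y * x)⁻¹ = -(Y * X) := by
    rw [_root_.mul_inv_rev, map_mul, hi' x hx, hi' y hy, ← hXd, ← hYd]
    linear_combination (norm := noncomm_ring) hX * (Y * Y) - X * hY - hY + hτ
  have hii : X * Y * (X * Y) = -1 := by
    have h : ρ (x * y) * ρ (x * y)⁻¹ = 1 := by rw [← map_mul, mul_inv_cancel, map_one]
    rw [hinv, map_mul, ← hXd, ← hYd, mul_neg] at h
    exact neg_eq_iff_eq_neg.1 h
  have hjj : -(Y * X) * -(Y * X) = -1 := by
    linear_combination (norm := noncomm_ring) hY - Y * hX - Y * Y * hX + Y * hτ * X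
  have hji : -(Y * X) * (X * Y) = -(X * Y * -(Y * X)) := by
    linear_combination (norm := noncomm_ring) -(Y * hX * Y) - X * hY + hτ * Y - (X * hY * X) - Y * hX
      + hτ * X
  have hij : X * Y * -(Y * X) = Y - X := by
    linear_combination (norm := noncomm_ring) -(X * hY * X) - Y * hX + hτ * X
  have hjv : -(Y * X) = X + Y + 1 + X * Y := by linear_combination (norm := abel) -hτ
  generalize hI : X * Y = I at hii hji hij hjv hinv
  generalize hJ : -(Y * X) = J at hjj hji hij hjv hinv'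
  have him : I * (I * J) = -J := by rw [← mul_assoc, hii, neg_one_mul]
  have hjm : I * (J * I) = J := by rw [hji, mul_neg, him, neg_neg]
  have hmi : I * J * I = J := by rw [mul_assoc, hjm]
  have e2 : ax ρ x = -I + J - I * J := by rw [ax, ← hXd, hij, hjv]; module
  have e1 : ax ρ y⁻¹ = I - J - I * J := by
    rw [ax_inv hρ hy hy1, ax, ← hYd, hij, hjv]; module
  have e1' : ax ρ y = -I + J + I * J := by
    have := ax_inv hρ hy hy1
    rw [e1] at this
    linear_combination (norm := abel) this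
  have hz : ρ (x * y) = I := by rw [map_mul, ← hXd, ← hYd, hI]
  set z := x * y with hzd
  have hzx : (z * x * z⁻¹) ^ 3 = 1 := by rw [conj_pow, hx, mul_one, mul_inv_cancel]
  have hzy : (z * y * z⁻¹) ^ 3 = 1 := by rw [conj_pow, hy, mul_one, mul_inv_cancel]
  have hzx1 : z * x * z⁻¹ ≠ 1 := by simpa using hx1
  have hzy1 : z * y * z⁻¹ ≠ 1 := by simpa using hy1
  have e3 : ax ρ (z * x * z⁻¹) = -I - J + I * J := by
    rw [ax_conj, hz, hinv, e2]
    simp only [mul_sub, mul_add, sub_mul, add_mul, mul_neg, neg_mul, him, hii, hmi, one_mul]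
    linear_combination (norm := abel_nf) -hji
  have e0 : ax ρ (z * y * z⁻¹)⁻¹ = I + J + I * J := by
    rw [ax_inv hρ hzy hzy1, ax_conj, hz, hinv, e1']
    simp only [mul_add, add_mul, mul_neg, neg_mul, him, hii, hmi, one_mul]
    linear_combination (norm := abel_nf) -hji
  refine ⟨{ i := I, j := J, hi := hii, hj := hjj, hji := hji
            u := ![(z * y * z⁻¹)⁻¹, y⁻¹, x, z * x * z⁻¹]
            gi := z, gj := (y * x)⁻¹, hgi := hz, hgj := hinv'
            hu := fun n => ?_, hu1 := fun n => ?_, h0 := e0, h1 := e1, h2 := e2, h3 := e3 },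
    rfl, rfl, rfl, rfl, fun n => ?_⟩
  · fin_cases n <;>
      simp only [Matrix.cons_val, Fin.zero_eta, Fin.mk_one, Fin.reduceFinMk, inv_pow, hzx, hzy, hx, hy,
        inv_one]
  · fin_cases n <;>
      simp only [Matrix.cons_val, Fin.zero_eta, Fin.mk_one, Fin.reduceFinMk, ne_eq, inv_eq_one, hzx1,
        hzy1, hx1, hy1, not_false_iff]
  · have hxm : x ∈ Subgroup.closure {x, y} := Subgroup.subset_closure (by simp)
    have hym : y ∈ Subgroup.closure {x, y} := Subgroup.subset_closure (by simp)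
    have hzm : z ∈ Subgroup.closure {x, y} := mul_mem hxm hym
    fin_cases n
    · exact inv_mem (mul_mem (mul_mem hzm hym) (inv_mem hzm))
    · exact inv_mem hym
    · exact hxm
    · exact mul_mem (mul_mem hzm hxm) (inv_mem hzm)

omit hρ

variable (T : Tetra ρ)

theorem Tetra.jij : T.j * (T.i * T.j) = T.i := by
  rw [← mul_assoc, T.hji, neg_mul, mul_assoc, T.hj, mul_neg_one, neg_neg]

theorem Tetra.iij : T.i * (T.i * T.j) = -T.j := by rw [← mul_assoc, T.hi, neg_one_mul]

theorem Tetra.iji : T.i * T.j * T.i = T.j := by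
  rw [mul_assoc, T.hji, mul_neg, T.iij, neg_neg]

theorem Tetra.ijj : T.i * T.j * T.j = -T.i := by rw [mul_assoc, T.hj, mul_neg_one]

theorem Tetra.ijij : T.i * T.j * (T.i * T.j) = -1 := by rw [← mul_assoc, T.iji, T.hj]

/-- Cyclic permutation of the coordinates. -/
def Tetra.rot : Tetra ρ where
  i := T.j
  j := T.i * T.j
  hi := T.hj
  hj := T.ijij
  hji := by rw [T.ijj, T.jij]
  u := T.u ∘ ![0, 2, 3, 1]
  gi := T.gj
  gj := T.gi * T.gj
  hgi := T.hgj
  hgj := by rw [map_mul, T.hgi, T.hgj]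
  hu _ := T.hu _
  hu1 _ := T.hu1 _
  h0 := by show ax ρ (T.u 0) = _; rw [T.h0, T.jij]; abel
  h1 := by show ax ρ (T.u 2) = _; rw [T.h2, T.jij]; abel
  h2 := by show ax ρ (T.u 3) = _; rw [T.h3, T.jij]; abel
  h3 := by show ax ρ (T.u 1) = _; rw [T.h1, T.jij]; abel

/-- Reversal of two coordinates. -/
def Tetra.flip : Tetra ρ where
  i := -T.i
  j := -T.j
  hi := by rw [neg_mul_neg, T.hi]
  hj := by rw [neg_mul_neg, T.hj]
  hji := by rw [neg_mul_neg, neg_mul_neg, T.hji]
  u := T.u ∘ ![3, 2, 1, 0]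
  gi := T.gi⁻¹
  gj := T.gj⁻¹
  hgi := by
    calc ρ T.gi⁻¹ = ρ T.gi⁻¹ * (ρ T.gi * -T.i) := by rw [T.hgi, mul_neg, T.hi, neg_neg, mul_one]
      _ = -T.i := by rw [← mul_assoc, ← map_mul, inv_mul_cancel, map_one, one_mul]
  hgj := by
    calc ρ T.gj⁻¹ = ρ T.gj⁻¹ * (ρ T.gj * -T.j) := by rw [T.hgj, mul_neg, T.hj, neg_neg, mul_one]
      _ = -T.j := by rw [← mul_assoc, ← map_mul, inv_mul_cancel, map_one, one_mul]
  hu _ := T.hu _
  hu1 _ := T.hu1 _
  h0 := by show ax ρ (T.u 3) = _; rw [T.h3, neg_mul_neg]; abel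
  h1 := by show ax ρ (T.u 2) = _; rw [T.h2, neg_mul_neg]; abel
  h2 := by show ax ρ (T.u 1) = _; rw [T.h1, neg_mul_neg]; abel
  h3 := by show ax ρ (T.u 0) = _; rw [T.h0, neg_mul_neg]; abel

/-- Any ordered pair of slots becomes the first pair after a change of coordinates. -/
theorem Tetra.reparam {l m : Fin 4} (h : l ≠ m) :
    ∃ (T' : Tetra ρ) (σ : Fin 4 → Fin 4), Function.Bijective σ ∧ T'.u = T.u ∘ σ ∧ σ 0 = l ∧ σ 1 = m := by
  let r : Fin 4 → Fin 4 := ![0, 2, 3, 1]
  let f : Fin 4 → Fin 4 := ![3, 2, 1, 0]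
  let P : (Fin 4 → Fin 4) → Prop := fun σ => ∃ T' : Tetra ρ, T'.u = T.u ∘ σ
  have p0 : P id := ⟨T, rfl⟩
  have pr : ∀ σ, P σ → P (σ ∘ r) := fun σ ⟨T', hT'⟩ => ⟨T'.rot, by
    show T'.u ∘ r = _; rw [hT']; rfl⟩
  have pf : ∀ σ, P σ → P (σ ∘ f) := fun σ ⟨T', hT'⟩ => ⟨T'.flip, by
    show T'.u ∘ f = _; rw [hT']; rfl⟩
  have key : ∀ l m : Fin 4, l ≠ m → ∃ σ ∈ [id, r, r ∘ r, f, f ∘ r, f ∘ r ∘ r, r ∘ f, r ∘ f ∘ r,
      r ∘ f ∘ r ∘ r, r ∘ r ∘ f, r ∘ r ∘ f ∘ r, r ∘ r ∘ f ∘ r ∘ r],
      σ.Bijective ∧ σ 0 = l ∧ σ 1 = m := by decide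
  obtain ⟨σ, hσ, hb, e0, e1⟩ := key l m h
  obtain ⟨T', hT'⟩ : P σ := by
    simp only [List.mem_cons, List.not_mem_nil, or_false] at hσ
    rcases hσ with rfl | rfl | rfl | rfl | rfl | rfl | rfl | rfl | rfl | rfl | rfl | rfl
    exacts [p0, pr _ p0, pr _ (pr _ p0), pf _ p0, pr _ (pf _ p0), pr _ (pr _ (pf _ p0)),
      pf _ (pr _ p0), pr _ (pf _ (pr _ p0)), pr _ (pr _ (pf _ (pr _ p0))), pf _ (pr _ (pr _ p0)),
      pr _ (pf _ (pr _ (pr _ p0))), pr _ (pr _ (pf _ (pr _ (pr _ p0))))]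
  exact ⟨T', σ, hb, hT', e0, e1⟩

theorem Tetra.sum_sv (w : G) :
    sv ρ w (T.u 0) + sv ρ w (T.u 1) + sv ρ w (T.u 2) + sv ρ w (T.u 3) = 0 := by
  simp only [sv, T.h0, T.h1, T.h2, T.h3]
  noncomm_ring

theorem Tetra.sv_zero_one : sv ρ (T.u 0) (T.u 1) = (2 : k) • 1 := by
  rw [sv, T.h0, T.h1]
  simp only [mul_add, add_mul, mul_sub, sub_mul, T.hi, T.hj, T.hji, T.iij, T.jij, T.iji, T.ijj, T.ijij]
  module

theorem Tetra.sv_slots {l m : Fin 4} (h : l ≠ m) : sv ρ (T.u l) (T.u m) = (2 : k) • 1 := by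
  obtain ⟨T', σ, -, hu, e0, e1⟩ := T.reparam h
  have := T'.sv_zero_one
  rwa [hu, Function.comp_apply, Function.comp_apply, e0, e1] at this

/-- `w` lies on one of the axes of `T`. -/
def Tetra.On (w : G) : Prop := ∃ n, w = T.u n ∨ w = (T.u n)⁻¹

include hρ

variable [IsAlgClosed k] [FiniteDimensional k V] [Finite G]

/-- The possible values for non-commuting elements. -/
theorem sv_cases {x y : G} (hx : x ^ 3 = 1) (hy : y ^ 3 = 1) (hnc : x * y ≠ y * x) :
    sv ρ x y = (2 : k) • 1 ∨ sv ρ x y = -(2 : k) • 1 ∨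
      (sv ρ x y * sv ρ x y = (20 : k) • 1 ∧
        ¬ Group.IsSolvable (Subgroup.closure {x, y} : Subgroup G)) := by
  set τ := ρ x * ρ y + ρ y * ρ x + ρ x + ρ y + 1 with hτd
  have hbe : τ = 0 ∨ τ = 1 ∨ τ * τ = τ + 1 := tau_cases hρ hx hy hnc
  have hs : sv ρ x y = (4 : k) • τ - (2 : k) • 1 := sv_eq hρ
  rcases hbe with h | h | h
  · right; left; rw [hs, h]; module
  · left; rw [hs, h]; module
  · refine Or.inr (Or.inr ⟨?_, fun hsol => ?_⟩)
    · rw [hs]
      simp only [mul_sub, sub_mul, smul_mul_assoc, mul_smul_comm, mul_one, one_mul, smul_smul, h]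
      module
    · rcases tau_of_solvable hρ hx hy hnc hsol with e | e <;> rw [← hτd] at e <;> rw [e] at h <;>
        simp at h

end Rep

end Cfsg.Agent.Axes
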