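import Mathlib
import Cfsg.Agent.Lib.Frobenius.Axes

/-!
# Each pair of axes of a tetrahedron has at most one neighbour
-/

set_option autoImplicit false
set_option linter.style.haveILetI false
set_option linter.unusedSectionVars false

open scoped MatrixGroups

namespace Cfsg.Agent.Axes

open FpfRep SL25

section Norm

variable {k : Type} [Field k] [CharZero k] {A : Type} [Ring A] [Algebra k A] [Nontrivial A]

/-- The sum of the two products of axes `(0, Y, Z)`, `(0, Y', ± Z')`. -/
theorem sym_pattern {i j S S' : A} (hi : i * i = -1) (hj : j * j = -1) (hji : j * i = -(i * j))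
    (hS : Commute S i ∧ Commute S j) (hS' : Commute S' i ∧ Commute S' j) :
    let Y := (1 / 2 : k) • (1 + S); let Z := (1 / 2 : k) • (1 - S)
    let Y' := (1 / 2 : k) • (1 + S'); let Z' := (1 / 2 : k) • (1 - S')
    let e := Y * j + Z * (i * j); let f := Y' * j + Z' * (i * j); let g := Y' * j + -Z' * (i * j)
    e * f + f * e = -1 - (1 / 2 : k) • (S * S' + S' * S) ∧
      e * g + g * e = -(S + S') + (1 / 2 : k) • (S * S' - S' * S) * i := by
  intro Y Z Y' Z' e f g
  have c : ∀ {W u : A}, Commute W u → Commute ((1 / 2 : k) • (1 + W)) u ∧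
      Commute ((1 / 2 : k) • (1 - W)) u := fun h =>
    ⟨((Commute.one_left _).add_left h).smul_left _, ((Commute.one_left _).sub_left h).smul_left _⟩
  have hY : Commute Y i ∧ Commute Y j := ⟨(c hS.1).1, (c hS.2).1⟩
  have hZ : Commute Z i ∧ Commute Z j := ⟨(c hS.1).2, (c hS.2).2⟩
  have hY' : Commute Y' i ∧ Commute Y' j := ⟨(c hS'.1).1, (c hS'.2).1⟩
  have hZ' : Commute Z' i ∧ Commute Z' j := ⟨(c hS'.1).2, (c hS'.2).2⟩
  have hnZ' : Commute (-Z') i ∧ Commute (-Z') j := ⟨hZ'.1.neg_left, hZ'.2.neg_left⟩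
  refine ⟨?_, ?_⟩
  · show (Y * j + Z * (i * j)) * (Y' * j + Z' * (i * j)) + (Y' * j + Z' * (i * j)) * (Y * j + Z * (i * j)) = _
    rw [mul_pattern hi hj hji hY' hZ', mul_pattern hi hj hji hY hZ]
    simp only [Y, Z, Y', Z', smul_mul_assoc, mul_smul_comm, mul_add, add_mul, mul_sub, sub_mul, one_mul,
      mul_one, smul_smul, smul_add, smul_sub, neg_mul]
    module
  · show (Y * j + Z * (i * j)) * (Y' * j + -Z' * (i * j)) + (Y' * j + -Z' * (i * j)) * (Y * j + Z * (i * j)) = _
    rw [mul_pattern hi hj hji hY' hnZ', mul_pattern hi hj hji hY hZ]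
    simp only [Y, Z, Y', Z', smul_mul_assoc, mul_smul_comm, mul_add, add_mul, mul_sub, sub_mul, one_mul,
      mul_one, smul_smul, smul_add, smul_sub, neg_mul, mul_neg]
    module

/-- Square of the second sum. -/
theorem sq_second {i S S' : A} (hi : i * i = -1) (hSi : Commute S i) (hSi' : Commute S' i)
    (hS : S * S = (5 : k) • 1) (hS' : S' * S' = (5 : k) • 1) :
    (-(S + S') + (1 / 2 : k) • (S * S' - S' * S) * i) * (-(S + S') + (1 / 2 : k) • (S * S' - S' * S) * i) =
      (35 : k) • 1 + (S * S' + S' * S) - (1 / 4 : k) • ((S * S' + S' * S) * (S * S' + S' * S)) := by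
  have a1 : ∀ W : A, S * (S * W) = (5 : k) • W := fun W => by
    rw [← mul_assoc, hS, smul_mul_assoc, one_mul]
  have a2 : ∀ W : A, S' * (S' * W) = (5 : k) • W := fun W => by
    rw [← mul_assoc, hS', smul_mul_assoc, one_mul]
  have b1 : ∀ W : A, i * (S * W) = S * (i * W) := fun W => by rw [← mul_assoc, ← hSi.eq, mul_assoc]
  have b2 : ∀ W : A, i * (S' * W) = S' * (i * W) := fun W => by rw [← mul_assoc, ← hSi'.eq, mul_assoc]
  have b3 : i * S = S * i := hSi.eq.symm
  have b4 : i * S' = S' * i := hSi'.eq.symm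
  simp only [mul_add, add_mul, mul_sub, sub_mul, smul_mul_assoc, mul_smul_comm, neg_mul, mul_neg,
    mul_assoc, a1, a2, b1, b2, b3, b4, hi, hS, hS', smul_smul, smul_add, smul_sub, smul_neg, mul_one]
  module

end Norm

section Rep

variable {G : Type*} [Group G] [Finite G] {k : Type} [Field k] [CharZero k] [IsAlgClosed k]
  {V : Type} [AddCommGroup V] [Module k V] [FiniteDimensional k V] [Nontrivial V]
  {ρ : G →* Module.End k V} (hρ : IsFpfRep ρ) (T : Tetra ρ)
include hρ

theorem not_commute_of_not_on {w : G} (hw : w ^ 3 = 1) (hw1 : w ≠ 1) (hon : ¬ T.On w) (n : Fin 4) :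
    w * T.u n ≠ T.u n * w := fun h =>
  hon ⟨n, eq_or_eq_inv_of_commute hρ hw (T.hu n) hw1 (T.hu1 n) h⟩

theorem scal_ne_five {c : k} (hc : c * c ≠ 20) {s : Module.End k V} (h : s = c • 1) :
    s * s ≠ (20 : k) • 1 := fun e => by
  rw [h, sq_smul_one] at e
  exact hc (smul_one_inj e)

/-- An axis outside a tetrahedron adjacent to one slot is adjacent to exactly two, with opposite
signs. -/
theorem deg_two {w : G} (hw : w ^ 3 = 1) (hw1 : w ≠ 1) (hon : ¬ T.On w) {l : Fin 4} {c : k}
    (hc : c = 2 ∨ c = -2) (hl : sv ρ w (T.u l) = c • 1) :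
    ∃ m, m ≠ l ∧ sv ρ w (T.u m) = -c • 1 ∧
      ∀ n, n ≠ l → n ≠ m → sv ρ w (T.u n) * sv ρ w (T.u n) = (20 : k) • 1 := by
  obtain ⟨l', hl'⟩ : ∃ l', l ≠ l' := (exists_ne l).imp fun a ha => ha.symm
  obtain ⟨T', σ, hσ, hu, e0, -⟩ := T.reparam hl'
  have hcase : ∀ n, (∃ d : k, (d = 2 ∨ d = -2) ∧ sv ρ w (T'.u n) = d • 1) ∨
      sv ρ w (T'.u n) * sv ρ w (T'.u n) = (20 : k) • 1 := by
    intro n
    rcases sv_cases hρ hw (T'.hu n) (by rw [hu]; exact not_commute_of_not_on hρ T hw hw1 hon _) with h | h | h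
    exacts [Or.inl ⟨2, Or.inl rfl, h⟩, Or.inl ⟨-2, Or.inr rfl, h⟩, Or.inr h.1]
  have h0 : sv ρ w (T'.u 0) = c • 1 := by rw [hu, Function.comp_apply, e0]; exact hl
  have hsum := T'.sum_sv w
  rw [h0] at hsum
  suffices key : ∃ m, m ≠ 0 ∧ sv ρ w (T'.u m) = -c • 1 ∧
      ∀ n, n ≠ 0 → n ≠ m → sv ρ w (T'.u n) * sv ρ w (T'.u n) = (20 : k) • 1 by
    obtain ⟨m, hm0, hm, hrest⟩ := key
    refine ⟨σ m, fun e => hm0 (hσ.1 (e.trans e0.symm)), by rw [hu] at hm; exact hm, fun n hnl hnm => ?_⟩
    obtain ⟨n', rfl⟩ := hσ.2 n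
    have := hrest n' (fun e => hnl (e ▸ e0)) (fun e => hnm (e ▸ rfl))
    rwa [hu] at this
  have hcc : c * c = 4 := by rcases hc with rfl | rfl <;> norm_num
  -- two scalars and two square roots of twenty
  have two : ∀ (d : k) (t t' : Module.End k V), d = 2 ∨ d = -2 → c • 1 + d • 1 + t + t' = 0 →
      t * t = (20 : k) • 1 → t' * t' = (20 : k) • 1 → d = -c := by
    intro d t t' hd hsum ht ht'
    by_contra hne
    have hdc : d = c := by
      rcases hc with rfl | rfl <;> rcases hd with rfl | rfl <;> first | rfl | (exfalso; exact hne (by norm_num))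
    subst hdc
    have e : t' = -((2 * d) • 1 + t) := by linear_combination (norm := module) hsum
    rw [e, neg_mul_neg] at ht'
    simp only [mul_add, add_mul, smul_mul_assoc, mul_smul_comm, one_mul, mul_one, smul_smul, ht] at ht'
    have hd0 : d ≠ 0 := by rcases hd with rfl | rfl <;> norm_num
    have h4 : d * d = 4 := hcc
    have : t = (-d) • 1 := by
      refine smul_right_injective _ (mul_ne_zero (show (4 : k) ≠ 0 by norm_num) hd0) ?_
      have h16 : (2 * d * (2 * d)) = (16 : k) := by linear_combination (4 : k) * h4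
      have h16' : 4 * d * -d = -(16 : k) := by linear_combination (-4 : k) * h4
      simp only [smul_smul, smul_add, h16, h16'] at ht' ⊢
      linear_combination (norm := module) ht'
    exact scal_ne_five hρ (c := -d) (by rw [neg_mul_neg, h4]; norm_num) this ht
  -- one square root of twenty
  have one : ∀ (d e : k) (t : Module.End k V), d = 2 ∨ d = -2 → e = 2 ∨ e = -2 →
      c • 1 + d • 1 + e • 1 + t = 0 → t * t = (20 : k) • 1 → False := by
    intro d e t hd he hsum ht
    refine scal_ne_five hρ (c := -(c + d + e)) ?_ ?_ ht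
    · rcases hc with rfl | rfl <;> rcases hd with rfl | rfl <;> rcases he with rfl | rfl <;> norm_num
    · linear_combination (norm := module) hsum
  rcases hcase 1 with ⟨d₁, k₁, g₁⟩ | g₁ <;> rcases hcase 2 with ⟨d₂, k₂, g₂⟩ | g₂ <;>
    rcases hcase 3 with ⟨d₃, k₃, g₃⟩ | g₃
  · exfalso
    have hi := T'.hi
    have hj := T'.hj
    rw [g₁, g₂, g₃] at hsum
    have hscal : ∀ {x : Module.End k V} {d : k}, (d = 2 ∨ d = -2) →
        ax ρ w * x + x * ax ρ w = d • 1 → ∃ s : k, (s = 1 ∨ s = -1) ∧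
          ax ρ w * x + x * ax ρ w = (2 * s) • 1 := by
      intro x d hd h
      rcases hd with rfl | rfl
      · exact ⟨1, Or.inl rfl, by rw [h, mul_one]⟩
      · exact ⟨-1, Or.inr rfl, by rw [h, mul_neg_one]⟩
    obtain ⟨s₁, t₁, r₁⟩ := hscal (x := T'.j - T'.i - T'.i * T'.j) k₂ (by
      rw [show T'.j - T'.i - T'.i * T'.j = ax ρ (T'.u 2) by rw [T'.h2]; abel]; exact g₂)
    obtain ⟨s₂, t₂, r₂⟩ := hscal (x := T'.j - T'.i + T'.i * T'.j) (d := -d₁)
      (by rcases k₁ with rfl | rfl <;> norm_num) (by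
      rw [show T'.j - T'.i + T'.i * T'.j = -ax ρ (T'.u 1) by rw [T'.h1]; abel, mul_neg, neg_mul, ← neg_add]
      rw [neg_smul]; exact congrArg Neg.neg g₁)
    obtain ⟨s₃, t₃, r₃⟩ := hscal (x := -T'.i - T'.j + T'.i * T'.j) k₃ (by
      rw [← T'.h3]; exact g₃)
    obtain ⟨s₄, t₄, r₄⟩ := hscal (x := -T'.i - T'.j - T'.i * T'.j) (d := -c)
      (by rcases hc with rfl | rfl <;> norm_num) (by
      rw [show -T'.i - T'.j - T'.i * T'.j = -ax ρ (T'.u 0) by rw [T'.h0]; abel, mul_neg, neg_mul, ← neg_add]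
      rw [neg_smul]; exact congrArg Neg.neg h0)
    exact no_fifth hi hj T'.hji (ax_sq hρ hw hw1) r₁ r₂ r₃ r₄ t₁ t₂ t₃ t₄
  · rw [g₁, g₂] at hsum; exact (one d₁ d₂ _ k₁ k₂ hsum g₃).elim
  · rw [g₁, g₃] at hsum
    exact (one d₁ d₃ _ k₁ k₃ (by linear_combination (norm := module) hsum) g₂).elim
  · rw [g₁] at hsum
    refine ⟨1, by decide, by rw [g₁, two d₁ _ _ k₁ hsum g₂ g₃], fun n h h' => ?_⟩
    fin_cases n <;> first | exact absurd rfl h | exact absurd rfl h' | assumption
  · rw [g₂, g₃] at hsum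
    exact (one d₂ d₃ _ k₂ k₃ (by linear_combination (norm := module) hsum) g₁).elim
  · rw [g₂] at hsum
    refine ⟨2, by decide, by rw [g₂, two d₂ _ _ k₂ (by linear_combination (norm := module) hsum) g₁ g₃],
      fun n h h' => ?_⟩
    fin_cases n <;> first | exact absurd rfl h | exact absurd rfl h' | assumption
  · rw [g₃] at hsum
    refine ⟨3, by decide, by rw [g₃, two d₃ _ _ k₃ (by linear_combination (norm := module) hsum) g₁ g₂],
      fun n h h' => ?_⟩
    fin_cases n <;> first | exact absurd rfl h | exact absurd rfl h' | assumption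
  · exact (three_fives g₁ g₂ g₃ hc hsum).elim

/-- Coordinates of a neighbour of the first two slots. -/
theorem pattern {w : G} (hw : w ^ 3 = 1) (hw1 : w ≠ 1) (hon : ¬ T.On w)
    (h0 : sv ρ w (T.u 0) = -(2 : k) • 1) (h1 : sv ρ w (T.u 1) = (2 : k) • 1) :
    (sv ρ w (T.u 2) * sv ρ w (T.u 2) = (20 : k) • 1) ∧
    ∃ S : Module.End k V, S * S = (5 : k) • 1 ∧ Commute S T.i ∧ Commute S T.j ∧
      ax ρ w = (1 / 2 : k) • (1 + S) * T.j + (1 / 2 : k) • (1 - S) * (T.i * T.j) := by
  obtain ⟨m, hm0, hm, hrest⟩ := deg_two hρ T hw hw1 hon (Or.inr rfl) h0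
  have hm1 : m = 1 := by
    by_contra hne
    exact scal_ne_five hρ (by norm_num) h1 (hrest 1 (by decide) (Ne.symm hne))
  subst hm1
  have h20 := hrest 2 (by decide) (by decide)
  refine ⟨h20, ?_⟩
  set e := ax ρ w with he
  set t := sv ρ w (T.u 2) with ht
  have hsum := T.sum_sv w
  rw [h0, h1] at hsum
  have h3 : sv ρ w (T.u 3) = -t := by linear_combination (norm := module) hsum
  set m := T.i * T.j with hm'
  have hA0 : e * (T.i + T.j + m) + (T.i + T.j + m) * e = -(2 : k) • 1 := by rw [hm', ← T.h0]; exact h0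
  have hA1 : e * (T.i - T.j - m) + (T.i - T.j - m) * e = (2 : k) • 1 := by rw [hm', ← T.h1]; exact h1
  have hA2 : e * (-T.i + T.j - m) + (-T.i + T.j - m) * e = t := by rw [hm', ← T.h2]; rfl
  simp only [mul_add, add_mul, mul_sub, sub_mul, mul_neg, neg_mul] at hA0 hA1 hA2
  have hei : e * T.i + T.i * e = 0 := by linear_combination (norm := module) (1 / 2 : k) • hA0 + (1 / 2 : k) • hA1
  -- `t` commutes with `i`
  have hti : Commute t T.i := by
    have hgi : ρ T.gi⁻¹ = -T.i := by
      calc ρ T.gi⁻¹ = ρ T.gi⁻¹ * (ρ T.gi * -T.i) := by rw [T.hgi, mul_neg, T.hi, neg_neg, mul_one]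
        _ = -T.i := by rw [← mul_assoc, ← map_mul, inv_mul_cancel, map_one, one_mul]
    have hie : T.i * e * T.i = e := by
      rw [mul_assoc, eq_neg_of_add_eq_zero_left hei, mul_neg, ← mul_assoc, T.hi, neg_mul, one_mul, neg_neg]
    have h23 : T.gi * T.u 2 * T.gi⁻¹ = T.u 3 := ax_injective hρ (by
      rw [ax_conj, T.hgi, hgi, T.h2, T.h3]
      simp only [mul_add, add_mul, mul_sub, sub_mul, mul_neg, neg_mul, T.hi, T.iij, T.iji, one_mul]
      linear_combination (norm := abel) -T.hji)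
    have hwi : T.gi * w * T.gi⁻¹ = w⁻¹ := ax_injective hρ (by
      rw [ax_conj, T.hgi, hgi, ax_inv hρ hw hw1, ← he, mul_neg, hie])
    have h := sv_conj (ρ := ρ) T.gi w (T.u 2)
    rw [hwi, h23, sv_inv_left hρ hw hw1, h3, neg_neg, ← ht, T.hgi, hgi] at h
    show t * T.i = T.i * t
    calc t * T.i = T.i * t * -T.i * T.i := by rw [← h]
      _ = T.i * t := by rw [mul_assoc, neg_mul, T.hi, neg_neg, mul_one]
  have hta : Commute t (ax ρ (T.u 2)) := by
    rw [ht, sv_comm]; exact ax_comm_sv w (ax_sq hρ (T.hu 2) (T.hu1 2))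
  have hte : Commute t e := ax_comm_sv (T.u 2) (ax_sq hρ hw hw1)
  have htm : Commute t m ∧ Commute t T.j := by
    have hprod : Commute t (ax ρ (T.u 2) * T.i) := hta.mul_right hti
    have hval : ax ρ (T.u 2) * T.i = 1 - m - T.j := by
      rw [T.h2]
      simp only [add_mul, sub_mul, neg_mul, T.hi, T.hji, T.iji, ← hm']
      rw [show m * T.i = T.j from T.iji]
      abel
    rw [hval] at hprod
    have hsumjm : Commute t (m + T.j) := by
      have := (Commute.one_right t).sub_right hprod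
      rwa [show (1 : Module.End k V) - (1 - m - T.j) = m + T.j by abel] at this
    have hdiff : Commute t (T.j - m) := by
      have := hta.add_right hti
      rwa [T.h2, ← hm', show -T.i + T.j - m + T.i = T.j - m by abel] at this
    have hj2 : Commute t T.j := by
      have := (hsumjm.add_right hdiff).smul_right (1 / 2 : k)
      rwa [show (1 / 2 : k) • (m + T.j + (T.j - m)) = T.j by module] at this
    exact ⟨hti.mul_right hj2, hj2⟩
  set S := -(1 / 2 : k) • t with hS
  refine ⟨S, ?_, hti.smul_left _, htm.2.smul_left _, ?_⟩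
  · rw [hS, smul_mul_assoc, mul_smul_comm, h20, smul_smul, smul_smul]; norm_num
  set Y := (1 / 2 : k) • (1 + S) with hY
  set Z := (1 / 2 : k) • (1 - S) with hZ
  have hAj : e * T.j + T.j * e = -((2 : k) • Y) := by
    rw [hY, hS]
    linear_combination (norm := module) (1 / 2 : k) • hA0 + (1 / 2 : k) • hA2
  have hAm : e * m + m * e = -((2 : k) • Z) := by
    rw [hZ, hS]
    linear_combination (norm := module) -(1 / 2 : k) • hA1 - (1 / 2 : k) • hA2
  have cY : ∀ {u : Module.End k V}, Commute t u → Commute Y u ∧ Commute Z u := fun h =>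
    ⟨((Commute.one_left _).add_left (h.smul_left _)).smul_left _,
      ((Commute.one_left _).sub_left (h.smul_left _)).smul_left _⟩
  set f := e - (Y * T.j + Z * m) with hf
  have hfj : f * T.j + T.j * f = 0 := by
    rw [hf]
    simp only [mul_sub, sub_mul, mul_add, add_mul, ← mul_assoc, ← (cY htm.2).1.eq, ← (cY htm.2).2.eq]
    simp only [mul_assoc, hm', T.hj, T.jij, T.ijj, mul_neg, mul_one]
    linear_combination (norm := module) hAj
  have hfi : f * T.i + T.i * f = 0 := by
    rw [hf]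
    simp only [mul_sub, sub_mul, mul_add, add_mul, ← mul_assoc, ← (cY hti).1.eq, ← (cY hti).2.eq]
    simp only [mul_assoc, hm', T.hji, T.iij, T.iji, mul_neg, ← mul_assoc]
    simp only [mul_assoc, T.hji, T.iij, T.iji, mul_neg]
    linear_combination (norm := module) hei
  have hfm : f * m + m * f = 0 := by
    rw [hf]
    simp only [mul_sub, sub_mul, mul_add, add_mul, ← mul_assoc, ← (cY htm.1).1.eq, ← (cY htm.1).2.eq]
    simp only [mul_assoc, hm', T.jij, T.ijj, T.ijij, mul_neg, mul_one]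
    linear_combination (norm := module) hAm
  have hcomm : f * m = m * f := by
    rw [hm', ← mul_assoc, eq_neg_of_add_eq_zero_left hfi, neg_mul, mul_assoc,
      eq_neg_of_add_eq_zero_left hfj, mul_neg, neg_neg, mul_assoc]
  have hf0 : f = 0 := by
    have h2 : (2 : k) • (f * m) = 0 := by
      rw [two_smul]; nth_rw 2 [hcomm]; exact hfm
    have h3' : f * m = 0 := (smul_eq_zero.1 h2).resolve_left two_ne_zero
    have := congrArg (· * m) h3'
    simpa [mul_assoc, hm', T.ijij] using this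
  exact sub_eq_zero.1 hf0

/-- Two neighbours of the first two slots coincide. -/
theorem unique_aux {w v : G} (hw : w ^ 3 = 1) (hw1 : w ≠ 1) (honw : ¬ T.On w)
    (hw0 : sv ρ w (T.u 0) = -(2 : k) • 1) (hw'1 : sv ρ w (T.u 1) = (2 : k) • 1)
    (hv : v ^ 3 = 1) (hv1 : v ≠ 1) (honv : ¬ T.On v)
    (hv0 : sv ρ v (T.u 0) = -(2 : k) • 1) (hv'1 : sv ρ v (T.u 1) = (2 : k) • 1) :
    w = v ∨ w = v⁻¹ := by
  by_cases hc : w * v = v * w
  · exact eq_or_eq_inv_of_commute hρ hw hv hw1 hv1 hc
  exfalso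
  obtain ⟨hw2, S, hS, hSi, hSj, hew⟩ := pattern hρ T hw hw1 honw hw0 hw'1
  obtain ⟨-, S', hS', hSi', hSj', hev⟩ := pattern hρ T hv hv1 honv hv0 hv'1
  set v' := T.gj * v * T.gj⁻¹ with hv'
  have hgj : ρ T.gj⁻¹ = -T.j := by
    calc ρ T.gj⁻¹ = ρ T.gj⁻¹ * (ρ T.gj * -T.j) := by rw [T.hgj, mul_neg, T.hj, neg_neg, mul_one]
      _ = -T.j := by rw [← mul_assoc, ← map_mul, inv_mul_cancel, map_one, one_mul]
  have hv'3 : v' ^ 3 = 1 := by rw [hv', conj_pow, hv, mul_one, mul_inv_cancel]
  have hv'n : v' ≠ 1 := by simpa [hv'] using hv1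
  have hev' : ax ρ v' = (1 / 2 : k) • (1 + S') * T.j + -((1 / 2 : k) • (1 - S')) * (T.i * T.j) := by
    rw [hv', ax_conj, T.hgj, hgj, hev]
    have cjY : T.j * ((1 / 2 : k) • (1 + S')) = (1 / 2 : k) • (1 + S') * T.j :=
      (((Commute.one_left _).add_left hSj').smul_left _).eq.symm
    have cjZ : T.j * ((1 / 2 : k) • (1 - S')) = (1 / 2 : k) • (1 - S') * T.j :=
      (((Commute.one_left _).sub_left hSj').smul_left _).eq.symm
    simp only [mul_add, add_mul, ← mul_assoc, cjY, cjZ]
    simp only [mul_assoc, T.hj, T.jij, mul_neg, mul_one, neg_neg]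
    simp only [← mul_assoc, neg_mul, neg_neg]
  obtain ⟨hs, hs'⟩ := sym_pattern (k := k) T.hi T.hj T.hji ⟨hSi, hSj⟩ ⟨hSi', hSj'⟩
  rw [← hew, ← hev, ← sv] at hs
  rw [← hew, ← hev', ← sv] at hs'
  set Q := S * S' + S' * S with hQ
  have hss' := sq_second (k := k) T.hi hSi hSi' hS hS'
  rw [← hQ, ← hs'] at hss'
  have hQv : Q = -(2 : k) • 1 - (2 : k) • sv ρ w v := by
    linear_combination (norm := module) (2 : k) • hs
  rw [hQv] at hss'
  simp only [mul_sub, sub_mul, smul_mul_assoc, mul_smul_comm, one_mul, mul_one, smul_smul, smul_sub] at hss'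
  rcases sv_cases hρ hw hv hc with h | h | ⟨h, -⟩
  · -- `w`, `v` and the first slot span a tetrahedron
    have hx : sv ρ (T.u 0) v = -(2 : k) • 1 := by rw [sv_comm]; exact hv0
    obtain ⟨U, u2, u1, -, -, -⟩ := exists_tetra hρ (T.hu 0) hv (T.hu1 0) hv1 hx
    have hwU2 : sv ρ w (U.u 2) = -(2 : k) • 1 := by rw [u2]; exact hw0
    have hwU1 : sv ρ w (U.u 1) = -(2 : k) • 1 := by
      rw [u1, sv_inv_right hρ hv hv1, h]; module
    have hon : U.On w := by
      by_contra hon
      obtain ⟨m, hm, hms, hrest⟩ := deg_two hρ U hw hw1 hon (Or.inr rfl) hwU2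
      by_cases hm1 : m = 1
      · rw [hm1, hwU1] at hms
        have := smul_one_inj hms
        norm_num at this
      · exact scal_ne_five hρ (by norm_num) hwU1 (hrest 1 (by decide) (Ne.symm hm1))
    -- the fourth axis
    obtain ⟨r, hr, hr1, her⟩ : ∃ r : G, r ^ 3 = 1 ∧ r ≠ 1 ∧ ax ρ r = ax ρ w + ax ρ v - ax ρ (T.u 0) := by
      have hsum : ax ρ (U.u 0) + ax ρ (U.u 1) + ax ρ (U.u 2) + ax ρ (U.u 3) = 0 := by
        rw [U.h0, U.h1, U.h2, U.h3]; abel
      rw [u1, u2, ax_inv hρ hv hv1] at hsum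
      obtain ⟨n, hn | hn⟩ := hon
      · exfalso
        have hn2 : n ≠ 2 := fun e => not_commute_of_not_on hρ T hw hw1 honw 0 (by rw [hn, e, u2])
        have := U.sv_slots hn2
        rw [← hn, hwU2] at this
        have := smul_one_inj this
        norm_num at this
      · have hax : ax ρ (U.u n) = -ax ρ w := by
          rw [hn, ax_inv hρ (U.hu n) (U.hu1 n), neg_neg]
        fin_cases n
        · exact ⟨U.u 3, U.hu 3, U.hu1 3, by
            simp only [Fin.zero_eta] at hax
            linear_combination (norm := abel) hsum - hax⟩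
        · exact absurd (by rw [hn]; simp [u1]) hc
        · exact absurd (by rw [hn]; simp [u2]) (not_commute_of_not_on hρ T hw hw1 honw 0)
        · exact ⟨U.u 0, U.hu 0, U.hu1 0, by
            simp only [Fin.reduceFinMk] at hax
            linear_combination (norm := abel) hsum - hax⟩
    set R := (1 / 2 : k) • (S + S') with hR
    have hRc : Commute R T.i ∧ Commute R T.j :=
      ⟨(hSi.add_left hSi').smul_left _, (hSj.add_left hSj').smul_left _⟩
    have her' : ax ρ r = -T.i + R * T.j - R * (T.i * T.j) := by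
      rw [her, hew, hev, T.h0, hR]
      simp only [smul_mul_assoc, add_mul, sub_mul, one_mul]
      module
    have hs2 : sv ρ r (T.u 2) = -(2 : k) • 1 - (4 : k) • R := by
      rw [sv, her', T.h2]
      have cjR : T.j * R = R * T.j := hRc.2.eq.symm
      have ciR : T.i * R = R * T.i := hRc.1.eq.symm
      have cjR' : ∀ W, T.j * (R * W) = R * (T.j * W) := fun W => by rw [← mul_assoc, cjR, mul_assoc]
      have ciR' : ∀ W, T.i * (R * W) = R * (T.i * W) := fun W => by rw [← mul_assoc, ciR, mul_assoc]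
      simp only [mul_add, add_mul, mul_sub, sub_mul, neg_mul, mul_neg, neg_neg, mul_assoc, cjR', ciR', cjR,
        ciR, T.hi, T.hj, T.hji, T.iij, T.jij, mul_one]
      module
    have hQ6 : Q = -(6 : k) • 1 := by rw [hQv, h]; module
    have hR1 : R * R = 1 := by
      rw [hR, smul_mul_assoc, mul_smul_comm, add_mul, mul_add, mul_add, hS, hS']
      linear_combination (norm := module) (1 / 4 : k) • hQ6
    -- hence `R` is scalar
    obtain ⟨c, hRs⟩ : ∃ c : k, R = c • 1 := by
      have scal : ∀ d : k, sv ρ r (T.u 2) = d • 1 → ∃ c : k, R = c • 1 := fun d hd =>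
        ⟨-(2 + d) / 4, by
          rw [hd] at hs2
          linear_combination (norm := module) (1 / 4 : k) • hs2⟩
      by_cases hcr : r * T.u 2 = T.u 2 * r
      · rcases sv_sq_of_commute hρ hr (T.hu 2) hr1 (T.hu1 2) hcr with e | e <;> exact scal _ e
      rcases sv_cases hρ hr (T.hu 2) hcr with e | e | ⟨e, -⟩
      · exact scal _ e
      · exact scal _ e
      · rw [hs2] at e
        simp only [mul_sub, sub_mul, smul_mul_assoc, mul_smul_comm, one_mul, mul_one, smul_smul, smul_sub,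
          hR1] at e
        exact ⟨0, by linear_combination (norm := module) (1 / 16 : k) • e⟩
    rw [hRs, sq_smul_one] at hR1
    have hc2 : c * c = 1 := smul_one_inj (A := Module.End k V) (by rw [hR1, one_smul])
    have hS'eq : S' = (2 * c) • 1 - S := by
      rw [hR] at hRs
      linear_combination (norm := module) (2 : k) • hRs
    rw [hS'eq] at hS'
    simp only [mul_sub, sub_mul, smul_mul_assoc, mul_smul_comm, one_mul, mul_one, smul_smul, smul_sub, hS]
      at hS'
    have hS1 : S = c • 1 := by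
      have h4 : 2 * c * (2 * c) = (4 : k) := by linear_combination (4 : k) * hc2
      rw [h4] at hS'
      refine smul_right_injective _ (show (4 * c : k) ≠ 0 from mul_ne_zero (by norm_num)
        (left_ne_zero_of_mul_eq_one hc2)) ?_
      have h4' : 4 * c * c = (4 : k) := by linear_combination (4 : k) * hc2
      simp only [smul_smul, h4']
      linear_combination (norm := module) -hS'
    rw [hS1, sq_smul_one] at hS
    have := smul_one_inj hS
    rw [hc2] at this
    norm_num at this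
  · -- the conjugate would have to be the axis itself
    rw [h] at hss'
    simp only [smul_mul_assoc, one_mul, smul_smul] at hss'
    have h36 : sv ρ w v' * sv ρ w v' = (36 : k) • 1 := by
      linear_combination (norm := module) hss'
    by_cases hcv : w * v' = v' * w
    · rcases eq_or_eq_inv_of_commute hρ hw hv'3 hw1 hv'n hcv with e | e
      all_goals
        have h02 : T.gj * T.u 0 * T.gj⁻¹ = T.u 2 := ax_injective hρ (by
          rw [ax_conj, T.hgj, hgj, T.h0, T.h2]
          simp only [mul_add, add_mul, mul_neg, neg_mul, T.hj, T.jij, T.hji, T.ijj, one_mul, neg_neg]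
          abel)
        have h1' : sv ρ v' (T.u 2) = -(2 : k) • 1 := by
          rw [← h02, hv', sv_conj, hv0, mul_smul_comm, smul_mul_assoc, mul_one, ← map_mul, mul_inv_cancel,
            map_one]
      · exact scal_ne_five hρ (c := -(2 : k)) (by norm_num) (e ▸ h1') hw2
      · refine scal_ne_five hρ (c := (2 : k)) (by norm_num) ?_ hw2
        rw [e, sv_inv_left hρ hv'3 hv'n, h1']; module
    · rcases sv_cases hρ hw hv'3 hcv with e | e | ⟨e, -⟩ <;> rw [e] at h36
      · rw [sq_smul_one] at h36; have := smul_one_inj h36; norm_num at this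
      · rw [sq_smul_one] at h36; have := smul_one_inj h36; norm_num at this
      · have := smul_one_inj h36; norm_num at this
  · rw [h] at hss'
    obtain ⟨d, hd, hd20⟩ : ∃ d : k, sv ρ w v' * sv ρ w v' = d • 1 ∧ (d = 4 ∨ d = 20 ∨ d = 36) := by
      by_cases hcv : w * v' = v' * w
      · rcases sv_sq_of_commute hρ hw hv'3 hw1 hv'n hcv with e | e <;>
          exact ⟨36, by rw [e, sq_smul_one]; norm_num, Or.inr (Or.inr rfl)⟩
      rcases sv_cases hρ hw hv'3 hcv with e | e | ⟨e, -⟩
      · exact ⟨4, by rw [e, sq_smul_one]; norm_num, Or.inl rfl⟩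
      · exact ⟨4, by rw [e, sq_smul_one]; norm_num, Or.inl rfl⟩
      · exact ⟨20, e, Or.inr (Or.inl rfl)⟩
    rw [hd] at hss'
    have hscal : sv ρ w v = (-(d - 12) / 4) • 1 := by
      linear_combination (norm := module) (1 / 4 : k) • hss'
    rw [hscal, sq_smul_one] at h
    have := smul_one_inj h
    rcases hd20 with rfl | rfl | rfl <;> norm_num at this

/-- Neighbours of the same pair of slots coincide. -/
theorem adj_unique {w v : G} (hw : w ^ 3 = 1) (hw1 : w ≠ 1) (honw : ¬ T.On w)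
    (hv : v ^ 3 = 1) (hv1 : v ≠ 1) (honv : ¬ T.On v) {l m : Fin 4} (hlm : l ≠ m) {c d : k}
    (hc : c = 2 ∨ c = -2) (hd : d = 2 ∨ d = -2)
    (hwl : sv ρ w (T.u l) = c • 1) (hwm : sv ρ w (T.u m) = -c • 1)
    (hvl : sv ρ v (T.u l) = d • 1) (hvm : sv ρ v (T.u m) = -d • 1) :
    w = v ∨ w = v⁻¹ := by
  obtain ⟨T', σ, hσ, hu, e0, e1⟩ := T.reparam hlm
  have hon : ∀ x, ¬ T.On x → ¬ T'.On x := fun x hx ⟨n, hn⟩ => hx ⟨σ n, by rwa [hu] at hn⟩
  have orient : ∀ x : G, x ^ 3 = 1 → x ≠ 1 → ¬ T.On x → ∀ a : k, a = 2 ∨ a = -2 →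
      sv ρ x (T.u l) = a • 1 → sv ρ x (T.u m) = -a • 1 →
      ∃ y : G, (y = x ∨ y = x⁻¹) ∧ y ^ 3 = 1 ∧ y ≠ 1 ∧ ¬ T'.On y ∧
        sv ρ y (T'.u 0) = -(2 : k) • 1 ∧ sv ρ y (T'.u 1) = (2 : k) • 1 := by
    intro x hx hx1 hxon a ha hl hm
    rw [hu, Function.comp_apply, Function.comp_apply, e0, e1]
    rcases ha with rfl | rfl
    · refine ⟨x⁻¹, Or.inr rfl, by rw [inv_pow, hx, inv_one], inv_ne_one.2 hx1, fun ⟨n, hn⟩ => hon x hxon ⟨n, ?_⟩,
        ?_, ?_⟩
      · rcases hn with e | e
        · right; rw [← e, inv_inv]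
        · left; exact inv_injective e
      · rw [sv_inv_left hρ hx hx1, hl]; module
      · rw [sv_inv_left hρ hx hx1, hm]; module
    · exact ⟨x, Or.inl rfl, hx, hx1, hon x hxon, hl, by rw [hm, neg_neg]⟩
  obtain ⟨w', ew, a1, a2, a3, a4, a5⟩ := orient w hw hw1 honw c hc hwl hwm
  obtain ⟨v', ev, b1, b2, b3, b4, b5⟩ := orient v hv hv1 honv d hd hvl hvm
  rcases unique_aux hρ T' a1 a2 a3 a4 a5 b1 b2 b3 b4 b5 with e | e <;> rcases ew with rfl | rfl <;>
    rcases ev with rfl | rfl <;> simp_all [inv_eq_iff_eq_inv]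

end Rep

end Cfsg.Agent.Axes
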