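import Mathlib

/-!
# Finite facts on `SL(2, 5)`
-/

set_option autoImplicit false

open scoped MatrixGroups

namespace Cfsg.Agent.SL25Facts

/-- An element of order three. -/
def x₀ : SL(2, ZMod 5) := ⟨!![0, 4; 1, 4], by decide⟩
/-- Its partner in a binary tetrahedral subgroup. -/
def y₀ : SL(2, ZMod 5) := ⟨!![2, 3; 1, 2], by decide⟩
/-- An axis outside that subgroup. -/
def b₀ : SL(2, ZMod 5) := ⟨!![2, 4; 2, 2], by decide⟩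
/-- A generating partner. -/
def y₁ : SL(2, ZMod 5) := ⟨!![0, 1; 4, 4], by decide⟩
/-- A generating partner, not conjugate to the first under the centraliser of `x₀`. -/
def y₂ : SL(2, ZMod 5) := ⟨!![1, 2; 1, 3], by decide⟩

theorem instance_facts :
    x₀ ^ 3 = 1 ∧ y₀ ^ 3 = 1 ∧ b₀ ^ 3 = 1 ∧ y₁ ^ 3 = 1 ∧ y₂ ^ 3 = 1 ∧
    (x₀ * y₀) ^ 2 = -1 ∧ (x₀ * b₀) ^ 2 = -1 ∧ (x₀ * y₁) ^ 5 = -1 ∧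
    x₀ * y₀ ≠ y₀ * x₀ ∧ x₀ * b₀ ≠ b₀ * x₀ ∧ x₀ * y₁ ≠ y₁ * x₀ ∧
    b₀ ≠ y₀ ∧ b₀ ≠ y₀⁻¹ ∧
    b₀ ≠ x₀ * y₀ * x₀ * (x₀ * y₀)⁻¹ ∧ b₀ ≠ (x₀ * y₀ * x₀ * (x₀ * y₀)⁻¹)⁻¹ ∧
    b₀ ≠ x₀ * y₀ * y₀ * (x₀ * y₀)⁻¹ ∧ b₀ ≠ (x₀ * y₀ * y₀ * (x₀ * y₀)⁻¹)⁻¹ := by
  decide +kernel

theorem gen_facts : y₁ = x₀ * y₀ * b₀ * y₀ ∧ (-1 : SL(2, ZMod 5)) ≠ 1 ∧
    Fintype.card SL(2, ZMod 5) = 120 := by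
  decide +kernel

theorem center_facts : ∀ q : SL(2, ZMod 5), q * x₀ = x₀ * q → q * y₁ = y₁ * q → q = 1 ∨ q = -1 := by
  decide +kernel

theorem five_facts :
    ((x₀ * y₁) ^ 2) ^ 5 = 1 ∧ (x₀ * y₁) ^ 2 ≠ 1 ∧ (x₀ * y₁) ^ 2 ≠ -1 := by
  decide +kernel

theorem exists_conj_x₀ : ∀ x : SL(2, ZMod 5), x ^ 3 = 1 → x ≠ 1 →
    ∃ c : SL(2, ZMod 5), c * x * c⁻¹ = x₀ := by
  decide +kernel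

theorem exists_conj_partner : ∀ y : SL(2, ZMod 5), y ^ 3 = 1 → (x₀ * y) ^ 5 = -1 →
    ∃ c : SL(2, ZMod 5), c * x₀ * c⁻¹ = x₀ ∧ (c * y * c⁻¹ = y₁ ∨ c * y * c⁻¹ = y₂) := by
  decide +kernel

end Cfsg.Agent.SL25Facts
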