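import Mathlib
import Cfsg.Agent.Lib.Frobenius.AxesUnique
import Cfsg.Agent.Lib.Frobenius.SL25Facts

/-!
# A copy of `SL(2, 5)` in a group with a fixed-point-free representation is normal and unique
-/

set_option autoImplicit false
set_option linter.style.haveILetI false
set_option linter.unusedSectionVars false

open scoped MatrixGroups

namespace Cfsg.Agent.Axes

open FpfRep SL25 SL25Facts

theorem card_SL25 : Nat.card SL(2, ZMod 5) = 120 := by
  rw [Nat.card_eq_fintype_card, gen_facts.2.2]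

variable {G : Type*} [Group G] [Finite G] {k : Type} [Field k] [CharZero k] [IsAlgClosed k]
  {V : Type} [AddCommGroup V] [Module k V] [FiniteDimensional k V] [Nontrivial V]
  {ρ : G →* Module.End k V} (hρ : IsFpfRep ρ)
include hρ

theorem sv_of_order_four {x y : G} (hx : x ^ 3 = 1) (hy : y ^ 3 = 1) (hnc : x * y ≠ y * x)
    (h4 : (x * y) ^ 4 = 1) (h2 : (x * y) ^ 2 ≠ 1) : sv ρ x y = -(2 : k) • 1 := by
  have hX := rho_cube hρ hx fun e => hnc (by simp [e])
  have hY := rho_cube hρ hy fun e => hnc (by simp [e])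
  have hi : ∀ z : G, z ^ 3 = 1 → ρ z⁻¹ = ρ z * ρ z := fun z hz => by
    rw [← map_mul]; congr 1
    exact inv_eq_of_mul_eq_one_right (by rw [← mul_assoc, ← pow_three', hz])
  have hsq := rho_sq hρ h4 h2
  have hinv : ρ (x * y)⁻¹ = -ρ (x * y) := by
    calc ρ (x * y)⁻¹ = ρ (x * y)⁻¹ * (ρ (x * y) * -ρ (x * y)) := by rw [mul_neg, hsq, neg_neg, mul_one]
      _ = -ρ (x * y) := by rw [← mul_assoc, ← map_mul, inv_mul_cancel, map_one, one_mul]
  rw [_root_.mul_inv_rev, map_mul, map_mul, hi x hx, hi y hy] at hinv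
  rw [sv_eq hρ, show ρ x * ρ y + ρ y * ρ x + ρ x + ρ y + 1 = 0 by
    linear_combination (norm := noncomm_ring) hinv - hY * (ρ x * ρ x) + ρ y * hX + hX, smul_zero]
  module

/-- Conjugation by a slot cycles the other three. -/
theorem Tetra.conj_cycle (T : Tetra ρ) {l m m' : Fin 4} (h : l ≠ m) (h' : l ≠ m') (hmm : m ≠ m') :
    T.u l * T.u m * (T.u l)⁻¹ = T.u m' ∨ (T.u l)⁻¹ * T.u m * T.u l = T.u m' := by
  obtain ⟨T', σ, hσ, hu, e0, e1⟩ := T.reparam h
  obtain ⟨n, rfl⟩ := hσ.2 m'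
  have hn0 : n ≠ 0 := fun e => h' (e ▸ e0).symm
  have hn1 : n ≠ 1 := fun e => hmm (e ▸ e1).symm
  suffices key : T'.u 0 * T'.u 1 * (T'.u 0)⁻¹ = T'.u 3 ∧ (T'.u 0)⁻¹ * T'.u 1 * T'.u 0 = T'.u 2 by
    rw [hu] at key
    simp only [Function.comp_apply, e0, e1] at key
    fin_cases n
    · exact absurd rfl hn0
    · exact absurd rfl hn1
    · exact Or.inr key.2
    · exact Or.inl key.1
  have h0 := T'.h0
  have hp : (2 : k) • ρ (T'.u 0) = T'.i + T'.j + T'.i * T'.j - 1 := by
    rw [← h0, ax]; abel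
  have hm' : (2 : k) • ρ (T'.u 0)⁻¹ = -(T'.i + T'.j + T'.i * T'.j) - 1 := by
    rw [← h0, ← ax_inv hρ (T'.hu 0) (T'.hu1 0), ax]; abel
  have four : ∀ {a b c : Module.End k V}, (4 : k) • (a * b * c) = ((2 : k) • a) * b * ((2 : k) • c) := by
    intro a b c
    rw [smul_mul_assoc, smul_mul_assoc, mul_smul_comm, smul_smul]; norm_num
  constructor
  · refine ax_injective hρ (smul_right_injective _ (show (4 : k) ≠ 0 by norm_num) ?_)
    show (4 : k) • ax ρ _ = (4 : k) • ax ρ _
    rw [ax_conj, four, hp, hm', T'.h1, T'.h3]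
    simp only [mul_add, add_mul, mul_sub, sub_mul, mul_neg, neg_mul, neg_neg, mul_assoc, T'.hi, T'.hj,
      T'.hji, T'.iij, T'.jij, mul_one, one_mul]
    module
  · refine ax_injective hρ (smul_right_injective _ (show (4 : k) ≠ 0 by norm_num) ?_)
    have hc := ax_conj (ρ := ρ) (T'.u 0)⁻¹ (T'.u 1)
    rw [inv_inv] at hc
    show (4 : k) • ax ρ _ = (4 : k) • ax ρ _
    rw [hc, four, hp, hm', T'.h1, T'.h2]
    simp only [mul_add, add_mul, mul_sub, sub_mul, mul_neg, neg_mul, neg_neg, mul_assoc, T'.hi, T'.hj,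
      T'.hji, T'.iij, T'.jij, mul_one, one_mul]
    module

/-- Opposite signs on two slots exclude lying on the tetrahedron. -/
theorem not_on_of_opposite (T : Tetra ρ) {w : G} {l m : Fin 4} (hlm : l ≠ m) {c : k} (hc : c = 2 ∨ c = -2)
    (hl : sv ρ w (T.u l) = c • 1) (hm : sv ρ w (T.u m) = -c • 1) : ¬ T.On w := by
  rintro ⟨n, hn⟩
  obtain ⟨s, hs, hsv⟩ : ∃ s : k, (s = 1 ∨ s = -1) ∧ ∀ p, sv ρ w (T.u p) = s • sv ρ (T.u n) (T.u p) := by
    rcases hn with rfl | rfl
    · exact ⟨1, Or.inl rfl, fun p => by rw [one_smul]⟩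
    · exact ⟨-1, Or.inr rfl, fun p => by rw [sv_inv_left hρ (T.hu n) (T.hu1 n), neg_smul, one_smul]⟩
  have val : ∀ p, n ≠ p → sv ρ w (T.u p) = (2 * s) • 1 := fun p hp => by
    rw [hsv, T.sv_slots hp, smul_smul, mul_comm]
  have self : sv ρ w (T.u n) = (-6 * s) • 1 := by
    rw [hsv, sv_self hρ (T.hu n) (T.hu1 n), smul_smul]; congr 1; ring
  by_cases e : n = l
  · subst e
    have := smul_one_inj (self.symm.trans hl)
    rcases hs with rfl | rfl <;> rcases hc with rfl | rfl <;> norm_num at this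
  by_cases e' : n = m
  · subst e'
    have := smul_one_inj (self.symm.trans hm)
    rcases hs with rfl | rfl <;> rcases hc with rfl | rfl <;> norm_num at this
  have h1 := smul_one_inj ((val l e).symm.trans hl)
  have h2 := smul_one_inj ((val m e').symm.trans hm)
  rcases hs with rfl | rfl <;> rcases hc with rfl | rfl <;>
    first | (norm_num at h1; done) | (norm_num at h2; done)

theorem eq_top_of_not_solvable {K : Subgroup G} (hK : Nat.card K = 120) {H : Subgroup K}
    (hH : ¬ Group.IsSolvable H) : H = ⊤ := by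
  obtain ⟨L, ⟨e⟩⟩ := exists_SL25 (comp_subgroup (comp_subgroup hρ K) H) hH
  refine Subgroup.eq_top_of_card_eq _ (le_antisymm H.card_le_card_group ?_)
  rw [hK, ← card_SL25, ← Nat.card_congr e.toEquiv]
  exact L.card_le_card_group

/-- The images of the fixed generators generate. -/
theorem closure_generators (e : SL(2, ZMod 5) →* G) (he : Function.Injective e) :
    Subgroup.closure {e x₀, e y₁} = e.range := by
  set K := e.range with hK
  have hcard : Nat.card K = 120 := by
    rw [hK, ← card_SL25]; exact (Nat.card_congr (MonoidHom.ofInjective he).toEquiv).symm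
  obtain ⟨hx, -, -, hy, -, -, -, h5, -, -, hnc, -⟩ := instance_facts
  have hle : Subgroup.closure {e x₀, e y₁} ≤ K := (Subgroup.closure_le _).2 (by
    rintro z (rfl | rfl) <;> exact ⟨_, rfl⟩)
  have hns : ¬ Group.IsSolvable (Subgroup.closure {e x₀, e y₁} : Subgroup G) := by
    intro hsol
    have ex : (e x₀) ^ 3 = 1 := by rw [← map_pow, hx, map_one]
    have ey : (e y₁) ^ 3 = 1 := by rw [← map_pow, hy, map_one]
    have enc : e x₀ * e y₁ ≠ e y₁ * e x₀ := fun h => hnc (he (by rw [map_mul, map_mul]; exact h))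
    have hτ := tau_of_solvable hρ ex ey enc hsol
    set g := e x₀ * e y₁ with hg
    have h10 : g ^ 10 = 1 := by
      rw [hg, ← map_mul, ← map_pow, show 10 = 5 * 2 from rfl, pow_mul, h5]; simp
    have hg5 : g ^ 5 ≠ 1 := fun h => gen_facts.2.1 (he (by rw [← h5, map_pow, map_mul, map_one]; exact h))
    have hg2 : g ^ 2 ≠ 1 := fun h => by
      have hg1 : g ≠ 1 := fun e1 => hg5 (by rw [e1, one_pow])
      have hz := rho_involution hρ h hg1
      refine enc (ker_eq ?_ hρ)
      rw [hg, map_mul] at hz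
      have hxi : ρ (e x₀)⁻¹ * ρ (e x₀) = 1 := by rw [← map_mul, inv_mul_cancel, map_one]
      have hyv : ρ (e y₁) = -ρ (e x₀)⁻¹ := by
        calc ρ (e y₁) = ρ (e x₀)⁻¹ * (ρ (e x₀) * ρ (e y₁)) := by rw [← mul_assoc, hxi, one_mul]
          _ = -ρ (e x₀)⁻¹ := by rw [hz, mul_neg, mul_one]
      rw [map_mul, map_mul, hz, hyv, neg_mul, hxi]
    have hX := rho_cube hρ ex (fun e1 => enc (by simp [hg, e1]))
    have hY := rho_cube hρ ey (fun e1 => enc (by simp [hg, e1]))
    have hi : ∀ z : G, z ^ 3 = 1 → ρ z⁻¹ = ρ z * ρ z := fun z hz => by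
      rw [← map_mul]; congr 1
      exact inv_eq_of_mul_eq_one_right (by rw [← mul_assoc, ← pow_three', hz])
    have hsum : ρ g + ρ g⁻¹ = ρ (e x₀) * ρ (e y₁) + ρ (e y₁) * ρ (e x₀) + ρ (e x₀) + ρ (e y₁) + 1 := by
      rw [hg, _root_.mul_inv_rev, map_mul, map_mul, hi _ ex, hi _ ey]
      linear_combination (norm := noncomm_ring) hY * (ρ (e x₀) * ρ (e x₀)) - ρ (e y₁) * hX - hX
    have hgi : ρ g * ρ g⁻¹ = 1 := by rw [← map_mul, mul_inv_cancel, map_one]
    rcases hτ with h | h <;> rw [h] at hsum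
    · have hsq : ρ g * ρ g = -1 := by
        linear_combination (norm := noncomm_ring) ρ g * hsum - hgi
      have h4 : g ^ 4 = 1 := ker_eq (ρ := ρ) (by
        rw [map_pow, show 4 = 2 * 2 from rfl, pow_mul, pow_two, pow_two, hsq, map_one]; simp) hρ
      exact hg2 (orderOf_dvd_iff_pow_eq_one.1 ((Nat.dvd_gcd (orderOf_dvd_of_pow_eq_one h4)
        (orderOf_dvd_of_pow_eq_one h10)).trans (by decide)))
    · have hsq : ρ g * ρ g = ρ g - 1 := by
        linear_combination (norm := noncomm_ring) ρ g * hsum - hgi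
      have h3 : ρ g * ρ g * ρ g = -1 := by
        linear_combination (norm := noncomm_ring) hsq * ρ g + hsq
      have h6 : g ^ 6 = 1 := ker_eq (ρ := ρ) (by
        rw [map_pow, show 6 = 3 * 2 from rfl, pow_mul, pow_two, pow_succ, pow_two, h3, map_one]; simp) hρ
      exact hg2 (orderOf_dvd_iff_pow_eq_one.1 ((Nat.dvd_gcd (orderOf_dvd_of_pow_eq_one h6)
        (orderOf_dvd_of_pow_eq_one h10)).trans (by decide)))
  have := eq_top_of_not_solvable hρ hcard (H := (Subgroup.closure {e x₀, e y₁}).subgroupOf K) fun h => hns (by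
    haveI := h
    exact Group.isSolvable_of_isSolvable_injective (f := (Subgroup.subgroupOfEquivOfLe hle).symm.toMonoidHom)
      (MulEquiv.injective _))
  exact le_antisymm hle (Subgroup.subgroupOf_eq_top.1 this)

/-- The embedding can be moved so that a given element of order three is the image of `x₀`. -/
theorem exists_reembed (e : SL(2, ZMod 5) →* G) (he : Function.Injective e) {a : G} (ha : a ∈ e.range)
    (ha3 : a ^ 3 = 1) (ha1 : a ≠ 1) :
    ∃ e' : SL(2, ZMod 5) →* G, Function.Injective e' ∧ e'.range = e.range ∧ e' x₀ = a := by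
  obtain ⟨q, rfl⟩ := ha
  obtain ⟨c, hc⟩ := exists_conj_x₀ q (he (by rw [map_pow, ha3, map_one])) (fun h => ha1 (by rw [h, map_one]))
  refine ⟨e.comp (MulAut.conj c⁻¹).toMonoidHom, he.comp (MulEquiv.injective _), ?_, ?_⟩
  · rw [MonoidHom.range_comp, MonoidHom.range_eq_top.2 (MulAut.conj c⁻¹).surjective,
      ← MonoidHom.range_eq_map]
  · show e (c⁻¹ * x₀ * c⁻¹⁻¹) = e q
    exact congrArg e (show c⁻¹ * x₀ * c⁻¹⁻¹ = q by rw [← hc]; group)

theorem sv_instance (e : SL(2, ZMod 5) →* G) (he : Function.Injective e) :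
    sv ρ (e x₀) (e y₀) = -(2 : k) • 1 ∧ sv ρ (e x₀) (e b₀) = -(2 : k) • 1 := by
  obtain ⟨hx, hy, hb, -, -, h1, h2, -, n1, n2, -⟩ := instance_facts
  have key : ∀ q, q ^ 3 = 1 → (x₀ * q) ^ 2 = -1 → x₀ * q ≠ q * x₀ →
      sv ρ (e x₀) (e q) = -(2 : k) • 1 := by
    intro q hq h hn
    refine sv_of_order_four hρ (by rw [← map_pow, hx, map_one]) (by rw [← map_pow, hq, map_one])
      (fun h' => hn (he (by rw [map_mul, map_mul]; exact h'))) ?_ ?_
    · rw [← map_mul, ← map_pow, show 4 = 2 * 2 from rfl, pow_mul, h]; simp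
    · rw [← map_mul, ← map_pow, h]
      exact fun h' => gen_facts.2.1 (he (by rw [map_one]; exact h'))
  exact ⟨key y₀ hy h1 n1, key b₀ hb h2 n2⟩

/-- Neighbours of axes of `K` lie in `K`. -/
theorem adj_mem (e : SL(2, ZMod 5) →* G) (he : Function.Injective e) {a w : G} (ha : a ∈ e.range)
    (ha3 : a ^ 3 = 1) (ha1 : a ≠ 1) (hw : w ^ 3 = 1) (hw1 : w ≠ 1) {c : k} (hc : c = 2 ∨ c = -2)
    (haw : sv ρ a w = c • 1) : w ∈ e.range := by
  obtain ⟨e', he', hrange, rfl⟩ := exists_reembed hρ e he ha ha3 ha1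
  rw [← hrange]
  obtain ⟨-, fy, fb, -, -, -, -, -, -, -, -, f1, f2, f3, f4, f5, f6⟩ := instance_facts
  have hy3 : e' y₀ ^ 3 = 1 := by rw [← map_pow, fy, map_one]
  have hb3 : e' b₀ ^ 3 = 1 := by rw [← map_pow, fb, map_one]
  obtain ⟨hxy, hxb⟩ := sv_instance hρ e' he'
  have one_of : ∀ q : G, sv ρ (e' x₀) q = -(2 : k) • 1 → q ≠ 1 := fun q h e1 => by
    rw [e1, sv, show ax ρ (1 : G) = (3 : k) • 1 by rw [ax, map_one]; module] at h
    simp only [mul_smul_comm, smul_mul_assoc, mul_one, one_mul] at h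
    have h' : ax ρ (e' x₀) = -(1 / 3 : k) • 1 := by linear_combination (norm := module) (1 / 6 : k) • h
    have := ax_sq hρ ha3 ha1
    rw [h', sq_smul_one] at this
    have := smul_one_inj this
    norm_num at this
  have hy1 := one_of _ hxy
  have hb1 := one_of _ hxb
  obtain ⟨T, u2, u1, u3, u0, hmem⟩ := exists_tetra hρ ha3 hy3 ha1 hy1 hxy
  have hTK : ∀ n, T.u n ∈ e'.range := fun n =>
    (Subgroup.closure_le _).2 (by rintro z (rfl | rfl) <;> exact ⟨_, rfl⟩) (hmem n)
  by_cases honw : T.On w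
  · obtain ⟨n, rfl | rfl⟩ := honw
    exacts [hTK n, inv_mem (hTK n)]
  have honb : ¬ T.On (e' b₀) := by
    rintro ⟨n, hn⟩
    have hx2 : x₀ * b₀ ≠ b₀ * x₀ := instance_facts.2.2.2.2.2.2.2.2.2.1
    fin_cases n
    · simp only [Fin.zero_eta, u0] at hn
      rw [← map_mul, ← map_mul, ← map_inv, ← map_mul, ← map_inv, ← map_inv, inv_inv] at hn
      rcases hn with h | h
      exacts [f6 (he' h), f5 (he' h)]
    · simp only [Fin.mk_one, u1, ← map_inv] at hn
      rcases hn with h | h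
      exacts [f2 (he' h), f1 ((he' h).trans (inv_inv y₀))]
    · simp only [Fin.reduceFinMk, u2, ← map_inv] at hn
      rcases hn with h | h
      exacts [hx2 (by rw [he' h]), hx2 (by rw [he' h]; group)]
    · simp only [Fin.reduceFinMk, u3] at hn
      rw [← map_mul, ← map_mul, ← map_inv, ← map_mul, ← map_inv] at hn
      rcases hn with h | h
      exacts [f3 (he' h), f4 (he' h)]
  have hwl : sv ρ w (T.u 2) = c • 1 := by rw [u2, sv_comm]; exact haw
  have hbl : sv ρ (e' b₀) (T.u 2) = -(2 : k) • 1 := by rw [u2, sv_comm]; exact hxb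
  obtain ⟨m, hm, hwm, -⟩ := deg_two hρ T hw hw1 honw hc hwl
  obtain ⟨m', hm', hbm, -⟩ := deg_two hρ T hb3 hb1 honb (Or.inr rfl) hbl
  -- move the neighbour of `K` to the pair of `w`
  obtain ⟨g, hg, hg2, hgm⟩ : ∃ g : G, g ∈ e'.range ∧ g * T.u 2 * g⁻¹ = T.u 2 ∧
      g * T.u m' * g⁻¹ = T.u m := by
    by_cases hmm : m' = m
    · exact ⟨1, one_mem _, by group, by rw [hmm]; group⟩
    rcases T.conj_cycle hρ hm'.symm hm.symm hmm with h | h
    · exact ⟨T.u 2, hTK 2, by group, h⟩
    · exact ⟨(T.u 2)⁻¹, inv_mem (hTK 2), by group, by rw [inv_inv]; exact h⟩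
  set b' := g * e' b₀ * g⁻¹ with hb'
  have hgg : ρ g * ρ g⁻¹ = 1 := by rw [← map_mul, mul_inv_cancel, map_one]
  have hb'l : sv ρ b' (T.u 2) = -(2 : k) • 1 := by
    rw [← hg2, hb', sv_conj, hbl, mul_smul_comm, smul_mul_assoc, mul_one, hgg]
  have hb'm : sv ρ b' (T.u m) = - -(2 : k) • 1 := by
    rw [← hgm, hb', sv_conj, hbm, mul_smul_comm, smul_mul_assoc, mul_one, hgg]
  have honb' := not_on_of_opposite hρ T hm.symm (Or.inr rfl) hb'l hb'm
  have hb'K : b' ∈ e'.range := mul_mem (mul_mem hg ⟨_, rfl⟩) (inv_mem hg)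
  rcases adj_unique hρ T hw hw1 honw (by rw [hb', conj_pow, hb3, mul_one, mul_inv_cancel])
    (by simpa [hb'] using hb1) honb' hm.symm hc (Or.inr rfl) hwl hwm hb'l hb'm with h | h <;> rw [h]
  exacts [hb'K, inv_mem hb'K]

/-- Every element of order three lies in `K`. -/
theorem mem_of_cube (e : SL(2, ZMod 5) →* G) (he : Function.Injective e) {w : G} (hw : w ^ 3 = 1) :
    w ∈ e.range := by
  by_cases hw1 : w = 1
  · rw [hw1]; exact one_mem _
  obtain ⟨hx, hy, hb, -, -, -, -, -, n1, n2, -⟩ := instance_facts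
  have hcard : Nat.card e.range = 120 := by
    rw [← card_SL25]; exact (Nat.card_congr (MonoidHom.ofInjective he).toEquiv).symm
  set a := e x₀ with ha
  have ha3 : a ^ 3 = 1 := by rw [ha, ← map_pow, hx, map_one]
  have ha1 : a ≠ 1 := fun h => n1 (by rw [he (h.trans (map_one e).symm)]; simp)
  by_cases hc : a * w = w * a
  · rcases eq_or_eq_inv_of_commute hρ hw ha3 hw1 ha1 hc.symm with h | h <;> rw [h]
    exacts [⟨_, rfl⟩, inv_mem ⟨_, rfl⟩]
  rcases sv_cases hρ ha3 hw hc with h | h | ⟨-, hns⟩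
  · exact adj_mem hρ e he ⟨_, rfl⟩ ha3 ha1 hw hw1 (Or.inl rfl) h
  · exact adj_mem hρ e he ⟨_, rfl⟩ ha3 ha1 hw hw1 (Or.inr rfl) h
  -- the pair generates another copy, which shares generators with `K`
  set K' : Subgroup G := Subgroup.closure {a, w} with hK'
  obtain ⟨φ, hφ⟩ := exists_sl_embedding hρ ha3 hw hc
  haveI : Finite (φ.range) := Finite.of_surjective _ φ.rangeRestrict_surjective
  obtain ⟨E⟩ := BinaryPolyhedral.mulEquiv_SL25 φ.range fun h => hns (by
    haveI := h
    exact Group.isSolvable_of_isSolvable_injective (f := φ.rangeRestrict)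
      (fun p q r => hφ (congrArg Subtype.val r :)))
  let E' : K' ≃* SL(2, ZMod 5) := (MonoidHom.ofInjective hφ).trans E
  let e₁ : SL(2, ZMod 5) →* G := K'.subtype.comp E'.symm.toMonoidHom
  have he₁ : Function.Injective e₁ := K'.subtype_injective.comp E'.symm.injective
  have hr₁ : e₁.range = K' := by
    rw [MonoidHom.range_comp, MonoidHom.range_eq_top.2 E'.symm.surjective, ← MonoidHom.range_eq_map,
      Subgroup.range_subtype]
  obtain ⟨e', he', hr', hax⟩ := exists_reembed hρ e₁ he₁ (a := a)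
    (by rw [hr₁]; exact Subgroup.subset_closure (by simp)) ha3 ha1
  obtain ⟨hxy, hxb⟩ := sv_instance hρ e' he'
  rw [hax] at hxy hxb
  have hne : ∀ q : SL(2, ZMod 5), x₀ * q ≠ q * x₀ → e' q ≠ 1 := fun q hq h =>
    hq (by rw [he' (h.trans (map_one e').symm)]; simp)
  have my := adj_mem hρ e he ⟨x₀, rfl⟩ ha3 ha1 (by rw [← map_pow, hy, map_one]) (hne _ n1)
    (Or.inr rfl) hxy
  have mb := adj_mem hρ e he ⟨x₀, rfl⟩ ha3 ha1 (by rw [← map_pow, hb, map_one]) (hne _ n2)
    (Or.inr rfl) hxb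
  have hle : e'.range ≤ e.range := by
    rw [← closure_generators hρ e' he', Subgroup.closure_le]
    rintro z (rfl | rfl)
    · rw [hax]; exact ⟨_, rfl⟩
    · rw [gen_facts.1, map_mul, map_mul, map_mul, hax]
      exact mul_mem (mul_mem (mul_mem ⟨_, rfl⟩ my) mb) my
  rw [hr', hr₁] at hle
  exact hle (Subgroup.subset_closure (by simp))

/-- A copy of `SL(2, 5)` contains every other copy. -/
theorem range_le_range (e e' : SL(2, ZMod 5) →* G) (he : Function.Injective e)
    (he' : Function.Injective e') : e'.range ≤ e.range := by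
  rw [← closure_generators hρ e' he', Subgroup.closure_le]
  obtain ⟨hx, -, -, hy, -⟩ := instance_facts
  rintro z (rfl | rfl)
  · exact mem_of_cube hρ e he (by rw [← map_pow, hx, map_one])
  · exact mem_of_cube hρ e he (by rw [← map_pow, hy, map_one])

/-- **The copy of `SL(2, 5)` is normal**. -/
theorem range_normal (e : SL(2, ZMod 5) →* G) (he : Function.Injective e) : e.range.Normal := by
  refine ⟨fun z hz g => ?_⟩
  refine range_le_range hρ e ((MulAut.conj g).toMonoidHom.comp e) he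
    ((MulAut.conj g).injective.comp he) ?_
  obtain ⟨q, rfl⟩ := hz
  exact ⟨q, by simp⟩

end Cfsg.Agent.Axes
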