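import Mathlib
import Cfsg.Agent.Lib.Frobenius.SL25Normal

/-!
# The structure of a group with a fixed-point-free representation and a subgroup `SL(2, 5)`
-/

set_option autoImplicit false
set_option linter.style.haveILetI false
set_option linter.unusedSectionVars false

open scoped MatrixGroups

namespace Cfsg.Agent.Axes

open FpfRep SL25 SL25Facts

variable {G : Type*} [Group G] [Finite G] {k : Type} [Field k] [CharZero k] [IsAlgClosed k]
  {V : Type} [AddCommGroup V] [Module k V] [FiniteDimensional k V] [Nontrivial V]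
  {ρ : G →* Module.End k V} (hρ : IsFpfRep ρ) (e : SL(2, ZMod 5) →* G) (he : Function.Injective e)
include hρ he

theorem rho_neg_one : ρ (e (-1)) = -1 :=
  rho_involution hρ (by rw [← map_pow]; simp) (fun h => gen_facts.2.1 (he (h.trans (map_one e).symm)))

theorem eq_one_or_of_sq {g : G} (h : g ^ 2 = 1) : g = 1 ∨ g = e (-1) := by
  by_cases h1 : g = 1
  · exact Or.inl h1
  · exact Or.inr (ker_eq (by rw [rho_involution hρ h h1, rho_neg_one hρ e he]) hρ)

theorem neg_one_central (g : G) : g * e (-1) = e (-1) * g := by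
  refine ker_eq ?_ hρ
  rw [map_mul, map_mul, rho_neg_one hρ e he]
  simp

theorem centralizer_iff {g : G} : g ∈ Subgroup.centralizer (e.range : Set G) ↔
    g * e x₀ = e x₀ * g ∧ g * e y₁ = e y₁ * g := by
  constructor
  · intro h
    exact ⟨(Subgroup.mem_centralizer_iff.1 h _ ⟨x₀, rfl⟩).symm, (Subgroup.mem_centralizer_iff.1 h _ ⟨y₁, rfl⟩).symm⟩
  · intro ⟨h1, h2⟩
    rw [← closure_generators hρ e he, Subgroup.centralizer_closure, Subgroup.mem_centralizer_iff]
    rintro z (rfl | rfl)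
    exacts [h1.symm, h2.symm]

theorem mem_inter {g : G} (hgK : g ∈ e.range) (hg : g ∈ Subgroup.centralizer (e.range : Set G)) :
    g = 1 ∨ g = e (-1) := by
  obtain ⟨q, rfl⟩ := hgK
  obtain ⟨h1, h2⟩ := (centralizer_iff hρ e he).1 hg
  rcases center_facts q (he (by rw [map_mul, map_mul]; exact h1))
    (he (by rw [map_mul, map_mul]; exact h2)) with rfl | rfl
  exacts [Or.inl (map_one e), Or.inr rfl]

/-- The centraliser has no elements of order four, three or five. -/
theorem small_orders {c : G} (hc : c ∈ Subgroup.centralizer (e.range : Set G)) :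
    (c ^ 4 = 1 → c = 1 ∨ c = e (-1)) ∧ (c ^ 3 = 1 → c = 1) ∧ (c ^ 5 = 1 → c = 1) := by
  have hne : (-1 : SL(2, ZMod 5)) ≠ 1 := gen_facts.2.1
  have h2 : ∀ {g : G}, g = 1 ∨ g = e (-1) → g ^ 2 = 1 := by
    rintro g (rfl | rfl)
    · exact one_pow 2
    · rw [← map_pow]; simp
  refine ⟨fun h4 => ?_, fun h3 => ?_, fun h5 => ?_⟩
  · by_cases hs : c ^ 2 = 1
    · exact eq_one_or_of_sq hρ e he hs
    exfalso
    obtain ⟨-, -, -, -, -, hi, -⟩ := instance_facts
    set i := e (x₀ * y₀) with hid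
    have hi2 : i ^ 2 = e (-1) := by rw [hid, ← map_pow, hi]
    have hc2 : c ^ 2 = e (-1) :=
      (eq_one_or_of_sq hρ e he (by rw [← pow_mul]; exact h4)).resolve_left hs
    have hcomm : Commute c i := (Subgroup.mem_centralizer_iff.1 hc i ⟨_, rfl⟩).symm
    have hci : (c * i) ^ 2 = 1 := by
      rw [hcomm.mul_pow, hc2, hi2, ← map_mul]; simp
    have hK : c * i ∈ e.range := by
      rcases eq_one_or_of_sq hρ e he hci with h | h <;> rw [h]
      exacts [one_mem _, ⟨_, rfl⟩]
    have hcK : c ∈ e.range := by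
      have := mul_mem hK (inv_mem (⟨_, rfl⟩ : i ∈ e.range))
      rwa [mul_inv_cancel_right] at this
    exact hs (h2 (mem_inter hρ e he hcK hc))
  · have h := h2 (mem_inter hρ e he (mem_of_cube hρ e he h3) hc)
    rw [pow_succ, h, one_mul] at h3
    exact h3
  · by_contra hc1
    haveI : Fact (Nat.Prime 5) := ⟨by norm_num⟩
    obtain ⟨f1, f2, -⟩ := five_facts
    set g := e ((x₀ * y₁) ^ 2) with hgd
    have hg : orderOf g = 5 := orderOf_eq_prime (by rw [hgd, ← map_pow, f1, map_one])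
      (fun h => f2 (he (h.trans (map_one e).symm)))
    have hcom : Commute g c := Subgroup.mem_centralizer_iff.1 hc g ⟨_, rfl⟩
    obtain ⟨n, hn⟩ := mem_zpowers_of_commute hρ hg h5 hcom
    have hcK : c ∈ e.range := hn ▸ zpow_mem (⟨_, rfl⟩ : g ∈ e.range) n
    have h := h2 (mem_inter hρ e he hcK hc)
    rw [show 5 = 2 + 2 + 1 from rfl, pow_add, pow_add, h, one_mul, one_mul, pow_one] at h5
    exact hc1 h5

/-- The odd part of the centraliser. -/
theorem exists_odd_part :
    ∃ M : Subgroup G, M.Normal ∧ M ≤ Subgroup.centralizer (e.range : Set G) ∧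
      (Nat.card M).Coprime 30 ∧
      ∀ c ∈ Subgroup.centralizer (e.range : Set G), c ∈ M ∨ e (-1) * c ∈ M := by
  set C := Subgroup.centralizer (e.range : Set G) with hC
  haveI := range_normal hρ e he
  haveI hCn : C.Normal := inferInstance
  have hzC : e (-1) ∈ C := Subgroup.mem_centralizer_iff.2 fun g _ => neg_one_central hρ e he g
  let z : C := ⟨e (-1), hzC⟩
  have hz1 : z ≠ 1 := fun h => gen_facts.2.1 (he ((congrArg Subtype.val h).trans (map_one e).symm))
  have hz2 : z ^ 2 = 1 := Subtype.ext (by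
    show e (-1) ^ 2 = 1
    rw [← map_pow]; simp)
  haveI : Fact (Nat.Prime 2) := ⟨Nat.prime_two⟩
  have hzo : orderOf z = 2 := orderOf_eq_prime hz2 hz1
  obtain ⟨P, hP⟩ := (IsPGroup.of_card (p := 2) (n := 1) (G := Subgroup.zpowers z)
    (by rw [Nat.card_zpowers, hzo, pow_one])).exists_le_sylow
  have hPeq : (P : Subgroup C) = Subgroup.zpowers z := by
    refine le_antisymm (fun p hp => ?_) hP
    obtain ⟨n, hn⟩ := P.2 ⟨p, hp⟩
    have hn' : (p : G) ^ 2 ^ n = 1 := congrArg (fun q : (P : Subgroup C) => ((q : C) : G)) hn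
    have key : ∀ (n : ℕ) (q : G), q ∈ C → q ^ 2 ^ n = 1 → q ^ 2 = 1 := by
      intro n
      induction n with
      | zero => intro q _ h; rw [pow_zero, pow_one] at h; rw [h, one_pow]
      | succ n ih =>
        intro q hq h
        have h4 : (q ^ 2) ^ 2 = 1 := ih (q ^ 2) (pow_mem hq 2) (by rw [← pow_mul, ← pow_succ']; exact h)
        rcases (small_orders hρ e he hq).1 (by rw [show 4 = 2 * 2 from rfl, pow_mul]; exact h4) with e1 | e1
        · rw [e1, one_pow]
        · rw [e1, ← map_pow]; simp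
    rcases eq_one_or_of_sq hρ e he (key n p p.2 hn') with h | h
    · rw [show p = 1 from Subtype.ext h]; exact one_mem _
    · rw [show p = z from Subtype.ext h]; exact Subgroup.mem_zpowers z
  have hZc : ∀ q : C, z * q = q * z := fun q => Subtype.ext (neg_one_central hρ e he q.1).symm
  set Z := Subgroup.zpowers z with hZ
  haveI : Z.Normal := ⟨fun a ha g => by
    obtain ⟨n, rfl⟩ := ha
    rw [show g * z ^ n * g⁻¹ = z ^ n by
      rw [← (show Commute z g from hZc g).zpow_left n |>.eq, mul_inv_cancel_right]]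
    exact zpow_mem (Subgroup.mem_zpowers z) n⟩
  have hZcard : Nat.card Z = 2 := by rw [hZ, Nat.card_zpowers, hzo]
  have hidx : (Nat.card Z).Coprime Z.index := by
    rw [hZcard, Nat.prime_two.coprime_iff_not_dvd, ← hPeq]
    exact P.not_dvd_index
  obtain ⟨M₀, hM₀⟩ := Subgroup.exists_right_complement'_of_coprime hidx
  have hM₀c : Nat.card M₀ = Z.index := hM₀.symm.index_eq_card.symm
  have hodd : ¬ 2 ∣ Nat.card M₀ := by
    rw [hM₀c, ← hPeq]; exact P.not_dvd_index
  have hmem : ∀ c : C, ¬ 2 ∣ orderOf c → c ∈ M₀ := by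
    intro c hco
    obtain ⟨⟨⟨a, ha⟩, ⟨m, hm⟩⟩, he'⟩ := hM₀.surjective c
    change a * m = c at he'
    subst he'
    have hcm : Commute a m := by
      obtain ⟨n, rfl⟩ := ha
      exact (show Commute z m from hZc m).zpow_left n
    have h := pow_orderOf_eq_one (a * m)
    rw [hcm.mul_pow] at h
    have ha' : a ^ orderOf (a * m) = 1 := Subgroup.disjoint_def.1 hM₀.disjoint (pow_mem ha _)
      (by rw [eq_inv_of_mul_eq_one_left h]; exact inv_mem (pow_mem hm _))
    have haZ : orderOf a ∣ 2 := hZcard ▸ (Subgroup.orderOf_mk (H := Z) a ha ▸ _root_.orderOf_dvd_natCard _)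
    rcases (Nat.dvd_prime Nat.prime_two).1 haZ with h1 | h1
    · rw [orderOf_eq_one_iff.1 h1, one_mul]; exact hm
    · exact absurd (h1 ▸ orderOf_dvd_of_pow_eq_one ha') hco
  have hiff : ∀ c : C, c ∈ M₀ ↔ ¬ 2 ∣ orderOf c := fun c =>
    ⟨fun hc h => hodd (h.trans (Subgroup.orderOf_mk (H := M₀) c hc ▸ _root_.orderOf_dvd_natCard _)), hmem c⟩
  refine ⟨M₀.map C.subtype, ?_, Subgroup.map_subtype_le _, ?_, ?_⟩
  · refine ⟨?_⟩
    rintro _ ⟨m, hm, rfl⟩ g
    refine ⟨⟨g * m * g⁻¹, hCn.conj_mem _ m.2 g⟩, (hiff _).2 ?_, rfl⟩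
    rw [← Subgroup.orderOf_coe]
    show ¬ 2 ∣ orderOf (g * (m : G) * g⁻¹)
    rw [← MulAut.conj_apply, MulEquiv.orderOf_eq, Subgroup.orderOf_coe]
    exact (hiff m).1 hm
  · rw [Subgroup.card_map_of_injective C.subtype_injective]
    refine Nat.coprime_of_dvd fun p hp hpM hp30 => ?_
    haveI := Fact.mk hp
    obtain ⟨m, hm⟩ := exists_prime_orderOf_dvd_card' p hpM
    have hmG : ((m : C) : G) ^ p = 1 := by
      rw [← hm, ← Subgroup.orderOf_coe, ← Subgroup.orderOf_coe]; exact pow_orderOf_eq_one _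
    have hne : ((m : C) : G) ≠ 1 := fun h => hp.ne_one (by
      rw [← hm, ← Subgroup.orderOf_coe, ← Subgroup.orderOf_coe, h, orderOf_one])
    obtain ⟨-, h3, h5⟩ := small_orders hρ e he (m : C).2
    have hle := Nat.le_of_dvd (by norm_num) hp30
    interval_cases p <;> (try norm_num at hp) <;> (try norm_num at hp30)
    · exact hodd hpM
    · exact hne (h3 hmG)
    · exact hne (h5 hmG)
  · intro c hc
    obtain ⟨⟨⟨a, ha⟩, ⟨m, hm⟩⟩, he'⟩ := hM₀.surjective ⟨c, hc⟩
    change a * m = ⟨c, hc⟩ at he'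
    obtain ⟨n, rfl⟩ := ha
    simp only at he'
    rcases Int.even_or_odd' n with ⟨j, rfl | rfl⟩
    · left
      have h1 : z ^ (2 * j) = 1 := by rw [zpow_mul, zpow_ofNat, hz2, one_zpow]
      rw [h1, one_mul] at he'
      exact ⟨m, hm, congrArg Subtype.val he'⟩
    · right
      have h1 : z ^ (2 * j + 1) = z := by rw [zpow_add, zpow_mul, zpow_ofNat, hz2, one_zpow, one_mul, zpow_one]
      rw [h1] at he'
      refine ⟨m, hm, ?_⟩
      have h2 : z * ⟨c, hc⟩ = m := by rw [← he', ← mul_assoc, ← pow_two, hz2, one_mul]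
      exact (congrArg Subtype.val h2).symm

/-- Outer automorphisms: at most one non-trivial coset. -/
theorem mem_or_mem (g h : G) :
    g ∈ e.range ⊔ Subgroup.centralizer (e.range : Set G) ∨
    h ∈ e.range ⊔ Subgroup.centralizer (e.range : Set G) ∨
    g⁻¹ * h ∈ e.range ⊔ Subgroup.centralizer (e.range : Set G) := by
  haveI := range_normal hρ e he
  set G₀ := e.range ⊔ Subgroup.centralizer (e.range : Set G) with hG₀
  haveI : G₀.Normal := inferInstance
  obtain ⟨hx, -, -, hy, -, -, -, h5, -⟩ := instance_facts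
  have cls : ∀ g : G, ∃ k ∈ e.range, (k * g) * e x₀ * (k * g)⁻¹ = e x₀ ∧
      ((k * g) * e y₁ * (k * g)⁻¹ = e y₁ ∨ (k * g) * e y₁ * (k * g)⁻¹ = e y₂) := by
    intro g
    have him : ∀ q, ∃ q', e q' = g * e q * g⁻¹ := fun q =>
      (range_normal hρ e he).conj_mem _ ⟨q, rfl⟩ g
    obtain ⟨q, hq⟩ := him x₀
    have hq3 : q ^ 3 = 1 := he (by rw [map_pow, hq, conj_pow, ← map_pow, hx, map_one]; simp)
    have hq1 : q ≠ 1 := fun h => by
      rw [h, map_one, eq_comm, conj_eq_one_iff] at hq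
      exact absurd (he (hq.trans (map_one e).symm)) (by decide)
    obtain ⟨c, hc⟩ := exists_conj_x₀ q hq3 hq1
    have hcx : (e c * g) * e x₀ * (e c * g)⁻¹ = e x₀ := by
      rw [show e c * g * e x₀ * (e c * g)⁻¹ = e c * (g * e x₀ * g⁻¹) * (e c)⁻¹ by group, ← hq, ← map_inv,
        ← map_mul, ← map_mul, hc]
    obtain ⟨r, hr⟩ := him y₁
    set y' := c * r * c⁻¹ with hy'
    have hey' : e y' = (e c * g) * e y₁ * (e c * g)⁻¹ := by
      rw [hy', map_mul, map_mul, hr, map_inv]; group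
    have hy'3 : y' ^ 3 = 1 := he (by rw [map_pow, hey', conj_pow, ← map_pow, hy, map_one]; simp)
    have hy'5 : (x₀ * y') ^ 5 = -1 := he (by
      rw [map_pow, map_mul, hey']
      nth_rw 1 [← hcx]
      rw [show (e c * g * e x₀ * (e c * g)⁻¹) * (e c * g * e y₁ * (e c * g)⁻¹) = (e c * g) * (e x₀ * e y₁) * (e c * g)⁻¹ by group,
        conj_pow, ← map_mul, ← map_pow, h5]
      rw [neg_one_central hρ e he (e c * g), mul_inv_cancel_right])
    obtain ⟨c', hc', hcy⟩ := exists_conj_partner y' hy'3 hy'5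
    refine ⟨e c' * e c, mul_mem ⟨_, rfl⟩ ⟨_, rfl⟩, ?_, ?_⟩
    · rw [show e c' * e c * g * e x₀ * (e c' * e c * g)⁻¹ = e c' * ((e c * g) * e x₀ * (e c * g)⁻¹) * (e c')⁻¹
        by group, hcx, ← map_inv, ← map_mul, ← map_mul, hc']
    · have : e c' * e c * g * e y₁ * (e c' * e c * g)⁻¹ = e (c' * y' * c'⁻¹) := by
        rw [map_mul, map_mul, map_inv, hey']; group
      rw [this]
      rcases hcy with h | h
      exacts [Or.inl (by rw [h]), Or.inr (by rw [h])]
  have same : ∀ {g h k l : G}, k ∈ e.range → l ∈ e.range →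
      (k * g) * e x₀ * (k * g)⁻¹ = (l * h) * e x₀ * (l * h)⁻¹ →
      (k * g) * e y₁ * (k * g)⁻¹ = (l * h) * e y₁ * (l * h)⁻¹ → g⁻¹ * h ∈ G₀ := by
    intro g h k l hk hl hA hB
    have key : ∀ {a : G}, (k * g) * a * (k * g)⁻¹ = (l * h) * a * (l * h)⁻¹ →
        ((k * g)⁻¹ * (l * h)) * a = a * ((k * g)⁻¹ * (l * h)) := fun {a} hh => by
      calc (k * g)⁻¹ * (l * h) * a = (k * g)⁻¹ * ((l * h) * a * (l * h)⁻¹) * (l * h) := by group
        _ = (k * g)⁻¹ * ((k * g) * a * (k * g)⁻¹) * (l * h) := by rw [hh]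
        _ = a * ((k * g)⁻¹ * (l * h)) := by group
    have hm : (k * g)⁻¹ * (l * h) ∈ G₀ :=
      Subgroup.mem_sup_right ((centralizer_iff hρ e he).2 ⟨key hA, key hB⟩)
    have hkl : k⁻¹ * l ∈ G₀ := Subgroup.mem_sup_left (mul_mem (inv_mem hk) hl)
    have hkl' : g⁻¹ * (k⁻¹ * l) * g⁻¹⁻¹ ∈ G₀ := (inferInstance : G₀.Normal).conj_mem _ hkl g⁻¹
    have : g⁻¹ * h = (g⁻¹ * (k⁻¹ * l) * g⁻¹⁻¹)⁻¹ * ((k * g)⁻¹ * (l * h)) := by group
    rw [this]
    exact mul_mem (inv_mem hkl') hm
  obtain ⟨kg, hkg, gx, gy⟩ := cls g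
  obtain ⟨kh, hkh, hx', hy'⟩ := cls h
  rcases gy with gy | gy
  · left
    have := same (g := 1) (h := g) (one_mem _) hkg (by rw [gx]; group) (by rw [gy]; group)
    simpa using this
  rcases hy' with hy' | hy'
  · right; left
    have := same (g := 1) (h := h) (one_mem _) hkh (by rw [hx']; group) (by rw [hy']; group)
    simpa using this
  · exact Or.inr (Or.inr (same hkg hkh (by rw [gx, hx']) (by rw [gy, hy'])))

theorem sup_odd_part {M : Subgroup G} (hMC : M ≤ Subgroup.centralizer (e.range : Set G))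
    (hM : ∀ c ∈ Subgroup.centralizer (e.range : Set G), c ∈ M ∨ e (-1) * c ∈ M) :
    e.range ⊔ M = e.range ⊔ Subgroup.centralizer (e.range : Set G) := by
  refine le_antisymm (sup_le_sup_left hMC _) (sup_le le_sup_left fun c hc => ?_)
  rcases hM c hc with h | h
  · exact Subgroup.mem_sup_right h
  · have : c = (e (-1))⁻¹ * (e (-1) * c) := by group
    rw [this]
    exact mul_mem (Subgroup.mem_sup_left (inv_mem ⟨-1, rfl⟩)) (Subgroup.mem_sup_right h)

theorem inf_odd_part {M : Subgroup G} (hMC : M ≤ Subgroup.centralizer (e.range : Set G))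
    (hco : (Nat.card M).Coprime 30) : e.range ⊓ M = ⊥ := by
  refine (Subgroup.eq_bot_iff_forall _).2 fun g hg => ?_
  obtain ⟨hgK, hgM⟩ := Subgroup.mem_inf.1 hg
  refine (mem_inter hρ e he hgK (hMC hgM)).resolve_right fun h => ?_
  have h2 : orderOf g = 2 := orderOf_eq_prime (by rw [h, ← map_pow]; simp)
    (fun h' => gen_facts.2.1 (he ((h.symm.trans h').trans (map_one e).symm)))
  have hdvd : 2 ∣ Nat.card M := h2 ▸ Subgroup.orderOf_mk (H := M) g hgM ▸ _root_.orderOf_dvd_natCard _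
  exact absurd (Nat.eq_one_of_dvd_coprimes hco hdvd (by norm_num)) (by norm_num)

theorem index_sup_centralizer :
    (e.range ⊔ Subgroup.centralizer (e.range : Set G)).index = 1 ∨
      (e.range ⊔ Subgroup.centralizer (e.range : Set G)).index = 2 := by
  set G₀ := e.range ⊔ Subgroup.centralizer (e.range : Set G) with hG₀
  by_cases htop : G₀ = ⊤
  · exact Or.inl (by rw [htop, Subgroup.index_top])
  obtain ⟨a, -, ha⟩ := SetLike.exists_of_lt (lt_top_iff_ne_top.2 htop)
  refine Or.inr (Subgroup.index_eq_two_iff.2 ⟨a, fun b => ?_⟩)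
  by_cases hb : b ∈ G₀
  · exact Or.inr ⟨hb, fun h => ha (by simpa using mul_mem (inv_mem hb) h)⟩
  · refine Or.inl ⟨?_, hb⟩
    rcases mem_or_mem hρ e he b⁻¹ a with h | h | h
    · exact absurd (inv_mem_iff.1 h) hb
    · exact absurd h ha
    · rwa [inv_inv] at h

end Cfsg.Agent.Axes
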