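import Mathlib
import Cfsg.Agent.Lib.Frobenius.Nonsolvable

/-!
# The action on the five quaternion subgroups of a normal `SL(2, 5)`

For a group with a fixed-point-free representation and an embedding of `SL(2, 5)`, the conjugation
action on the five classes of elements of order four is a homomorphism to `Perm (Fin 5)` whose
kernel is the centraliser of the `SL(2, 5)`.
-/

set_option autoImplicit false
set_option linter.style.haveILetI false

open scoped MatrixGroups

namespace Cfsg.Agent.Axes

open FpfRep SL25 SL25Facts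

/-- Representatives of the five quaternion subgroups. -/
def quatRep : Fin 5 → SL(2, ZMod 5) :=
  ![⟨!![2, 0; 0, 3], by decide⟩, ⟨!![2, 1; 0, 3], by decide⟩, ⟨!![2, 2; 0, 3], by decide⟩,
    ⟨!![2, 3; 0, 3], by decide⟩, ⟨!![2, 4; 0, 3], by decide⟩]

/-- Two elements of order four lie in the same quaternion subgroup. -/
def SameQuat (u v : SL(2, ZMod 5)) : Prop := u * v = v * u ∨ u * v = -(v * u)

instance (u v : SL(2, ZMod 5)) : Decidable (SameQuat u v) := by unfold SameQuat; infer_instance

/-- The quaternion subgroup of an element of order four. -/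
def quatIdx (u : SL(2, ZMod 5)) : Fin 5 :=
  if SameQuat u (quatRep 0) then 0 else if SameQuat u (quatRep 1) then 1
  else if SameQuat u (quatRep 2) then 2 else if SameQuat u (quatRep 3) then 3 else 4

theorem quatRep_facts : (∀ i, quatRep i ^ 2 = -1) ∧ ∀ i, quatIdx (quatRep i) = i := by decide +kernel

theorem sameQuat_idx : ∀ u : SL(2, ZMod 5), u ^ 2 = -1 → SameQuat u (quatRep (quatIdx u)) := by
  decide +kernel

theorem idx_of_sameQuat : ∀ u : SL(2, ZMod 5), u ^ 2 = -1 → ∀ v : SL(2, ZMod 5), v ^ 2 = -1 →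
    SameQuat u v → quatIdx u = quatIdx v := by
  decide +kernel

theorem eq_center_of_idx : ∀ c : SL(2, ZMod 5),
    (∀ i, quatIdx (c * quatRep i * c⁻¹) = i) → c = 1 ∨ c = -1 := by
  decide +kernel

variable {G : Type*} [Group G] [Finite G] {k : Type} [Field k] [CharZero k] [IsAlgClosed k]
  {V : Type} [AddCommGroup V] [Module k V] [FiniteDimensional k V] [Nontrivial V]
  {ρ : G →* Module.End k V} (hρ : IsFpfRep ρ) (e : SL(2, ZMod 5) →* G) (he : Function.Injective e)
include hρ he

theorem exists_action : ∃ Φ : G →* Equiv.Perm (Fin 5),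
    Φ.ker = Subgroup.centralizer (e.range : Set G) ∧ Nat.card (Φ.comp e).range = 60 := by
  have hm1 : (-1 : SL(2, ZMod 5)) ≠ 1 := gen_facts.2.1
  have key : ∀ g q, ∃ q', e q' = g * e q * g⁻¹ := fun g q =>
    (range_normal hρ e he).conj_mem _ ⟨q, rfl⟩ g
  choose σ hσ using key
  have hmul : ∀ g q r, σ g (q * r) = σ g q * σ g r := fun g q r => he (by
    rw [hσ, map_mul, map_mul, hσ, hσ]; group)
  have hneg : ∀ g, σ g (-1) = -1 := fun g => he (by
    rw [hσ, neg_one_central hρ e he g, mul_inv_cancel_right])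
  have hone : ∀ q, σ 1 q = q := fun q => he (by rw [hσ]; simp)
  have hcomp : ∀ g h q, σ (g * h) q = σ g (σ h q) := fun g h q => he (by
    rw [hσ, hσ, hσ]; group)
  have hsq : ∀ g u, u ^ 2 = -1 → σ g u ^ 2 = -1 := fun g u hu => by
    rw [pow_two, ← hmul, ← pow_two, hu, hneg]
  have hsame : ∀ g u v, SameQuat u v → SameQuat (σ g u) (σ g v) := by
    rintro g u v (h | h)
    · left; rw [← hmul, ← hmul, h]
    · right; rw [← hmul, h, ← neg_one_mul, hmul, hneg, hmul, neg_one_mul]
  let F : G → Fin 5 → Fin 5 := fun g i => quatIdx (σ g (quatRep i))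
  have hFmul : ∀ g h i, F (g * h) i = F g (F h i) := by
    intro g h i
    show quatIdx (σ (g * h) (quatRep i)) = quatIdx (σ g (quatRep (quatIdx (σ h (quatRep i)))))
    have hu := hsq h _ (quatRep_facts.1 i)
    rw [hcomp]
    exact idx_of_sameQuat _ (hsq g _ hu) _ (hsq g _ (quatRep_facts.1 _))
      (hsame g _ _ (sameQuat_idx _ hu))
  have hFone : ∀ i, F 1 i = i := fun i => by
    show quatIdx (σ 1 (quatRep i)) = i
    rw [hone, quatRep_facts.2]
  letI : MulAction G (Fin 5) := { smul := F, one_smul := hFone, mul_smul := hFmul }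
  let Φ := MulAction.toPermHom G (Fin 5)
  have hΦ : ∀ g, Φ g = 1 ↔ ∀ i, F g i = i := fun g => by
    rw [Equiv.Perm.ext_iff]; exact Iff.rfl
  have hconj : ∀ c q, σ (e c) q = c * q * c⁻¹ := fun c q => he (by
    rw [hσ, map_mul, map_mul, map_inv])
  have hinter : ∀ c, Φ (e c) = 1 → c = 1 ∨ c = -1 := fun c hc =>
    eq_center_of_idx c fun i => by
      have := (hΦ _).1 hc i
      rwa [show F (e c) i = quatIdx (σ (e c) (quatRep i)) from rfl, hconj] at this
  have hcent : ∀ g, g ∈ Subgroup.centralizer (e.range : Set G) → Φ g = 1 := fun g hg => by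
    refine (hΦ g).2 fun i => ?_
    show quatIdx (σ g (quatRep i)) = i
    rw [show σ g (quatRep i) = quatRep i from he (by
      rw [hσ, ← Subgroup.mem_centralizer_iff.1 hg _ ⟨quatRep i, rfl⟩, mul_inv_cancel_right]),
      quatRep_facts.2]
  refine ⟨Φ, le_antisymm (fun g hg => ?_) (fun g hg => hcent g hg), ?_⟩
  · rw [MonoidHom.mem_ker] at hg
    rw [centralizer_iff hρ e he]
    have fix : ∀ x, x ^ 3 = 1 → g * e x = e x * g := by
      intro x hx
      have h1 : Φ (e (σ g x * x⁻¹)) = 1 := by
        rw [map_mul e, hσ, map_inv, map_mul, map_mul, map_mul, map_inv, map_inv, hg]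
        simp
      have hσ3 : σ g x ^ 3 = 1 := he (by rw [map_pow, hσ, conj_pow, ← map_pow, hx, map_one]; simp)
      rcases hinter _ h1 with h | h
      · have h' : e (σ g x) = e x := by rw [mul_inv_eq_one.1 h]
        rw [hσ] at h'
        exact mul_inv_eq_iff_eq_mul.1 h'
      · exfalso
        rw [mul_inv_eq_iff_eq_mul] at h
        rw [h, (Commute.neg_one_left x).mul_pow, hx, mul_one] at hσ3
        rw [pow_succ, neg_one_sq, one_mul] at hσ3
        exact hm1 hσ3
    exact ⟨fix x₀ instance_facts.1, fix y₁ instance_facts.2.2.2.1⟩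
  · have hker : (Φ.comp e).ker = Subgroup.zpowers (-1) := by
      refine le_antisymm (fun c hc => ?_) ?_
      · rcases hinter c hc with rfl | rfl
        exacts [one_mem _, Subgroup.mem_zpowers _]
      · rw [Subgroup.zpowers_le]
        exact hcent _ (Subgroup.mem_centralizer_iff.2 fun g _ => neg_one_central hρ e he g)
    haveI : Fact (Nat.Prime 2) := ⟨Nat.prime_two⟩
    have h2 : orderOf (-1 : SL(2, ZMod 5)) = 2 := orderOf_eq_prime (by simp) hm1
    have h := (Φ.comp e).ker.card_mul_index
    rw [Subgroup.index_ker, hker, Nat.card_zpowers, h2, card_SL25] at h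
    omega

end Cfsg.Agent.Axes
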