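import Mathlib
import Cfsg.Agent.Lib.Frobenius.SylowAction
import Cfsg.Agent.Lib.PGroup.UniqueOrderP

/-!
# Normal Z-subgroups with small quotient
-/

set_option autoImplicit false
set_option linter.style.haveILetI false

namespace Cfsg.Agent.CoreQuotient

open FpfRep

/-- A group in which every non-trivial normal subgroup fails to be a Z-group. -/
def NoZNormal (Q : Type*) [Group Q] : Prop :=
  ∀ S : Subgroup Q, S.Normal → IsZGroup S → S = ⊥

theorem noZNormal_of_witness {Q : Type*} [Group Q] [Finite Q]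
    (h : ∀ q : Q, q ≠ 1 → ∃ c d : Q, (q*c*q⁻¹*c⁻¹)*(q*c*q⁻¹*c⁻¹) = 1 ∧ q*c*q⁻¹*c⁻¹ ≠ 1 ∧
      d*(q*c*q⁻¹*c⁻¹) ≠ (q*c*q⁻¹*c⁻¹)*d ∧
      (d*(q*c*q⁻¹*c⁻¹)*d⁻¹)*(q*c*q⁻¹*c⁻¹) = (q*c*q⁻¹*c⁻¹)*(d*(q*c*q⁻¹*c⁻¹)*d⁻¹)) :
    NoZNormal Q := by
  intro S hSn hZ
  refine (Subgroup.eq_bot_iff_forall _).2 fun q hq => ?_
  by_contra hq1
  obtain ⟨c, d, ha, hane, hda, hcomm⟩ := h q hq1
  set a := q*c*q⁻¹*c⁻¹ with had
  have haS : a ∈ S := by
    have : a = q * (c * q⁻¹ * c⁻¹) := by rw [had]; group
    rw [this]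
    exact mul_mem hq (hSn.conj_mem _ (inv_mem hq) c)
  set b := d * a * d⁻¹ with hbd
  have hbS : b ∈ S := hSn.conj_mem _ haS d
  have hb : b * b = 1 := by
    rw [hbd, show d * a * d⁻¹ * (d * a * d⁻¹) = d * (a * a) * d⁻¹ by group, ha]; group
  have hba : b ≠ a := fun e => hda (mul_inv_eq_iff_eq_mul.1 e)
  set T : Subgroup S := Subgroup.closure {⟨a, haS⟩, ⟨b, hbS⟩} with hT
  haveI : IsMulCommutative T := by
    refine ⟨⟨fun x y => Subtype.ext ?_⟩⟩
    have hcl : T ≤ Subgroup.centralizer (T : Set S) := by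
      rw [hT, Subgroup.closure_le, Subgroup.centralizer_closure]
      rintro x (rfl | rfl) <;> rintro y (rfl | rfl)
      · rfl
      · exact Subtype.ext hcomm
      · exact Subtype.ext hcomm.symm
      · rfl
    exact Subgroup.mem_centralizer_iff.1 (hcl y.2) x x.2
  letI : CommGroup T := { (inferInstance : Group T) with mul_comm := fun x y => (IsMulCommutative.is_comm.comm x y) }
  haveI : IsCyclic T := inferInstance
  classical
  haveI : Fintype T := Fintype.ofFinite T
  have hle := IsCyclic.card_pow_eq_one_le (α := T) (n := 2) two_pos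
  have haT : (⟨a, haS⟩ : S) ∈ T := Subgroup.subset_closure (by simp)
  have hbT : (⟨b, hbS⟩ : S) ∈ T := Subgroup.subset_closure (by simp)
  have h3 : ({1, ⟨_, haT⟩, ⟨_, hbT⟩} : Finset T) ⊆ Finset.univ.filter fun x => x ^ 2 = 1 := by
    intro x hx
    simp only [Finset.mem_insert, Finset.mem_singleton] at hx
    simp only [Finset.mem_filter, Finset.mem_univ, true_and]
    rcases hx with rfl | rfl | rfl
    · exact one_pow 2
    · exact Subtype.ext (Subtype.ext (by rw [pow_two]; exact ha))
    · exact Subtype.ext (Subtype.ext (by rw [pow_two]; exact hb))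
  have hcard : ({1, ⟨_, haT⟩, ⟨_, hbT⟩} : Finset T).card = 3 := by
    rw [Finset.card_insert_of_notMem, Finset.card_insert_of_notMem, Finset.card_singleton]
    · simp only [Finset.mem_singleton]
      exact fun e => hba (congrArg (fun x : T => ((x : S) : Q)) e).symm
    · simp only [Finset.mem_insert, Finset.mem_singleton]
      rintro (e | e)
      · exact hane (congrArg (fun x : T => ((x : S) : Q)) e).symm
      · have hb1 : b = 1 := (congrArg (fun x : T => ((x : S) : Q)) e).symm
        rw [hbd, conj_eq_one_iff] at hb1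
        exact hane hb1
  have := Finset.card_le_card h3
  omega

theorem noZNormal_alternatingFour : NoZNormal (alternatingGroup (Fin 4)) :=
  noZNormal_of_witness (by decide +kernel)

theorem noZNormal_permFour : NoZNormal (Equiv.Perm (Fin 4)) :=
  noZNormal_of_witness (by decide +kernel)

theorem not_isSolvable_alternatingFive : ¬ Group.IsSolvable (alternatingGroup (Fin 5)) := by
  intro h
  haveI := h
  exact Equiv.Perm.not_isSolvable_fin_5
    (Group.isSolvable_of_ker_le_range (alternatingGroup (Fin 5)).subtype Equiv.Perm.sign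
      (fun x hx => ⟨⟨x, hx⟩, rfl⟩))

theorem noZNormal_alternatingFive : NoZNormal (alternatingGroup (Fin 5)) := by
  intro S hS hZ
  refine hS.eq_bot_or_eq_top.resolve_right fun h => not_isSolvable_alternatingFive ?_
  haveI := hZ
  haveI : Group.IsSolvable S := inferInstance
  subst h
  exact Group.isSolvable_of_surjective (f := (⊤ : Subgroup (alternatingGroup (Fin 5))).subtype)
    fun x => ⟨⟨x, trivial⟩, rfl⟩

theorem key5 : ∀ q : Equiv.Perm (Fin 5), (∀ g, g * q = q * g) → q = 1 := by decide +kernel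

theorem noZNormal_permFive : NoZNormal (Equiv.Perm (Fin 5)) := by
  intro S hS hZ
  haveI := hS
  haveI := hZ
  set T := S.subgroupOf (alternatingGroup (Fin 5)) with hT
  have hTZ : IsZGroup T := by
    refine IsZGroup.of_injective (f := ((alternatingGroup (Fin 5)).subtype.comp T.subtype).codRestrict S fun x => x.2)
      fun x y h => Subtype.ext (Subtype.ext (congrArg Subtype.val h :))
  have hTbot := noZNormal_alternatingFive T inferInstance hTZ
  refine (Subgroup.eq_bot_iff_forall _).2 fun q hq => ?_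
  have hinf : ∀ x ∈ S, x ∈ alternatingGroup (Fin 5) → x = 1 := fun x hx hxA => by
    have : (⟨x, hxA⟩ : alternatingGroup (Fin 5)) ∈ T := hx
    rw [hTbot, Subgroup.mem_bot] at this
    exact congrArg Subtype.val this
  have hcomm : ∀ g, g * q * g⁻¹ = q := fun g => by
    have h := hinf (g * q * g⁻¹ * q⁻¹) (mul_mem (hS.conj_mem _ hq g) (inv_mem hq)) (by
      rw [Equiv.Perm.mem_alternatingGroup]
      simp [mul_comm, mul_left_comm])
    exact mul_inv_eq_one.1 h
  exact key5 q fun g => mul_inv_eq_iff_eq_mul.1 (hcomm g)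

variable {G : Type*} [Group G] [Finite G]

theorem isZGroup_map_of {H : Type*} [Group H] (f : G →* H) (N : Subgroup G) [IsZGroup N] : IsZGroup (N.map f) :=
  IsZGroup.of_surjective (f := f.subgroupMap N) (f.subgroupMap_surjective N)

theorem le_ker_of_noZNormal {Q : Type*} [Group Q] (hQ : NoZNormal Q) {f : G →* Q}
    (hf : Function.Surjective f) (N : Subgroup G) [hN : N.Normal] [IsZGroup N] : N ≤ f.ker := by
  have h := hQ (N.map f) (hN.map f hf) (isZGroup_map_of f N)
  intro x hx
  have := Subgroup.mem_map_of_mem f hx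
  rwa [h, Subgroup.mem_bot] at this

/-- The homomorphism from the quaternion group onto the Klein group. -/
def toKlein (m : ℕ) (hm : 2 ∣ m) : QuaternionGroup m →* DihedralGroup 2 where
  toFun
    | .a i => .r (ZMod.castHom (Dvd.intro m rfl) (ZMod 2) i)
    | .xa i => .sr (ZMod.castHom (Dvd.intro m rfl) (ZMod 2) i)
  map_one' := by
    show DihedralGroup.r (ZMod.castHom _ (ZMod 2) 0) = 1
    rw [map_zero]; rfl
  map_mul' := by
    have hm0 : ((m : ℕ) : ZMod 2) = 0 := (ZMod.natCast_eq_zero_iff _ _).2 hm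
    rintro (i | i) (j | j)
    · simp
    · simp
    · simp
    · show DihedralGroup.r (ZMod.castHom _ (ZMod 2) ((m : ZMod (2 * m)) + j - i)) = _
      rw [map_sub, map_add, map_natCast, hm0, zero_add]
      rfl

theorem toKlein_surjective (m : ℕ) (hm : 2 ∣ m) : Function.Surjective (toKlein m hm) := by
  have hs := ZMod.castHom_surjective (m := 2) (n := 2 * m) (Dvd.intro m rfl)
  rintro (i | i)
  · obtain ⟨j, rfl⟩ := hs i; exact ⟨.a j, rfl⟩
  · obtain ⟨j, rfl⟩ := hs i; exact ⟨.xa j, rfl⟩

theorem toKlein_ker_le (m : ℕ) [NeZero m] (hm : 2 ∣ m) :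
    (toKlein m hm).ker ≤ Subgroup.zpowers (QuaternionGroup.a 1) := by
  rintro (i | i) h
  · exact ⟨(i.val : ℤ), by
      show (QuaternionGroup.a 1) ^ (i.val : ℤ) = _
      rw [zpow_natCast, QuaternionGroup.a_one_pow, ZMod.natCast_zmod_val]⟩
  · exact absurd (MonoidHom.mem_ker.1 h) (fun e => by cases e)

theorem klein_sq : ∀ x : DihedralGroup 2, x * x = 1 := by decide
theorem klein_comm : ∀ x y : DihedralGroup 2, x * y = y * x := by decide
theorem klein_card : Nat.card (DihedralGroup 2) = 4 := DihedralGroup.nat_card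

theorem klein_not_isZGroup : ¬ IsZGroup (DihedralGroup 2) := by
  intro h
  have := h.exponent_eq_card
  rw [klein_card] at this
  have h2 : Monoid.exponent (DihedralGroup 2) ∣ 2 :=
    Monoid.exponent_dvd_of_forall_pow_eq_one fun x => by rw [pow_two, klein_sq]
  rw [this] at h2
  norm_num at h2

theorem exists_ker_klein {O : Subgroup G} [O.Normal] {P : Sylow 2 G} {m : ℕ}
    [NeZero m] (hm : 2 ∣ m) (φ : (P : Subgroup G) ≃* QuaternionGroup m) (hO : Subgroup.IsComplement' O P)
    (hodd : ∀ (p : ℕ) [Fact p.Prime], p ≠ 2 → ∀ T : Subgroup G, IsPGroup p T → IsCyclic T) :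
    ∃ f : G →* DihedralGroup 2, Function.Surjective f ∧ IsZGroup f.ker := by
  let π : G →* (P : Subgroup G) := (hO.symm.QuotientMulEquiv.toMonoidHom).comp (QuotientGroup.mk' O)
  have hπ : ∀ p : (P : Subgroup G), π p = p := fun p => by
    show hO.symm.QuotientMulEquiv (QuotientGroup.mk' O p) = p
    rw [← MulEquiv.eq_symm_apply]
    rfl
  have hπker : π.ker = O := by
    ext g
    rw [MonoidHom.mem_ker, ← QuotientGroup.eq_one_iff (N := O) g]
    exact map_eq_one_iff _ hO.symm.QuotientMulEquiv.injective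
  refine ⟨(toKlein m hm).comp (φ.toMonoidHom.comp π), fun y => ?_, ?_⟩
  · obtain ⟨q, hq⟩ := toKlein_surjective m hm y
    exact ⟨((φ.symm q : (P : Subgroup G)) : G), by simp [hπ, hq]⟩
  set N' := ((toKlein m hm).comp (φ.toMonoidHom.comp π)).ker with hN'
  refine ⟨fun p hp T => ?_⟩
  haveI := Fact.mk hp
  have hT' : IsPGroup p ((T : Subgroup N').map N'.subtype) := T.2.map _
  refine ((T : Subgroup N').equivMapOfInjective _ N'.subtype_injective).isCyclic.2 ?_
  set T' := (T : Subgroup N').map N'.subtype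
  by_cases hp2 : p = 2
  · subst hp2
    have hmem : ∀ t : T', φ (π t) ∈ Subgroup.zpowers (QuaternionGroup.a 1 : QuaternionGroup m) := fun t => by
      obtain ⟨u, hu, hut⟩ := t.2
      refine toKlein_ker_le m hm (MonoidHom.mem_ker.2 ?_)
      rw [← hut]
      exact MonoidHom.mem_ker.1 u.2
    refine isCyclic_of_injective ((φ.toMonoidHom.comp (π.comp T'.subtype)).codRestrict _ hmem)
      ((injective_iff_map_eq_one _).2 fun t ht => ?_)
    have h1 : π (t : G) = 1 := φ.injective ((congrArg Subtype.val ht).trans (map_one φ).symm)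
    have hO' : (t : G) ∈ O := hπker ▸ MonoidHom.mem_ker.2 h1
    have hoddO : ¬ 2 ∣ Nat.card O := hO.index_eq_card ▸ P.not_dvd_index
    refine orderOf_eq_one_iff.1 ?_
    obtain ⟨k, hk⟩ := IsPGroup.iff_orderOf.1 hT' t
    rcases k with _ | k
    · rw [hk, pow_zero]
    · exact absurd ((dvd_pow_self 2 k.succ_ne_zero).trans (hk.symm.dvd.trans (by
        rw [← Subgroup.orderOf_coe, ← Subgroup.orderOf_mk (H := O) _ hO']
        exact _root_.orderOf_dvd_natCard _))) hoddO
  · exact hodd p hp2 T' hT'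

end Cfsg.Agent.CoreQuotient
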