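import Cfsg.Agent.Lib.Frobenius.Basic

/-!
# Two Frobenius complements are comparable up to conjugation

Elementary: counting on nonidentity elements lying in conjugates of both, by induction on the
order of the group.
-/

namespace Cfsg.Agent.Frobenius

open scoped Pointwise
open Subgroup

/-- The nonidentity elements lying in some conjugate of `H`. -/
def outside {G : Type*} [Group G] (H : Subgroup G) : Set G := (frobeniusKernel H)ᶜ

theorem mem_outside_iff {G : Type*} [Group G] {H : Subgroup G} {x : G} :
    x ∈ outside H ↔ x ≠ 1 ∧ ∃ g : G, g⁻¹ * x * g ∈ H := by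
  simp [outside, frobeniusKernel, Coprime.mem_conj_smul_iff]

theorem conj_mem_outside {G : Type*} [Group G] {H : Subgroup G} {x : G} (hx : x ∈ outside H)
    (a : G) : a * x * a⁻¹ ∈ outside H := fun h => hx (by
  have := conj_mem_kernel h a⁻¹
  simpa [mul_assoc] using this)

theorem card_outside {G : Type*} [Group G] [Finite G] {H : Subgroup G}
    (hH : IsFrobeniusComplement H) : Nat.card (outside H) + H.index = Nat.card G := by
  rw [← card_kernel hH, add_comm, Nat.card_coe_set_eq, Nat.card_coe_set_eq]
  exact Set.ncard_add_ncard_compl _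

/-- Conjugation-invariant sets meet the conjugates of `H` in `[G:H]` copies of their trace on `H`. -/
theorem card_inter_outside {G : Type*} [Group G] [Finite G] {H : Subgroup G}
    (hH : IsFrobeniusComplement H) (S : Set G) (hS1 : (1 : G) ∉ S)
    (hS : ∀ x ∈ S, ∀ a : G, a * x * a⁻¹ ∈ S) :
    Nat.card ↥(S ∩ outside H) = H.index * Nat.card {h : H // (h : G) ∈ S} := by
  let f : (G ⧸ H) × {h : H // (h : G) ∈ S} → ↥(S ∩ outside H) := fun p =>
    ⟨p.1.out * (p.2.1 : G) * p.1.out⁻¹, hS _ p.2.2 _, mem_outside_iff.2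
      ⟨fun h => hS1 (by rw [← h]; exact hS _ p.2.2 _), p.1.out, by simp [mul_assoc]⟩⟩
  have hf : Function.Bijective f := by
    constructor
    · rintro ⟨q, ⟨h, hh⟩, hhS⟩ ⟨q', ⟨h', hh'⟩, hhS'⟩ he
      have he' : q.out * h * q.out⁻¹ = q'.out * h' * q'.out⁻¹ := congrArg Subtype.val he
      have hh1 : h ≠ 1 := fun e => hS1 (e ▸ hhS)
      have hm : q.out⁻¹ * q'.out ∈ H := by
        refine mem_of_inter hH hh hh1 ?_
        convert hh' using 1
        have : h = q.out⁻¹ * (q'.out * h' * q'.out⁻¹) * q.out := by rw [← he']; group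
        rw [this]
        group
      have hq : q = q' := by
        rw [← QuotientGroup.out_eq' q, ← QuotientGroup.out_eq' q']
        exact QuotientGroup.eq.2 hm
      subst hq
      simp only [mul_left_inj, mul_right_inj] at he'
      subst he'
      rfl
    · rintro ⟨x, hxS, hxO⟩
      obtain ⟨-, g, hg⟩ := mem_outside_iff.1 hxO
      obtain ⟨k, hk⟩ := QuotientGroup.mk_out_eq_mul H g
      refine ⟨((g : G ⧸ H), ⟨⟨(k : G)⁻¹ * (g⁻¹ * x * g) * k,
        mul_mem (mul_mem (inv_mem k.2) hg) k.2⟩, ?_⟩), Subtype.ext ?_⟩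
      · have := hS x hxS ((k : G)⁻¹ * g⁻¹)
        simpa [mul_assoc] using this
      · show (g : G ⧸ H).out * _ * (g : G ⧸ H).out⁻¹ = x
        rw [hk]
        group
  rw [← Nat.card_congr (Equiv.ofBijective f hf), Nat.card_prod, Subgroup.index]

theorem isFrobeniusComplement_inf {G : Type*} [Group G] {H H₀ : Subgroup G}
    (hH : IsFrobeniusComplement H) (hne : H ⊓ H₀ ≠ ⊥) (hle : ¬ H₀ ≤ H) :
    IsFrobeniusComplement (H.subgroupOf H₀) := by
  refine ⟨?_, fun h => hle (subgroupOf_eq_top.1 h), fun g hg => ?_⟩
  · rw [Ne, subgroupOf_eq_bot, disjoint_iff]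
    exact hne
  · refine (Subgroup.eq_bot_iff_forall _).2 fun x hx => ?_
    obtain ⟨h1, h2⟩ := mem_inf.1 hx
    rw [Coprime.mem_conj_smul_iff, mem_subgroupOf] at h2
    rw [mem_subgroupOf] at h1
    by_contra hx1
    exact hg (mem_subgroupOf.2 (mem_of_inter hH h1 (fun e => hx1 (Subtype.ext e)) h2))

private theorem comparable_aux.{u} : ∀ (n : ℕ) (G : Type u) [Group G] [Finite G],
    Nat.card G = n → ∀ H H₀ : Subgroup G, IsFrobeniusComplement H → IsFrobeniusComplement H₀ →
    ∃ g : G, MulAut.conj g • H₀ ≤ H ∨ H ≤ MulAut.conj g • H₀ := by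
  intro n
  induction n using Nat.strong_induction_on with
  | _ n ih =>
    intro G _ _ hn H H₀ hH hH₀
    by_contra hcon
    push_neg at hcon
    have h2 : ∀ {K : Subgroup G}, IsFrobeniusComplement K → 2 * K.index ≤ Nat.card G := by
      intro K hK
      rw [← card_mul_index K]
      exact Nat.mul_le_mul_right _ ((one_lt_card_iff_ne_bot K).2 hK.1)
    have hidx : 0 < H.index := Nat.pos_of_ne_zero FiniteIndex.index_ne_zero
    have hidx₀ : 0 < H₀.index := Nat.pos_of_ne_zero FiniteIndex.index_ne_zero
    have hU := card_outside hH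
    have hU₀ := card_outside hH₀
    have hG := h2 hH
    have hG₀ := h2 hH₀
    have hle1 : Nat.card ↥(outside H ∪ outside H₀) + 1 ≤ Nat.card G := by
      rw [Nat.card_coe_set_eq, ← Set.ncard_univ, Nat.add_one_le_iff]
      refine Set.ncard_lt_ncard ⟨Set.subset_univ _, fun h => ?_⟩ (Set.toFinite _)
      rcases h (Set.mem_univ (1 : G)) with h' | h' <;> exact (mem_outside_iff.1 h').1 rfl
    have hunion : Nat.card ↥(outside H ∪ outside H₀) + Nat.card ↥(outside H ∩ outside H₀) =
        Nat.card (outside H) + Nat.card (outside H₀) := by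
      simp only [Nat.card_coe_set_eq]
      exact Set.ncard_union_add_ncard_inter _ _
    by_cases hempty : ∀ a : G, H ⊓ MulAut.conj a • H₀ = ⊥
    · have : Nat.card ↥(outside H ∩ outside H₀) = 0 := by
        have hem : outside H ∩ outside H₀ = ∅ := by
          rw [Set.eq_empty_iff_forall_notMem]
          rintro x ⟨hx, hx₀⟩
          obtain ⟨hx1, g, hg⟩ := mem_outside_iff.1 hx
          obtain ⟨-, a, ha⟩ := mem_outside_iff.1 hx₀
          have hm : g⁻¹ * x * g ∈ H ⊓ MulAut.conj (g⁻¹ * a) • H₀ := by
            refine ⟨hg, Coprime.mem_conj_smul_iff.2 ?_⟩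
            convert ha using 1
            group
          rw [hempty, mem_bot] at hm
          have h5 := congrArg (fun y => g * y * g⁻¹) hm
          exact hx1 (by simpa [mul_eq_one_iff_eq_inv, mul_assoc] using h5)
        simp [hem]
      omega
    push_neg at hempty
    obtain ⟨a, ha⟩ := hempty
    -- replace `H₀` by its conjugate meeting `H`
    have hK := isFrobeniusComplement_conj hH₀ a
    set K := MulAut.conj a • H₀ with hKdef
    have hKH : ¬ K ≤ H := (hcon a).1
    have hHK : ¬ H ≤ K := (hcon a).2
    have hD := isFrobeniusComplement_inf hH ha hKH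
    have hKlt : Nat.card K < n := by
      rw [← hn, ← card_mul_index K]
      refine lt_mul_of_one_lt_right Nat.card_pos ?_
      have : K.index ≠ 1 := fun e => hK.2.1 (index_eq_one.1 e)
      have : K.index ≠ 0 := FiniteIndex.index_ne_zero
      omega
    -- the trace of `outside H` on `K`
    have htrace : ∀ m : K, (m : G) ∈ outside H → m ∈ outside (H.subgroupOf K) := by
      intro m hm
      obtain ⟨hm1, g, hg⟩ := mem_outside_iff.1 hm
      have hgm : (m : G) ∈ MulAut.conj g • H := Coprime.mem_conj_smul_iff.2 hg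
      have hg' := isFrobeniusComplement_conj hH g
      have hE : IsFrobeniusComplement ((MulAut.conj g • H).subgroupOf K) := by
        refine isFrobeniusComplement_inf hg'
          (fun e => hm1 ((Subgroup.eq_bot_iff_forall _).1 e _ ⟨hgm, m.2⟩)) fun hle => ?_
        refine (hcon (g⁻¹ * a)).1 ?_
        intro x hx
        rw [← Coprime.conj_smul_smul, ← hKdef, Coprime.mem_conj_smul_iff, inv_inv] at hx
        have := hle hx
        rw [Coprime.mem_conj_smul_iff] at this
        simpa [mul_assoc] using this
      refine mem_outside_iff.2 ⟨fun e => hm1 (by rw [e]; rfl), ?_⟩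
      obtain ⟨k, hk⟩ := ih _ hKlt K rfl _ _ hE hD
      -- a conjugate of the trace of `H` shares a nonidentity element with that of `H^g`
      obtain ⟨y, hy1, hyE, hyD⟩ : ∃ y : K, y ≠ 1 ∧ y ∈ (MulAut.conj g • H).subgroupOf K ∧
          y ∈ MulAut.conj k • H.subgroupOf K := by
        rcases hk with hk | hk
        · obtain ⟨⟨y, hy⟩, hy1⟩ := ne_bot_iff_exists_ne_one.1
            (isFrobeniusComplement_conj hD k).1
          exact ⟨y, fun e => hy1 (Subtype.ext e), hk hy, hy⟩
        · obtain ⟨⟨y, hy⟩, hy1⟩ := ne_bot_iff_exists_ne_one.1 hE.1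
          exact ⟨y, fun e => hy1 (Subtype.ext e), hy, hk hy⟩
      rw [mem_subgroupOf, Coprime.mem_conj_smul_iff] at hyE
      rw [Coprime.mem_conj_smul_iff, mem_subgroupOf] at hyD
      have hkg : g⁻¹ * (k : G) ∈ H := by
        refine mem_of_inter hH hyE ?_ ?_
        · intro e
          have h5 := congrArg (fun z => g * z * g⁻¹) e
          exact hy1 (Subtype.ext (by simpa [mul_eq_one_iff_eq_inv, mul_assoc] using h5))
        · convert hyD using 1
          simp [mul_assoc]
      refine ⟨k, mem_subgroupOf.2 ?_⟩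
      have := mul_mem (mul_mem (inv_mem hkg) hg) hkg
      simpa [mul_assoc] using this
    have heq : Nat.card {m : K // (m : G) ∈ outside H} = Nat.card (outside (H.subgroupOf K)) := by
      refine Nat.card_congr (Equiv.subtypeEquivRight fun m => ⟨htrace m, fun hm => ?_⟩)
      obtain ⟨hm1, g, hg⟩ := mem_outside_iff.1 hm
      exact mem_outside_iff.2 ⟨fun e => hm1 (Subtype.ext e), g, by simpa [mem_subgroupOf] using hg⟩
    have hinter : Nat.card ↥(outside H ∩ outside H₀) =
        K.index * Nat.card (outside (H.subgroupOf K)) := by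
      have hsame : outside H₀ = outside K := by
        ext x
        rw [mem_outside_iff, mem_outside_iff, hKdef]
        simp only [Coprime.mem_conj_smul_iff]
        refine and_congr_right fun _ => ⟨?_, ?_⟩
        · rintro ⟨g, hg⟩
          exact ⟨g * a⁻¹, by convert hg using 1; group⟩
        · rintro ⟨g, hg⟩
          exact ⟨g * a, by convert hg using 1; group⟩
      rw [hsame, card_inter_outside hK (outside H) (fun h => (mem_outside_iff.1 h).1 rfl)
        (fun x hx b => conj_mem_outside hx b), heq]
    -- arithmetic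
    have hd := card_outside hD
    have hKidx : K.index = H₀.index := by
      refine Nat.eq_of_mul_eq_mul_left (Nat.card_pos (α := K)) ?_
      rw [card_mul_index, hKdef, Coprime.card_conj_smul, card_mul_index]
    have hmul : K.index * Nat.card (outside (H.subgroupOf K)) + (H ⊓ K).index = Nat.card G := by
      have hd' : K.index * (H.subgroupOf K).index = (H ⊓ K).index := by
        rw [← relIndex_mul_index (inf_le_right : H ⊓ K ≤ K), inf_relIndex_right, mul_comm]
        rfl
      rw [← hd', ← mul_add, hd, mul_comm, card_mul_index]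
    have h1 : 2 * H.index ≤ (H ⊓ K).index := by
      rw [← relIndex_mul_index (inf_le_left : H ⊓ K ≤ H)]
      refine Nat.mul_le_mul_right _ ?_
      have : (H ⊓ K).relIndex H ≠ 1 := fun e => hHK ((relIndex_eq_one.1 e).trans inf_le_right)
      have : (H ⊓ K).relIndex H ≠ 0 := FiniteIndex.index_ne_zero
      omega
    have h3 : 2 * K.index ≤ (H ⊓ K).index := by
      rw [← relIndex_mul_index (inf_le_right : H ⊓ K ≤ K)]
      refine Nat.mul_le_mul_right _ ?_
      have : (H ⊓ K).relIndex K ≠ 1 := fun e => hKH ((relIndex_eq_one.1 e).trans inf_le_left)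
      have : (H ⊓ K).relIndex K ≠ 0 := FiniteIndex.index_ne_zero
      omega
    omega

/-- Of two Frobenius complements, a conjugate of one lies in the other. -/
theorem exists_conj_le_or_le {G : Type*} [Group G] [Finite G] {H H₀ : Subgroup G}
    (hH : IsFrobeniusComplement H) (hH₀ : IsFrobeniusComplement H₀) :
    ∃ g : G, MulAut.conj g • H₀ ≤ H ∨ H ≤ MulAut.conj g • H₀ :=
  comparable_aux _ G rfl H H₀ hH hH₀

theorem exists_conj_le_of_card_le {G : Type*} [Group G] [Finite G] {H H₀ : Subgroup G}
    (hH : IsFrobeniusComplement H) (hH₀ : IsFrobeniusComplement H₀)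
    (h : Nat.card H₀ ≤ Nat.card H) : ∃ g : G, MulAut.conj g • H₀ ≤ H := by
  obtain ⟨g, hg | hg⟩ := exists_conj_le_or_le hH hH₀
  · exact ⟨g, hg⟩
  · exact ⟨g, (eq_of_le_of_card_ge hg (by rwa [Coprime.card_conj_smul])).ge⟩

end Cfsg.Agent.Frobenius
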