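import Mathlib
import Cfsg.Agent.Lib.CharInt.Burnside
import Cfsg.Agent.Lib.PGroup.Frattini

/-!
# Solvable groups with thin Sylow subgroups have solvable automorphism groups
-/

set_option autoImplicit false
set_option linter.style.haveILetI false

namespace Cfsg.Agent.SolvableAut

universe u

/-- A group of order dividing `24` is solvable. -/
theorem isSolvable_of_dvd_24 {M : Type*} [Group M] [Finite M] (h : Nat.card M ∣ 24) :
    Group.IsSolvable M := by
  obtain ⟨a, b, ha, hb, hab⟩ := Nat.dvd_mul.1 (show Nat.card M ∣ 2 ^ 3 * 3 ^ 1 by simpa using h)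
  obtain ⟨a, -, rfl⟩ := (Nat.dvd_prime_pow Nat.prime_two).1 ha
  obtain ⟨b, -, rfl⟩ := (Nat.dvd_prime_pow Nat.prime_three).1 hb
  exact CharInt.isSolvable_of_card_eq Nat.prime_two Nat.prime_three hab.symm

theorem isSolvable_mulAut_small {M : Type*} [Group M] [Finite M]
    (h : Nat.card M ≤ 4 ∨ ∃ p, p.Prime ∧ Nat.card M ∣ p) : Group.IsSolvable (MulAut M) := by
  rcases h with h | ⟨p, hp, hd⟩
  · refine isSolvable_of_dvd_24 ?_
    have hd : Nat.card (MulAut M) ∣ Nat.card (Equiv.Perm M) :=
      Subgroup.card_dvd_of_injective (MulAut.toPerm M) (fun a b e => MulEquiv.ext fun x => Equiv.congr_fun e x)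
    rw [Nat.card_perm] at hd
    exact hd.trans ((Nat.factorial_dvd_factorial h).trans (by decide))
  · haveI : IsCyclic M := by
      rcases (Nat.dvd_prime hp).1 hd with h1 | h1
      · haveI : Subsingleton M := (Nat.card_eq_one_iff_unique.1 h1).1
        exact isCyclic_of_subsingleton
      · haveI := Fact.mk hp
        exact isCyclic_of_prime_card h1
    refine Group.isSolvable_of_comm fun α β => MulEquiv.ext fun x => ?_
    obtain ⟨m, hm⟩ := MonoidHom.map_cyclic α.toMonoidHom
    obtain ⟨n, hn⟩ := MonoidHom.map_cyclic β.toMonoidHom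
    have hα : ∀ y, α y = y ^ m := hm
    have hβ : ∀ y, β y = y ^ n := hn
    show α (β x) = β (α x)
    rw [hα, hβ, hα, hβ, ← zpow_mul, ← zpow_mul, mul_comm]

section Step

variable {H : Type u} [Group H] (B : Subgroup H) [B.Characteristic]

/-- Action of `Aut H` on a characteristic subgroup and on its quotient. -/
def resPair : MulAut H →* MulAut B × MulAut (H ⧸ B) :=
  MonoidHom.prod
    { toFun := fun α =>
        { toFun := fun b => ⟨α b, (SetLike.ext_iff.1 (Subgroup.characteristic_iff_comap_eq.1 inferInstance α) b.1).2 b.2⟩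
          invFun := fun b => ⟨α.symm b,
            (SetLike.ext_iff.1 (Subgroup.characteristic_iff_comap_eq.1 inferInstance α.symm) b.1).2 b.2⟩
          left_inv := fun b => Subtype.ext (α.symm_apply_apply b)
          right_inv := fun b => Subtype.ext (α.apply_symm_apply b)
          map_mul' := fun a b => Subtype.ext (map_mul α a.1 b.1) }
      map_one' := by ext; rfl
      map_mul' := fun α β => by ext; rfl }
    { toFun := fun α => QuotientGroup.congr B B α
        (Subgroup.characteristic_iff_map_eq.1 inferInstance α)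
      map_one' := MulEquiv.ext fun q => by induction q using QuotientGroup.induction_on; rfl
      map_mul' := fun α β => MulEquiv.ext fun q => by induction q using QuotientGroup.induction_on; rfl }

theorem ker_resPair_comm (α β : (resPair B).ker) : α * β = β * α := by
  have hfix : ∀ (γ : (resPair B).ker) (b : H), b ∈ B → (γ : MulAut H) b = b := by
    intro γ b hb
    exact congrArg Subtype.val (MulEquiv.congr_fun (congrArg Prod.fst γ.2) ⟨b, hb⟩)
  have hmod : ∀ (γ : (resPair B).ker) (h : H), h⁻¹ * (γ : MulAut H) h ∈ B := by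
    intro γ h
    have := MulEquiv.congr_fun (congrArg Prod.snd γ.2) (QuotientGroup.mk h)
    exact QuotientGroup.eq.1 this.symm
  have hcen : ∀ (γ : (resPair B).ker) (h : H) (b : H), b ∈ B →
      Commute (h⁻¹ * (γ : MulAut H) h) b := by
    intro γ h b hb
    have hc : h * b * h⁻¹ ∈ B := (inferInstance : B.Normal).conj_mem b hb h
    have h1 := hfix γ _ hc
    rw [map_mul, map_mul, map_inv, hfix γ b hb] at h1
    show h⁻¹ * (γ : MulAut H) h * b = b * (h⁻¹ * (γ : MulAut H) h)
    calc h⁻¹ * (γ : MulAut H) h * b
        = h⁻¹ * ((γ : MulAut H) h * b * ((γ : MulAut H) h)⁻¹) * (γ : MulAut H) h := by group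
      _ = b * (h⁻¹ * (γ : MulAut H) h) := by rw [h1]; group
  refine Subtype.ext (MulEquiv.ext fun h => ?_)
  show (α : MulAut H) ((β : MulAut H) h) = (β : MulAut H) ((α : MulAut H) h)
  have key : ∀ γ δ : (resPair B).ker, (γ : MulAut H) ((δ : MulAut H) h) =
      h * (h⁻¹ * (γ : MulAut H) h) * (h⁻¹ * (δ : MulAut H) h) := by
    intro γ δ
    conv_lhs => rw [show (δ : MulAut H) h = h * (h⁻¹ * (δ : MulAut H) h) by group]
    rw [map_mul, hfix γ _ (hmod δ h)]
    group
  rw [key, key, mul_assoc, (hcen α h _ (hmod β h)).eq, ← mul_assoc]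

end Step

/-- The thinness condition. -/
def Thin (H : Type u) [Group H] : Prop :=
  ∀ p : ℕ, p.Prime → ∀ Q : Subgroup H, IsPGroup p Q →
    Nat.card (Q ⧸ frattini Q) ≤ 4 ∨ Nat.card (Q ⧸ frattini Q) ∣ p

theorem card_frattini_congr {Q R : Type*} [Group Q] [Group R] [Finite Q] (e : Q ≃* R) {p : ℕ}
    [Fact p.Prime] (hQ : IsPGroup p Q) :
    Nat.card (Q ⧸ frattini Q) = Nat.card (R ⧸ frattini R) :=
  Nat.card_congr (QuotientGroup.congr (frattini Q) (frattini R) e
    (PGroup.map_frattini hQ e.toMonoidHom e.surjective)).toEquiv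

theorem thin_subgroup {H : Type u} [Group H] [Finite H] (h : Thin H) (B : Subgroup H) : Thin B := by
  intro p hp Q hQ
  haveI := Fact.mk hp
  let e := Subgroup.equivMapOfInjective Q B.subtype B.subtype_injective
  rw [card_frattini_congr e hQ]
  exact h p hp _ (hQ.map B.subtype)

theorem isSolvable_mulAut_aux : ∀ (n : ℕ) (H : Type u) [Group H] [Finite H] [Group.IsSolvable H],
    Nat.card H ≤ n → Thin H → Group.IsSolvable (MulAut H) := by
  intro n
  induction n with
  | zero => intro H _ _ _ hn; exact absurd hn (Nat.card_pos (α := H)).ne'.bot_lt.not_ge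
  | succ n ih =>
    intro H _ _ _ hn hthin
    by_cases h1 : Nat.card H = 1
    · exact isSolvable_mulAut_small (Or.inl (by omega))
    haveI : Nontrivial H := Finite.one_lt_card_iff_nontrivial.1 (by have := Nat.card_pos (α := H); omega)
    have hA : Nat.card (Abelianization H) ≠ 1 := fun e =>
      (Group.IsSolvable.commutator_lt_top_of_nontrivial H).ne (Subgroup.index_eq_one.1 e)
    obtain ⟨p, hp, hpA⟩ := Nat.exists_prime_and_dvd hA
    haveI := Fact.mk hp
    let π : H →* Abelianization H := Abelianization.of
    have hπs : Function.Surjective π := QuotientGroup.mk'_surjective _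
    let B : Subgroup H := (powMonoidHom p : Abelianization H →* Abelianization H).range.comap π
    haveI : B.Characteristic := Subgroup.characteristic_iff_map_le.2 fun φ => by
      rintro _ ⟨h, ⟨a, ha⟩, rfl⟩
      refine ⟨Abelianization.map φ.toMonoidHom a, ?_⟩
      rw [powMonoidHom_apply] at ha ⊢
      rw [← map_pow, ha]
      rfl
    have hBne : B ≠ ⊤ := by
      intro e
      obtain ⟨a, ha⟩ := exists_prime_orderOf_dvd_card' p hpA
      have hsurj : Function.Surjective (powMonoidHom p : Abelianization H →* Abelianization H) := by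
        intro x
        obtain ⟨h, rfl⟩ := hπs x
        exact (show h ∈ B from e ▸ Subgroup.mem_top h)
      have hinj := (Finite.injective_iff_surjective).2 hsurj
      have : a = 1 := hinj (by
        rw [powMonoidHom_apply, map_one, ← ha, pow_orderOf_eq_one])
      exact hp.ne_one (by rw [← ha, this, orderOf_one])
    have hBlt : Nat.card B < Nat.card H :=
      lt_of_le_of_ne B.card_le_card_group fun e => hBne (Subgroup.eq_top_of_card_eq B e)
    haveI := ih B (by omega) (thin_subgroup hthin B)
    have hpow : ∀ q : H ⧸ B, q ^ p = 1 := by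
      intro q
      obtain ⟨h, rfl⟩ := QuotientGroup.mk'_surjective B q
      rw [← map_pow]
      exact (QuotientGroup.eq_one_iff _).2 ⟨π h, by rw [powMonoidHom_apply, map_pow]⟩
    have hcomm : commutator H ≤ B := fun c hc =>
      ⟨1, (map_one _).trans (MonoidHom.mem_ker.1 (Abelianization.commutator_subset_ker π hc)).symm⟩
    have hQuot : Group.IsSolvable (MulAut (H ⧸ B)) := by
      refine isSolvable_mulAut_small ?_
      obtain ⟨P⟩ := (inferInstance : Nonempty (Sylow p H))
      let f : (P : Subgroup H) →* H ⧸ B := (QuotientGroup.mk' B).comp (P : Subgroup H).subtype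
      have hf : Function.Surjective f := by
        have hq : IsPGroup p (H ⧸ B) := fun q => ⟨1, by rw [pow_one]; exact hpow q⟩
        have h1 := Subgroup.eq_top_of_card_eq
          ((P.mapSurjective (QuotientGroup.mk'_surjective B) : Sylow p (H ⧸ B)) : Subgroup (H ⧸ B)) (by
            obtain ⟨k, hk⟩ := IsPGroup.iff_card.1 hq
            rw [Sylow.card_eq_multiplicity, hk, hp.factorization_pow, Finsupp.single_eq_same])
        intro q
        have hq' : q ∈ (P : Subgroup H).map (QuotientGroup.mk' B) := by
          rw [← Sylow.coe_mapSurjective (QuotientGroup.mk'_surjective B) P, h1]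
          exact Subgroup.mem_top q
        obtain ⟨x, hx, hxq⟩ := hq'
        exact ⟨⟨x, hx⟩, hxq⟩
      have hker : frattini (P : Subgroup H) ≤ f.ker := by
        refine PGroup.frattini_le (p := p) ?_ fun x => ?_
        · rw [commutator_def, Subgroup.commutator_le]
          intro a _ b _
          exact (QuotientGroup.eq_one_iff _).2 (hcomm (Subgroup.commutator_mem_commutator
            (Subgroup.mem_top (a : H)) (Subgroup.mem_top (b : H))))
        · rw [MonoidHom.mem_ker, map_pow]; exact hpow _
      have hd : Nat.card (H ⧸ B) ∣ Nat.card ((P : Subgroup H) ⧸ frattini (P : Subgroup H)) := by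
        refine Subgroup.card_dvd_of_surjective (QuotientGroup.lift _ f hker) ?_
        intro q
        obtain ⟨x, rfl⟩ := hf q
        exact ⟨QuotientGroup.mk x, rfl⟩
      rcases hthin p hp _ P.2 with h | h
      · exact Or.inl ((Nat.le_of_dvd Nat.card_pos hd).trans h)
      · exact Or.inr ⟨p, hp, hd.trans h⟩
    haveI := hQuot
    haveI : Group.IsSolvable (resPair B).ker := Group.isSolvable_of_comm (ker_resPair_comm B)
    exact Group.isSolvable_of_ker_le_range (resPair B).ker.subtype (resPair B) (by simp)

/-- A solvable group with thin Sylow subgroups has a solvable automorphism group. -/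
theorem isSolvable_mulAut {H : Type u} [Group H] [Finite H] [Group.IsSolvable H] (h : Thin H) :
    Group.IsSolvable (MulAut H) :=
  isSolvable_mulAut_aux (Nat.card H) H le_rfl h

end Cfsg.Agent.SolvableAut
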