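import Mathlib
import Cfsg.Agent.Lib.Frobenius.SL25
import Cfsg.Agent.S3357
import Cfsg.Agent.Lib.Frobenius.SolvableAut
import Cfsg.Agent.Lib.PSL2.MinimalSimple

/-!
# A non-solvable Frobenius complement contains `SL(2, 5)`
-/

set_option autoImplicit false

open scoped MatrixGroups

namespace Cfsg.Agent.SL25

open FpfRep

/-- A Frobenius complement has a fixed-point-free complex representation. -/
theorem exists_fpfRep {G : Type*} [Group G] [Finite G]
    (hFC : ∃ (L : Type) (_ : Group L) (_ : Finite L) (H : Subgroup L),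
      Cfsg.IsFrobeniusComplement H ∧ Nonempty (G ≃* H)) :
    ∃ (n : ℕ) (ρ : G →* Module.End (AlgebraicClosure ℚ) (Fin n → AlgebraicClosure ℚ)),
      0 < n ∧ IsFpfRep ρ := by
  obtain ⟨n, ρ, hn, -, -, hfpf⟩ := Cfsg.Agent.S3357.result hFC
  refine ⟨n, ((Matrix.toLinAlgEquiv' (R := AlgebraicClosure ℚ) (n := Fin n)).toMulEquiv.toMonoidHom).comp
    ((Units.coeHom (Matrix (Fin n) (Fin n) (AlgebraicClosure ℚ))).comp ρ), hn, fun g hg v hv => ?_⟩
  exact hfpf g hg v (by simpa using hv)

/-- **Zassenhaus**: a non-solvable Frobenius complement contains `SL(2, 5)`. -/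
theorem exists_SL25_of_complement {G : Type*} [Group G] [Finite G]
    (hFC : ∃ (L : Type) (_ : Group L) (_ : Finite L) (H : Subgroup L),
      Cfsg.IsFrobeniusComplement H ∧ Nonempty (G ≃* H))
    (hns : ¬ Group.IsSolvable G) : ∃ K : Subgroup G, Nonempty (K ≃* SL(2, ZMod 5)) := by
  obtain ⟨n, ρ, hn, hρ⟩ := exists_fpfRep hFC
  haveI : Nonempty (Fin n) := ⟨⟨0, hn⟩⟩
  exact exists_SL25 hρ hns

/-- Frobenius complements have thin Sylow subgroups. -/
theorem thin_of_complement {G : Type*} [Group G] [Finite G]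
    (hFC : ∃ (L : Type) (_ : Group L) (_ : Finite L) (H : Subgroup L),
      Cfsg.IsFrobeniusComplement H ∧ Nonempty (G ≃* H)) : SolvableAut.Thin G := by
  obtain ⟨n, ρ, hn, hρ⟩ := exists_fpfRep hFC
  haveI : Nonempty (Fin n) := ⟨⟨0, hn⟩⟩
  intro p hp Q hQ
  haveI := Fact.mk hp
  by_cases hp2 : p = 2
  · subst hp2
    exact Or.inl (card_frattini_quotient_le hρ hQ)
  · right
    haveI := isCyclic_of_isPGroup_odd hρ hp2 hQ
    haveI : IsCyclic (Q ⧸ frattini Q) :=
      isCyclic_of_surjective (QuotientGroup.mk' (frattini Q)) (QuotientGroup.mk'_surjective _)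
    rw [← IsCyclic.exponent_eq_card (α := Q ⧸ frattini Q)]
    exact Monoid.exponent_dvd_of_forall_pow_eq_one fun q => by
      obtain ⟨x, rfl⟩ := QuotientGroup.mk'_surjective (frattini Q) q
      rw [← map_pow]
      exact (QuotientGroup.eq_one_iff _).2 (PGroup.pow_mem_frattini hQ x)

/-- `SL(2, 5)` is not solvable. -/
theorem not_isSolvable_SL25 : ¬ Group.IsSolvable SL(2, ZMod 5) := by
  haveI : Fact (Nat.Prime 5) := ⟨by norm_num⟩
  intro h
  haveI := h
  exact PSL2.not_isSolvable_psl (F := ZMod 5) (by rw [ZMod.card]; norm_num)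
    (Group.isSolvable_of_surjective (f := PSL2.mk) PSL2.mk_surjective)

end Cfsg.Agent.SL25
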