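import Cfsg.Agent.Lib.Frobenius.Basic
import Cfsg.Agent.Lib.CharInt.FrobeniusKernel
import Mathlib.GroupTheory.SemidirectProduct
import Mathlib.GroupTheory.Perm.Subgroup
import Mathlib.GroupTheory.Abelianization.Defs

/-!
# Frobenius complements from fixed-point-free actions

* `exists_complement_of_fpf`: a group with a fixed-point-free action on a nontrivial finite group is a
  Frobenius complement of a finite group in `Type`, with kernel of the order of that group;
* `exists_fpf_hom`: conversely;
* `isSquare_card_of_involution_mem_commutator`: a fixed-point-free module of a group with an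
  involution in its commutator subgroup has square order.
-/

namespace Cfsg.Agent.Frobenius

open scoped Pointwise
open Subgroup

/-- Being a Frobenius complement passes along isomorphisms. -/
theorem isFrobeniusComplement_map {L M : Type*} [Group L] [Group M] (e : L ≃* M) {H : Subgroup L}
    (hH : IsFrobeniusComplement H) : IsFrobeniusComplement (H.map e.toMonoidHom) := by
  refine ⟨fun h => hH.1 ((map_eq_bot_iff_of_injective _ e.injective).1 h),
    fun h => hH.2.1 ?_, fun g hg => (Subgroup.eq_bot_iff_forall _).2 fun x hx => ?_⟩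
  · refine eq_top_iff.2 fun x _ => ?_
    obtain ⟨y, hy, hxy⟩ := (h ▸ mem_top (e x) : e x ∈ H.map e.toMonoidHom)
    exact e.injective hxy ▸ hy
  · obtain ⟨h1, h2⟩ := mem_inf.1 hx
    rw [Coprime.mem_conj_smul_iff, Subgroup.mem_map_equiv] at h2
    rw [Subgroup.mem_map_equiv] at h1 hg
    by_contra hx1
    refine hg (mem_of_inter hH h1 (fun h => hx1 ?_) (by simpa using h2))
    simpa using congrArg e h

theorem isFpf_injective {A V : Type*} [Group A] [Group V] [Nontrivial V] {φ : A →* MulAut V}
    (hφ : ∀ a, a ≠ 1 → ∀ v, φ a v = v → v = 1) : Function.Injective φ := by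
  rw [injective_iff_map_eq_one]
  intro a ha
  by_contra h1
  obtain ⟨v, hv⟩ := exists_ne (1 : V)
  exact hv (hφ a h1 v (by rw [ha, MulAut.one_apply]))

/-- A fixed-point-free action gives a Frobenius group in `Type`. -/
theorem exists_complement_of_fpf {A V : Type*} [Group A] [Finite A] [Nontrivial A] [Group V] [Finite V]
    [Nontrivial V] (φ : A →* MulAut V) (hφ : ∀ a, a ≠ 1 → ∀ v, φ a v = v → v = 1) :
    ∃ (L : Type) (_ : Group L) (_ : Finite L) (H : Subgroup L),
      IsFrobeniusComplement H ∧ Nonempty (A ≃* H) ∧ Nat.card (frobeniusKernel H) = Nat.card V := by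
  classical
  let M := V ⋊[φ] A
  haveI : Finite M := Finite.of_equiv _ SemidirectProduct.equivProd.symm
  let H₀ : Subgroup M := (SemidirectProduct.inr : A →* M).range
  have hH₀ : IsFrobeniusComplement H₀ := by
    refine ⟨?_, ?_, fun g hg => (Subgroup.eq_bot_iff_forall _).2 fun x hx => ?_⟩
    · intro h
      obtain ⟨a, ha⟩ := exists_ne (1 : A)
      have : (SemidirectProduct.inr a : M) ∈ H₀ := ⟨a, rfl⟩
      rw [h, mem_bot] at this
      exact ha (by simpa using congrArg SemidirectProduct.right this)
    · intro h
      obtain ⟨v, hv⟩ := exists_ne (1 : V)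
      obtain ⟨a, ha⟩ := (h ▸ mem_top (SemidirectProduct.inl v : M) : SemidirectProduct.inl v ∈ H₀)
      exact hv (by simpa using (congrArg SemidirectProduct.left ha).symm)
    · obtain ⟨⟨b, rfl⟩, hxg⟩ := mem_inf.1 hx
      rw [Coprime.mem_conj_smul_iff] at hxg
      obtain ⟨c, hc⟩ := hxg
      have hgv : g.left ≠ 1 := fun h => hg ⟨g.right, SemidirectProduct.ext (by simp [h]) (by simp)⟩
      by_contra hb
      have hb1 : b ≠ 1 := fun h => hb (by rw [h, map_one])
      have h1 := congrArg (fun y : M => g * y) hc
      simp only [← mul_assoc, mul_inv_cancel, one_mul] at h1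
      have hl := congrArg SemidirectProduct.left h1
      change g.left * φ g.right 1 = 1 * φ b g.left at hl
      rw [map_one, mul_one, one_mul] at hl
      exact hgv (hφ b hb1 g.left hl.symm)
  -- move to a group in `Type`
  let e₁ : Equiv.Perm M ≃* Equiv.Perm (Fin (Nat.card M)) :=
    Equiv.permCongrHom (Finite.equivFin M)
  let f : M →* Equiv.Perm (Fin (Nat.card M)) := e₁.toMonoidHom.comp (MulAction.toPermHom M M)
  have hf : Function.Injective f := e₁.injective.comp MulAction.toPerm_injective
  let e : M ≃* f.range := MonoidHom.ofInjective hf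
  refine ⟨f.range, inferInstance, inferInstance, H₀.map e.toMonoidHom,
    isFrobeniusComplement_map e hH₀, ⟨(MonoidHom.ofInjective
      (SemidirectProduct.inr_injective (φ := φ))).trans (Subgroup.equivMapOfInjective H₀ _ e.injective)⟩,
    ?_⟩
  rw [card_kernel (isFrobeniusComplement_map e hH₀)]
  have h1 := (H₀.map e.toMonoidHom).card_mul_index
  have hc : Nat.card (H₀.map e.toMonoidHom) = Nat.card A := by
    refine (card_map_of_injective e.injective).trans ?_
    rw [← Nat.card_congr (MonoidHom.ofInjective (SemidirectProduct.inr_injective (φ := φ))).toEquiv]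
  have h2 : Nat.card f.range = Nat.card V * Nat.card A := by
    refine (Nat.card_congr e.toEquiv).symm.trans ?_
    rw [Nat.card_congr SemidirectProduct.equivProd, Nat.card_prod]
  rw [hc, h2, mul_comm (Nat.card V)] at h1
  exact Nat.eq_of_mul_eq_mul_left Nat.card_pos h1

/-- A Frobenius complement acts fixed-point-freely on the kernel. -/
theorem exists_fpf_hom {G : Type*} [Group G] [Finite G] {H : Subgroup G}
    (hH : IsFrobeniusComplement H) :
    ∃ (N : Subgroup G) (φ : H →* MulAut N), Nontrivial N ∧ (∀ a, a ≠ 1 → ∀ v, φ a v = v → v = 1) ∧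
      (N : Set G) = frobeniusKernel H ∧ N.Normal ∧
      (∀ (h : H) (n : N), ((φ h n : N) : G) = (h : G) * n * (h : G)⁻¹) := by
  obtain ⟨N, hNk, hNn, hNc⟩ := CharInt.exists_frobeniusKernel hH
  have hN : N ≠ ⊥ := fun h => hH.2.1 (by
    have := hNc.sup_eq_top
    rwa [h, bot_sup_eq] at this)
  have hf := (isFrobeniusComplement_iff hNc hN hH.1).1 hH
  refine ⟨N, MulAut.conjNormal.comp H.subtype, (nontrivial_iff_ne_bot N).2 hN,
    fun a ha v hv => ?_, hNk, hNn, fun h n => MulAut.conjNormal_apply _ _⟩
  have h' : (a : G) * v * (a : G)⁻¹ = v :=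
    (MulAut.conjNormal_apply (a : G) v).symm.trans (congrArg Subtype.val hv)
  have hm : (v : G) ∈ N ⊓ centralizer {(a : G)} :=
    ⟨v.2, mem_centralizer_singleton_iff.2 (mul_inv_eq_iff_eq_mul.1 h').symm⟩
  rw [hf a a.2 (fun h => ha (Subtype.ext h)), mem_bot] at hm
  exact Subtype.ext hm

theorem even_finrank_of_det {r : ℕ} [hr : Fact r.Prime] (hr2 : r ≠ 2) {W : Type*} [AddCommGroup W]
    [Module (ZMod r) W] (f : W →ₗ[ZMod r] W) (hf : ∀ w, f w = -w) (hdet : LinearMap.det f = 1) :
    Even (Module.finrank (ZMod r) W) := by
  have hfe : f = (-1 : ZMod r) • LinearMap.id := LinearMap.ext fun w => by simp [hf]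
  rw [hfe, LinearMap.det_smul, LinearMap.det_id, mul_one] at hdet
  rcases Nat.even_or_odd (Module.finrank (ZMod r) W) with h | h
  · exact h
  · exfalso
    rw [h.neg_one_pow] at hdet
    have h2 : ((2 : ℕ) : ZMod r) = 0 := by
      push_cast
      calc (2 : ZMod r) = 1 + 1 := one_add_one_eq_two.symm
        _ = 1 + -1 := by rw [hdet]
        _ = 0 := add_neg_cancel 1
    rw [ZMod.natCast_eq_zero_iff] at h2
    exact hr2 ((Nat.prime_dvd_prime_iff_eq hr.out Nat.prime_two).1 h2)

theorem isSquare_card_elementary {A : Type*} [Group A] {t : A} (htc : t ∈ _root_.commutator A) {r : ℕ}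
    [hr : Fact r.Prime] (hr2 : r ≠ 2) {V : Type*} [CommGroup V] [Finite V] (ψ : A →* MulAut V)
    (hinv : ∀ v, ψ t v = v⁻¹) (hexp : ∀ v : V, v ^ r = 1) : IsSquare (Nat.card V) := by
  have h0 : ∀ w : Additive V, r • w = 0 := fun w => hexp w.toMul
  let mV : Module (ZMod r) (Additive V) := AddCommGroup.zmodModule h0
  let δ' : A →* ZMod r :=
    { toFun := fun a => LinearMap.det ((MonoidHom.toAdditive (ψ a).toMonoidHom).toZModLinearMap r)
      map_one' := by
        have h : (MonoidHom.toAdditive (ψ 1).toMonoidHom).toZModLinearMap r =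
            (LinearMap.id : Additive V →ₗ[ZMod r] Additive V) := LinearMap.ext fun w => by
          show Additive.ofMul (ψ 1 w.toMul) = w
          rw [map_one, MulAut.one_apply]; rfl
        rw [h]; exact LinearMap.det_id
      map_mul' := fun a b => by
        have h : (MonoidHom.toAdditive (ψ (a * b)).toMonoidHom).toZModLinearMap r =
            ((MonoidHom.toAdditive (ψ a).toMonoidHom).toZModLinearMap r).comp
              ((MonoidHom.toAdditive (ψ b).toMonoidHom).toZModLinearMap r) := LinearMap.ext fun w => by
          show Additive.ofMul (ψ (a * b) w.toMul) = Additive.ofMul (ψ a (ψ b w.toMul))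
          rw [map_mul, MulAut.mul_apply]
        rw [h]; exact LinearMap.det_comp _ _ }
  have hδ : δ'.toHomUnits t = 1 := MonoidHom.mem_ker.1 (Abelianization.commutator_subset_ker _ htc)
  have heven := even_finrank_of_det hr2
    ((MonoidHom.toAdditive (ψ t).toMonoidHom).toZModLinearMap r)
    (fun w => (congrArg Additive.ofMul (hinv w.toMul)).trans rfl) (congrArg Units.val hδ)
  have : Module.Finite (ZMod r) (Additive V) := Module.Finite.of_finite
  have h : Nat.card (Additive V) = Nat.card (ZMod r) ^ Module.finrank (ZMod r) (Additive V) :=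
    @Module.natCard_eq_pow_finrank (ZMod r) (Additive V) _ _ _ this
  rw [Nat.card_zmod] at h
  rw [show Nat.card V = Nat.card (Additive V) from rfl, h]
  exact heven.isSquare_pow r

/-- If an involution in the commutator subgroup inverts an abelian group of odd order on which the group
acts, that abelian group has square order. -/
theorem isSquare_card_of_inverting {A : Type*} [Group A] {t : A} (htc : t ∈ _root_.commutator A) :
    ∀ (n : ℕ) (V : Type*) [CommGroup V] [Finite V] (φ : A →* MulAut V), (∀ v, φ t v = v⁻¹) →
      Nat.card V = n → Odd n → IsSquare n := by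
  intro n
  induction n using Nat.strong_induction_on with
  | _ n ih =>
    intro V _ _ φ hinv hn hodd
    rcases eq_or_ne n 1 with rfl | hn1
    · exact IsSquare.one
    obtain ⟨r, hr, hrn⟩ := Nat.exists_prime_and_dvd hn1
    haveI := Fact.mk hr
    have hr2 : r ≠ 2 := fun h => Nat.not_even_iff_odd.2 hodd (even_iff_two_dvd.2 (h ▸ hrn))
    let π : V →* V := powMonoidHom r
    have hcard : Nat.card π.ker * Nat.card π.range = n := by
      rw [← hn, ← Subgroup.card_mul_index π.ker, Subgroup.index_ker]
    have hkinv : ∀ (a : A) (v : V), v ∈ π.ker → φ a v ∈ π.ker := by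
      intro a v hv
      rw [MonoidHom.mem_ker, powMonoidHom_apply] at hv ⊢
      rw [← map_pow, hv, map_one]
    have hrinv : ∀ (a : A) (v : V), v ∈ π.range → φ a v ∈ π.range := by
      rintro a _ ⟨w, rfl⟩
      exact ⟨φ a w, by simp [π]⟩
    -- restriction of the action to an invariant subgroup
    have restrict : ∀ (W : Subgroup V), (∀ (a : A) (v : V), v ∈ W → φ a v ∈ W) →
        ∃ ψ : A →* MulAut W, ∀ (a : A) (w : W), ((ψ a w : W) : V) = φ a w := by
      intro W hW
      refine ⟨{ toFun := fun a =>
                  { toFun := fun w => ⟨φ a w, hW a w w.2⟩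
                    invFun := fun w => ⟨φ a⁻¹ w, hW a⁻¹ w w.2⟩
                    left_inv := fun w => Subtype.ext (by
                      show φ a⁻¹ (φ a (w : V)) = w
                      rw [← MulAut.mul_apply, ← map_mul, inv_mul_cancel, map_one, MulAut.one_apply])
                    right_inv := fun w => Subtype.ext (by
                      show φ a (φ a⁻¹ (w : V)) = w
                      rw [← MulAut.mul_apply, ← map_mul, mul_inv_cancel, map_one, MulAut.one_apply])
                    map_mul' := fun x y => Subtype.ext (map_mul (φ a) (x : V) y) }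
                map_one' := by
                  ext w
                  show φ 1 (w : V) = w
                  rw [map_one, MulAut.one_apply]
                map_mul' := fun a b => by
                  ext w
                  show φ (a * b) (w : V) = φ a (φ b (w : V))
                  rw [map_mul, MulAut.mul_apply] }, fun a w => rfl⟩
    -- the kernel is a vector space of even dimension
    have hker : IsSquare (Nat.card π.ker) := by
      obtain ⟨ψ, hψ⟩ := restrict π.ker hkinv
      exact isSquare_card_elementary htc hr2 ψ (fun v => Subtype.ext ((hψ t v).trans (hinv _)))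
        (fun v => Subtype.ext v.2)
    have hne : 1 < Nat.card π.ker := by
      obtain ⟨x, hx⟩ := exists_prime_orderOf_dvd_card' r (hn ▸ hrn : r ∣ Nat.card V)
      refine (Subgroup.one_lt_card_iff_ne_bot _).2 fun h => hr.ne_one ?_
      have : x ∈ π.ker := by
        rw [MonoidHom.mem_ker, powMonoidHom_apply, ← hx, pow_orderOf_eq_one]
      rw [h, mem_bot] at this
      rw [← hx, this, orderOf_one]
    obtain ⟨ψ, hψ⟩ := restrict π.range hrinv
    have hrange : IsSquare (Nat.card π.range) := by
      refine ih _ (hcard ▸ lt_mul_left Nat.card_pos hne) π.range ψ (fun v => Subtype.ext ?_) rfl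
        (hodd.of_dvd_nat ⟨Nat.card π.ker, by rw [mul_comm, hcard]⟩)
      rw [hψ, hinv, Subgroup.coe_inv]
    exact hcard ▸ hker.mul hrange

end Cfsg.Agent.Frobenius
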