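import Mathlib

/-!
# The number theory behind Amitsur's theorem for `SL(2, 5)`

* `exists_prime_aux`: a prime `ℓ` with `ℓ ≡ 3 (mod 20)` and `ℓ ≡ -1 (mod p)`;
* `exists_sq_add_five_sq`: such a prime satisfies `x ^ 2 + 5 y ^ 2 = 2 ℓ`;
* `exists_neg_one_eq`: `-1 = u ^ 2 + ℓ v ^ 2` in the `p`-th cyclotomic field (Gauss's identity
  `4 Φ_ℓ = A ^ 2 + ℓ B ^ 2` at a point where `Φ_ℓ` takes the value `-ζ⁻¹`).
-/

set_option autoImplicit false
set_option linter.style.haveILetI false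

namespace Cfsg.Agent.Frobenius

open Polynomial

theorem exists_prime_aux {p : ℕ} (hp : p.Prime) (h7 : 7 ≤ p) :
    ∃ l : ℕ, l.Prime ∧ l % 20 = 3 ∧ p ∣ l + 1 := by
  have hcop : Nat.Coprime 20 p := by
    refine ((hp.coprime_iff_not_dvd).2 fun h => ?_).symm
    have := Nat.le_of_dvd (by norm_num) h
    interval_cases p <;> simp_all (config := { decide := true })
  obtain ⟨r, hr1, hr2⟩ := Nat.chineseRemainder hcop 3 (p - 1)
  have hr : r.Coprime (20 * p) := by
    refine Nat.Coprime.mul_right ?_ ?_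
    · have h' : r % 20 = 3 := hr1
      rw [Nat.coprime_comm, Nat.coprime_iff_gcd_eq_one, Nat.gcd_rec, h']
      rfl
    · refine ((hp.coprime_iff_not_dvd).2 fun h => ?_).symm
      have h' : r % p = (p - 1) % p := hr2
      rw [Nat.mod_eq_zero_of_dvd h, Nat.mod_eq_of_lt (by omega)] at h'
      omega
  obtain ⟨l, -, hl, hlr⟩ :=
    Nat.forall_exists_prime_gt_and_modEq (q := 20 * p) (a := r) 0 (by positivity) hr
  have h20 : l ≡ 3 [MOD 20] := (hlr.of_dvd (Dvd.intro p rfl)).trans hr1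
  have hpm : l ≡ p - 1 [MOD p] := (hlr.of_dvd (Dvd.intro_left 20 rfl)).trans hr2
  refine ⟨l, hl, h20, ?_⟩
  have h := hpm.add_right 1
  rw [Nat.sub_add_cancel (by omega)] at h
  exact Nat.modEq_zero_iff_dvd.1 (h.trans (Nat.modEq_zero_iff_dvd.2 dvd_rfl))

theorem not_sq_three : ∀ r : ZMod 5, ¬ (3 : ZMod 5) = r * r := by decide

theorem legendreSym_five_three [Fact (Nat.Prime 5)] : legendreSym 5 3 = -1 := by
  rw [legendreSym.eq_neg_one_iff]
  rintro ⟨r, hr⟩
  exact not_sq_three r (by simpa using hr)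

theorem exists_sq_add_five_sq {l : ℕ} (hl : l.Prime) (h20 : l % 20 = 3) (h3 : 3 < l) :
    ∃ x y : ℤ, x ^ 2 + 5 * y ^ 2 = 2 * l := by
  haveI := Fact.mk hl
  haveI : Fact (Nat.Prime 5) := ⟨by norm_num⟩
  have hsq : IsSquare ((-5 : ℤ) : ZMod l) := by
    refine (legendreSym.eq_one_iff l ?_).1 ?_
    · intro h
      rw [ZMod.intCast_zmod_eq_zero_iff_dvd, dvd_neg] at h
      have h5 : l ∣ 5 := Int.natCast_dvd_natCast.1 (by simpa using h)
      rcases (Nat.dvd_prime (by norm_num : Nat.Prime 5)).1 h5 with h | h <;> omega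
    · rw [show (-5 : ℤ) = -1 * ((5 : ℕ) : ℤ) by norm_num, legendreSym.mul,
        legendreSym.quadratic_reciprocity_one_mod_four (by norm_num : 5 % 4 = 1) (by omega : l ≠ 2),
        legendreSym.at_neg_one (by omega), ZMod.χ₄_nat_three_mod_four (by omega),
        legendreSym.mod 5 (l : ℤ)]
      rw [show ((l : ℤ) % ((5 : ℕ) : ℤ)) = 3 by omega, legendreSym_five_three]
      norm_num
  obtain ⟨s, hs⟩ := hsq
  set k := Nat.sqrt l with hk
  obtain ⟨a, b, hne, hab⟩ := Fintype.exists_ne_map_eq_of_card_lt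
    (fun c : Fin (k + 1) × Fin (k + 1) => ((c.1 : ℕ) : ZMod l) - s * ((c.2 : ℕ) : ZMod l))
    (by rw [ZMod.card, Fintype.card_prod, Fintype.card_fin]; exact Nat.lt_succ_sqrt l)
  set x : ℤ := (a.1 : ℤ) - (b.1 : ℤ) with hx
  set y : ℤ := (a.2 : ℤ) - (b.2 : ℤ) with hy
  have hxk : -(k : ℤ) ≤ x ∧ x ≤ k := by omega
  have hyk : -(k : ℤ) ≤ y ∧ y ≤ k := by omega
  have hkl : k * k < l := by
    rcases (Nat.sqrt_le l).lt_or_eq with h | h
    · exact h
    · exfalso
      rcases (Nat.dvd_prime hl).1 (Dvd.intro k h) with h' | h'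
      · rw [h'] at h
        omega
      · rw [h'] at h
        nlinarith
  have hdvd : (l : ℤ) ∣ x ^ 2 + 5 * y ^ 2 := by
    rw [← ZMod.intCast_zmod_eq_zero_iff_dvd]
    have hxs : (x : ZMod l) = s * (y : ZMod l) := by
      simp only [hx, hy, Int.cast_sub, Int.cast_natCast, mul_sub]
      exact sub_eq_sub_iff_sub_eq_sub.1 hab
    push_cast
    rw [hxs]
    have hs' : s * s = (-5 : ZMod l) := by rw [← hs]; push_cast; ring
    linear_combination (y : ZMod l) ^ 2 * hs'
  obtain ⟨m, hm⟩ := hdvd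
  have hxy : x ≠ 0 ∨ y ≠ 0 := by
    by_contra h
    push Not at h
    exact hne (Prod.ext (Fin.ext (by omega)) (Fin.ext (by omega)))
  have hpos : 0 < x ^ 2 + 5 * y ^ 2 := by rcases hxy with h | h <;> positivity
  have hm0 : 0 < m := by
    by_contra h
    push Not at h
    nlinarith [Int.natCast_nonneg l]
  have hm6 : m < 6 := by
    have h1 : x ^ 2 ≤ (k : ℤ) ^ 2 := sq_le_sq' hxk.1 hxk.2
    have h2 : y ^ 2 ≤ (k : ℤ) ^ 2 := sq_le_sq' hyk.1 hyk.2
    have h3 : (k : ℤ) ^ 2 < l := by rw [sq]; exact_mod_cast hkl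
    nlinarith
  have key : ∀ u v : ZMod 20, u ^ 2 + 5 * v ^ 2 ≠ 3 ∧ u ^ 2 + 5 * v ^ 2 ≠ 12 ∧ u ^ 2 + 5 * v ^ 2 ≠ 15 := by
    decide +kernel
  have hcast : (x : ZMod 20) ^ 2 + 5 * (y : ZMod 20) ^ 2 = 3 * (m : ZMod 20) := by
    have h1 : ((l : ℕ) : ZMod 20) = 3 := by rw [← ZMod.natCast_mod, h20]; rfl
    have h2 := congrArg (fun z : ℤ => (z : ZMod 20)) hm
    push_cast at h2
    rw [h2, h1]
  obtain ⟨k1, k4, k5⟩ := key (x : ZMod 20) (y : ZMod 20)
  interval_cases m
  · exact absurd (hcast.trans (by decide)) k1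
  · exact ⟨x, y, by linarith⟩
  · -- reduce `3 ℓ` to `2 ℓ`
    have h3d : (3 : ℤ) ∣ x - y ∨ (3 : ℤ) ∣ x + y := by
      have h : (3 : ℤ) ∣ (x - y) * (x + y) := ⟨(l : ℤ) - 2 * y ^ 2, by linear_combination hm⟩
      exact (Int.Prime.dvd_mul' (by norm_num) h)
    rcases h3d with ⟨c, hc⟩ | ⟨c, hc⟩
    · refine ⟨c + 2 * y, c, ?_⟩
      rw [show x = 3 * c + y by omega] at hm
      linarith
    · refine ⟨c - 2 * y, c, ?_⟩
      rw [show x = 3 * c - y by omega] at hm
      linarith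
  · exact absurd (hcast.trans (by decide)) k4
  · exact absurd (hcast.trans (by decide)) k5

/-- `-1 = u ^ 2 + ℓ v ^ 2` in the `p`-th cyclotomic field. -/
theorem exists_neg_one_eq {p l : ℕ} [hp : Fact p.Prime] [hl : Fact l.Prime] (h3 : 3 ≤ p)
    (hl4 : l % 4 = 3) (hdvd : p ∣ l + 1) :
    ∃ u v : CyclotomicField p ℚ, -1 = u ^ 2 + (l : CyclotomicField p ℚ) * v ^ 2 := by
  classical
  set K := CyclotomicField p ℚ
  set L := CyclotomicField l K
  haveI : IsCyclotomicExtension {p} ℚ K := CyclotomicField.isCyclotomicExtension p ℚ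
  haveI : NeZero ((l : ℕ) : K) := ⟨Nat.cast_ne_zero.2 hl.out.ne_zero⟩
  haveI : IsGalois K L := IsCyclotomicExtension.isGalois {l} K L
  obtain ⟨ξ, hξ⟩ : ∃ ξ : L, IsPrimitiveRoot ξ l :=
    ⟨_, IsCyclotomicExtension.zeta_spec l K L⟩
  set ζ : K := IsCyclotomicExtension.zeta p ℚ K
  have hζ : IsPrimitiveRoot ζ p := IsCyclotomicExtension.zeta_spec p ℚ K
  set y : L := algebraMap K L ζ with hy
  have hyp : y ^ p = 1 := by rw [hy, ← map_pow, hζ.pow_eq_one, map_one]
  have hy1 : y ≠ 1 := by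
    rw [hy, ← (algebraMap K L).map_one, ne_eq, (algebraMap K L).injective.eq_iff]
    exact hζ.ne_one (by omega)
  set χ : MulChar (ZMod l) ℤ := quadraticChar (ZMod l)
  set χL : MulChar (ZMod l) L := χ.ringHomComp (Int.castRingHom L)
  set ψ : AddChar (ZMod l) L := AddChar.zmodChar l hξ.pow_eq_one with hψ
  have hψap : ∀ b : ZMod l, ψ b = ξ ^ b.val := fun b => rfl
  have hl2 : ringChar (ZMod l) ≠ 2 := by rw [ZMod.ringChar_zmod_n]; omega
  set g := gaussSum χL ψ with hg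
  have hg2 : g ^ 2 = -(l : L) := by
    rw [hg, gaussSum_sq (MulChar.ringHomComp_ne_one_iff (Int.cast_injective (α := L)) |>.2 (quadraticChar_ne_one hl2))
      ((quadraticChar_isQuadratic _).comp _) (AddChar.zmodChar_primitive_of_primitive_root l hξ)]
    rw [ZMod.card, show χL (-1) = ((χ (-1) : ℤ) : L) from rfl, quadraticChar_neg_one hl2, ZMod.card,
      ZMod.χ₄_nat_three_mod_four hl4]
    push_cast
    ring
  have hg0 : g ≠ 0 := fun h => by
    rw [h, zero_pow (by norm_num), eq_comm, neg_eq_zero, Nat.cast_eq_zero] at hg2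
    exact hl.out.ne_zero hg2
  let P : ℤ → L := fun e => ∏ b ∈ (Finset.univ : Finset (ZMod l)).filter (fun b => χ b = e), (y - ξ ^ b.val)
  -- the action of the Galois group
  have hσ : ∀ σ : L ≃ₐ[K] L, (σ (P 1) = P 1 ∧ σ (P (-1)) = P (-1) ∧ σ g = g) ∨
      (σ (P 1) = P (-1) ∧ σ (P (-1)) = P 1 ∧ σ g = -g) := by
    intro σ
    obtain ⟨i, hi, hξi⟩ := hξ.eq_pow_of_pow_eq_one (show σ ξ ^ l = 1 by rw [← map_pow, hξ.pow_eq_one, map_one])
    have hcop : i.Coprime l := by
      refine (hξ.pow_iff_coprime hl.out.pos i).1 ?_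
      rw [hξi]
      exact hξ.map_of_injective σ.injective
    have ha0 : ((i : ℕ) : ZMod l) ≠ 0 := by
      rw [ne_eq, ZMod.natCast_eq_zero_iff]
      exact fun h => hl.out.ne_one (Nat.dvd_one.1 (hcop ▸ Nat.dvd_gcd h dvd_rfl))
    set a : (ZMod l)ˣ := Units.mk0 (i : ZMod l) ha0
    have hpow : ∀ b : ZMod l, σ (ξ ^ b.val) = ξ ^ ((a : ZMod l) * b).val := by
      intro b
      rw [map_pow, ← hξi, ← pow_mul, Units.val_mk0, ZMod.val_mul, ZMod.val_natCast, Nat.mod_mul_mod]
      exact pow_eq_pow_mod _ hξ.pow_eq_one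
    have hP : ∀ e : ℤ, σ (P e) = P (χ a * e) := by
      intro e
      simp only [P, map_prod, map_sub, hy, AlgEquiv.commutes]
      have hχa : χ a * χ a = 1 := by rw [← sq]; exact quadraticChar_sq_one a.ne_zero
      refine Finset.prod_bij (fun b _ => (a : ZMod l) * b) ?_ ?_ ?_ ?_
      · intro b hb
        rw [Finset.mem_filter] at hb ⊢
        exact ⟨Finset.mem_univ _, by rw [map_mul, hb.2]⟩
      · intro b _ c _ h
        exact mul_left_cancel₀ a.ne_zero h
      · intro c hc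
        rw [Finset.mem_filter] at hc
        refine ⟨(a⁻¹ : (ZMod l)ˣ) * c, Finset.mem_filter.2 ⟨Finset.mem_univ _, ?_⟩, by rw [← mul_assoc, Units.mul_inv, one_mul]⟩
        have h1 : χ a * χ ((a⁻¹ : (ZMod l)ˣ) * c) = χ a * e := by
          rw [← map_mul, ← mul_assoc, Units.mul_inv, one_mul]; exact hc.2
        exact mul_left_cancel₀ (left_ne_zero_of_mul_eq_one hχa) h1
      · intro b _
        rw [hpow]
    have hgs : σ g = gaussSum χL (AddChar.mulShift ψ (a : ZMod l)) := by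
      simp only [hg, gaussSum, map_sum, map_mul]
      refine Finset.sum_congr rfl fun b _ => ?_
      rw [AddChar.mulShift_apply, hψap, hψap, hpow]
      congr 1
      exact map_intCast σ _
    have hsh := gaussSum_mulShift χL ψ a
    rw [← hgs, ← hg, show χL a = ((χ a : ℤ) : L) from rfl] at hsh
    rcases quadraticChar_dichotomy a.ne_zero with h | h
    · left
      change χ a = 1 at h
      rw [h, Int.cast_one, one_mul] at hsh
      exact ⟨by rw [hP, h, one_mul], by rw [hP, h, one_mul], hsh⟩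
    · right
      change χ a = -1 at h
      rw [h, Int.cast_neg, Int.cast_one, neg_mul, one_mul, neg_eq_iff_eq_neg] at hsh
      exact ⟨by rw [hP, h]; norm_num, by rw [hP, h]; norm_num, hsh⟩
  -- descend
  obtain ⟨u₀, hu₀⟩ : P 1 + P (-1) ∈ Set.range (algebraMap K L) := by
    refine IsGalois.mem_range_algebraMap_iff_fixed (F := K) _ |>.2 fun σ => ?_
    rcases hσ σ with ⟨e1, e2, -⟩ | ⟨e1, e2, -⟩ <;> rw [map_add, e1, e2]
    exact add_comm _ _
  obtain ⟨v₀, hv₀⟩ : (P 1 - P (-1)) / g ∈ Set.range (algebraMap K L) := by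
    refine IsGalois.mem_range_algebraMap_iff_fixed (F := K) _ |>.2 fun σ => ?_
    rcases hσ σ with ⟨e1, e2, e3⟩ | ⟨e1, e2, e3⟩ <;> rw [map_div₀, map_sub, e1, e2, e3]
    rw [div_neg, ← neg_div, neg_sub]
  have hprod : (y - 1) * (P 1 * P (-1)) = y ^ l - 1 := by
    have h := X_pow_sub_one_eq_prod hl.out.pos hξ
    have h2 := congrArg (Polynomial.eval y) h
    simp only [eval_sub, eval_pow, eval_X, eval_one, eval_prod, eval_C] at h2
    rw [h2]
    have h3 : nthRootsFinset l (1 : L) = (Finset.univ : Finset (ZMod l)).image fun b => ξ ^ b.val := by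
      ext z
      rw [Finset.mem_image, mem_nthRootsFinset hl.out.pos]
      constructor
      · intro hz
        obtain ⟨j, hj, hjz⟩ := hξ.eq_pow_of_pow_eq_one hz
        exact ⟨(j : ZMod l), Finset.mem_univ _, by rw [ZMod.val_natCast, Nat.mod_eq_of_lt hj, hjz]⟩
      · rintro ⟨b, -, rfl⟩
        rw [← pow_mul, mul_comm, pow_mul, hξ.pow_eq_one, one_pow]
    rw [h3, Finset.prod_image (fun b _ c _ hbc => ZMod.val_injective l
      (hξ.pow_inj (ZMod.val_lt b) (ZMod.val_lt c) hbc))]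
    rw [← Finset.mul_prod_erase Finset.univ _ (Finset.mem_univ (0 : ZMod l)), ZMod.val_zero, pow_zero]
    congr 1
    rw [← Finset.prod_union]
    · refine Finset.prod_congr (Finset.ext fun b => ?_) fun _ _ => rfl
      simp only [Finset.mem_union, Finset.mem_filter, Finset.mem_univ, true_and, Finset.mem_erase, and_true]
      constructor
      · rintro (h | h) rfl <;> simp [χ] at h
      · exact fun h => quadraticChar_dichotomy h
    · rw [Finset.disjoint_filter]
      intro b _ h1 h2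
      omega
  have hyl : y ^ l * y = 1 := by
    obtain ⟨j, hj⟩ := hdvd
    rw [← pow_succ, hj, pow_mul, hyp, one_pow]
  obtain ⟨c, hc⟩ := hp.out.odd_of_ne_two (by omega)
  have hRR : P 1 * P (-1) = -((y ^ c) ^ 2) := by
    apply mul_left_cancel₀ (sub_ne_zero.2 hy1)
    rw [hprod, ← pow_mul]
    have h1 : y ^ (c * 2) * y = 1 := by rw [← pow_succ, show c * 2 + 1 = p by omega, hyp]
    have hy0 : y ≠ 0 := fun h => by rw [h, mul_zero] at hyl; exact zero_ne_one hyl
    have h2 : y ^ (c * 2) = y ^ l := mul_right_cancel₀ hy0 (h1.trans hyl.symm)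
    rw [h2]
    linear_combination hyl
  have hR1 : P 1 + P (-1) = algebraMap K L u₀ := hu₀.symm
  have hR2 : P 1 - P (-1) = algebraMap K L v₀ * g := by rw [hv₀, div_mul_cancel₀ _ hg0]
  set h := ζ ^ c
  have hh : algebraMap K L h = y ^ c := map_pow _ _ _
  have hh0 : h ≠ 0 := pow_ne_zero _ (hζ.ne_zero hp.out.ne_zero)
  refine ⟨u₀ / (2 * h), v₀ / (2 * h), (algebraMap K L).injective ?_⟩
  have hyc : y ^ c ≠ 0 := by rw [← hh]; exact (_root_.map_ne_zero _).2 hh0
  have e : algebraMap K L u₀ ^ 2 + (l : L) * algebraMap K L v₀ ^ 2 = -(4 * (y ^ c) ^ 2) := by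
    rw [← hR1]
    have : (l : L) * algebraMap K L v₀ ^ 2 = -(P 1 - P (-1)) ^ 2 := by
      rw [hR2, mul_pow, hg2]; ring
    rw [this]
    linear_combination 4 * hRR
  rw [map_neg, map_one, map_add, map_mul, map_pow, map_pow, map_natCast, map_div₀, map_div₀, map_mul,
    map_ofNat, hh]
  rw [div_pow, div_pow, mul_div_assoc', ← add_div, eq_div_iff (pow_ne_zero _ (mul_ne_zero two_ne_zero hyc))]
  linear_combination -e

end Cfsg.Agent.Frobenius
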