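import Mathlib
import Cfsg.Agent.Lib.Frobenius.Nonsolvable
import Cfsg.Agent.Lib.Frobenius.ComplementSL25
import Cfsg.Agent.Lib.Frobenius.Level

/-!
# Amitsur: the non-solvable finite multiplicative groups of division rings

Inside a division ring the span of a copy of `SL(2, 5)` contains a square root `ε` of `5` commuting with the
copy. An element of prime order `p ≥ 7` commuting with the copy, or an element outside normalising it,
produces `w` with `w ^ 2 = 1` that is not central.
-/

set_option autoImplicit false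
set_option linter.style.haveILetI false
set_option linter.unusedSectionVars false

open scoped MatrixGroups

namespace Cfsg.Agent.SL25Facts

/-- An element of order four. -/
def qa : SL(2, ZMod 5) := ⟨!![0, 1; 4, 0], by decide⟩
/-- An element of order four anticommuting with `qa`. -/
def qb : SL(2, ZMod 5) := ⟨!![0, 2; 2, 0], by decide⟩
/-- An element of order four; `qa * qc` has order five and `qb * qc` order three. -/
def qc : SL(2, ZMod 5) := ⟨!![2, 0; 2, 3], by decide⟩
/-- An element conjugating `(x₀ * y₂) ^ 2` to the square of `(x₀ * y₁) ^ 2`. -/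
def qg : SL(2, ZMod 5) := ⟨!![1, 0; 3, 1], by decide⟩

theorem quat_facts :
    qa * qa = -1 ∧ qb * qb = -1 ∧ qc * qc = -1 ∧ qa * qb = -1 * (qb * qa) ∧
    (qb * qc) ^ 3 = 1 ∧ qb * qc ≠ 1 ∧ qa * qc = (x₀ * y₁) ^ 2 ∧ x₀ = qc * qb ∧ y₁ = qb * qa * qc * qa ∧
    qg * (x₀ * y₂) ^ 2 * qg⁻¹ = ((x₀ * y₁) ^ 2) ^ 2 := by
  decide +kernel

theorem centralizer_x₀_facts : ∀ q : SL(2, ZMod 5), q * x₀ = x₀ * q → q ^ 3 = 1 ∨ q ^ 3 = -1 := by
  decide +kernel

end Cfsg.Agent.SL25Facts

namespace Cfsg.Agent.DivSL25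

open SL25Facts

variable {D : Type*} [DivisionRing D]

theorem geom_eq_zero {X : D} {n : ℕ} (hn : X ^ n = 1) (h1 : X ≠ 1) :
    ∑ i ∈ Finset.range n, X ^ i = 0 :=
  (mul_eq_zero.1 ((geom_sum_mul X n).trans (by rw [hn, sub_self]))).resolve_right (sub_ne_zero.2 h1)

/-- A square root of one which commutes with `A` and `B`, a pair of anticommuting square roots of `-1`. -/
theorem false_of_quaternion [CharZero D] {A B U V c d : D} (l : D)
    (hA : A * A = -1) (hB : B * B = -1) (hAB : A * B = -(B * A))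
    (hUA : Commute U A) (hUB : Commute U B) (hVA : Commute V A) (hVB : Commute V B)
    (hcA : Commute c A) (hcB : Commute c B) (hdA : Commute d A) (hdB : Commute d B)
    (hUV : Commute U V) (hUc : Commute U c) (hUd : Commute U d) (hVc : Commute V c) (hVd : Commute V d)
    (hcd : Commute c d) (hl : c * c + d * d = l) (h : -1 = U * U + l * (V * V)) : False := by
  set S := c * B + d * (A * B) with hS
  have hA0 : A ≠ 0 := fun h0 => by rw [h0, zero_mul] at hA; exact one_ne_zero (neg_eq_zero.1 hA.symm)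
  have hB0 : B ≠ 0 := fun h0 => by rw [h0, zero_mul] at hB; exact one_ne_zero (neg_eq_zero.1 hB.symm)
  have hBA : B * A = -(A * B) := by rw [hAB, neg_neg]
  have hAS : A * S = -(S * A) := by
    have h1 : A * (c * B) = -(c * B * A) := by
      rw [← mul_assoc, ← hcA.eq, mul_assoc, hAB, mul_neg, mul_assoc]
    have h2 : A * (d * (A * B)) = -(d * (A * B) * A) := by
      rw [← mul_assoc, ← hdA.eq, mul_assoc, mul_assoc d (A * B) A, mul_assoc A B A, hBA, mul_neg, mul_neg, neg_neg]
    rw [hS, mul_add, add_mul, h1, h2]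
    abel
  have hdAB : Commute d (A * B) := hdA.mul_right hdB
  have hcAB : Commute c (A * B) := hcA.mul_right hcB
  have e4 : (A * B) * (A * B) = -1 := by
    rw [mul_assoc, ← mul_assoc B A B, hBA, neg_mul, mul_neg, mul_assoc A B B, hB, mul_neg, mul_one,
      mul_neg, neg_neg, hA]
  have e5 : B * (A * B) + (A * B) * B = 0 := by
    rw [← mul_assoc, hBA, neg_mul, neg_add_cancel]
  have hSS : S * S = -l := by
    have h1 : c * B * (c * B) = -(c * c) := by rw [hcB.symm.mul_mul_mul_comm, hB, mul_neg_one]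
    have h2 : d * (A * B) * (d * (A * B)) = -(d * d) := by rw [hdAB.symm.mul_mul_mul_comm, e4, mul_neg_one]
    have h3 : c * B * (d * (A * B)) = c * d * (B * (A * B)) := hdB.symm.mul_mul_mul_comm c (A * B)
    have h4 : d * (A * B) * (c * B) = c * d * ((A * B) * B) := by
      rw [hcAB.symm.mul_mul_mul_comm, hcd.eq]
    rw [hS, add_mul, mul_add, mul_add, h1, h2, h3, h4, ← hl]
    calc -(c * c) + c * d * (B * (A * B)) + (c * d * (A * B * B) + -(d * d))
        = c * d * (B * (A * B) + A * B * B) - (c * c + d * d) := by noncomm_ring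
      _ = -(c * c + d * d) := by rw [e5, mul_zero, zero_sub]
  have hVS : Commute V S := (hVc.mul_right hVB).add_right (hVd.mul_right (hVA.mul_right hVB))
  have hUS : Commute U S := (hUc.mul_right hUB).add_right (hUd.mul_right (hUA.mul_right hUB))
  set w := U * A + V * S with hw
  have hww : w * w = 1 := by
    have h1 : U * A * (U * A) = -(U * U) := by rw [hUA.symm.mul_mul_mul_comm, hA, mul_neg_one]
    have h2 : V * S * (V * S) = -(l * (V * V)) := by
      rw [hVS.symm.mul_mul_mul_comm, hSS, mul_neg]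
      have hVl : Commute V l := hl ▸ (hVc.mul_right hVc).add_right (hVd.mul_right hVd)
      rw [(hVl.mul_left hVl).eq]
    have h3 : U * A * (V * S) = U * V * (A * S) := hVA.symm.mul_mul_mul_comm U S
    have h4 : V * S * (U * A) = U * V * (S * A) := by rw [hUS.symm.mul_mul_mul_comm, hUV.eq]
    rw [hw]
    clear_value S
    rw [add_mul, mul_add, mul_add, h1, h2, h3, h4, hAS]
    calc -(U * U) + U * V * -(S * A) + (U * V * (S * A) + -(l * (V * V)))
        = -(U * U + l * (V * V)) := by noncomm_ring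
      _ = 1 := by rw [← h, neg_neg]
  have hwc : ∀ X : D, X * w = w * X := by
    intro X
    rcases mul_self_eq_one_iff.1 hww with h' | h' <;> rw [h'] <;> simp
  have hVS0 : V * S = 0 := by
    have h1 := hwc A
    rw [hw, mul_add, add_mul, ← mul_assoc A U A, ← hUA.eq, ← mul_assoc A V S, ← hVA.eq, add_right_inj,
      mul_assoc, mul_assoc, hAS, mul_neg, neg_eq_iff_add_eq_zero, ← two_mul, mul_eq_zero] at h1
    have h2 := h1.resolve_left two_ne_zero
    rw [← mul_assoc, mul_eq_zero] at h2
    exact h2.resolve_right hA0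
  have hwU : w = U * A := by rw [hw, hVS0, add_zero]
  have hU0 : U = 0 := by
    have h1 := hwc B
    rw [hwU, ← mul_assoc, ← hUB.eq, mul_assoc, mul_assoc, hBA, mul_neg, neg_eq_iff_add_eq_zero, ← two_mul,
      mul_eq_zero] at h1
    have h2 := h1.resolve_left two_ne_zero
    exact (mul_eq_zero.1 h2).resolve_right (mul_ne_zero hA0 hB0)
  rw [hwU, hU0, zero_mul, zero_mul] at hww
  exact zero_ne_one hww

variable {G : Type*} [Group G]

/-- The elements mapped to commute with a given one. -/
def commSubgroup (ι : G →* D) (X : D) : Subgroup G where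
  carrier := {g | Commute (ι g) X}
  mul_mem' := fun {a b} ha hb => by
    show Commute (ι (a * b)) X
    rw [map_mul]
    exact Commute.mul_left ha hb
  one_mem' := by show Commute (ι 1) X; rw [map_one]; exact Commute.one_left X
  inv_mem' := fun {a} ha => by
    show Commute (ι a⁻¹) X
    rw [map_inv]
    exact Commute.inv_left₀ ha

/-- A finite non-commutative subgroup of units forces characteristic zero. -/
theorem charZero_of_noncomm [Finite G] (ι : G →* D) {a b : G} (hab : ι a * ι b ≠ ι b * ι a) : CharZero D := by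
  obtain ⟨r, hr⟩ := CharP.exists D
  rcases CharP.char_is_prime_or_zero D r with hp | rfl
  · exfalso
    classical
    haveI := Fact.mk hp
    haveI := Fintype.ofFinite G
    set T := (AddSubgroup.closure (Set.range ι) : AddSubgroup D) with hT
    have hfin : (T : Set D).Finite := by
      refine (Set.finite_range fun c : G → Fin r => ∑ g, ((c g : ℕ) : D) * ι g).subset ?_
      intro z hz
      refine AddSubgroup.closure_induction (fun z hz => ?_) ?_ (fun x y _ _ hx hy => ?_) (fun x _ hx => ?_) hz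
      · obtain ⟨g, rfl⟩ := hz
        refine ⟨fun h => if h = g then ⟨1, hp.one_lt⟩ else ⟨0, hp.pos⟩, ?_⟩
        show ∑ h, ((((if h = g then ⟨1, hp.one_lt⟩ else ⟨0, hp.pos⟩ : Fin r)) : ℕ) : D) * ι h = ι g
        rw [Finset.sum_eq_single g]
        · simp
        · intro h _ hne; simp [hne]
        · intro h; exact absurd (Finset.mem_univ g) h
      · exact ⟨fun _ => ⟨0, hp.pos⟩, by simp⟩
      · obtain ⟨c, rfl⟩ := hx
        obtain ⟨d, rfl⟩ := hy
        refine ⟨fun g => ⟨((c g : ℕ) + d g) % r, Nat.mod_lt _ hp.pos⟩, ?_⟩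
        simp only [← Finset.sum_add_distrib, ← add_mul]
        refine Finset.sum_congr rfl fun g _ => ?_
        rw [← Nat.cast_add, (CharP.natCast_eq_natCast D r).2 (Nat.mod_modEq _ _)]
      · obtain ⟨c, rfl⟩ := hx
        refine ⟨fun g => ⟨(r - (c g : ℕ)) % r, Nat.mod_lt _ hp.pos⟩, ?_⟩
        simp only [← Finset.sum_neg_distrib, ← neg_mul]
        refine Finset.sum_congr rfl fun g _ => ?_
        rw [(CharP.natCast_eq_natCast D r).2 (Nat.mod_modEq _ _), Nat.cast_sub (c g).2.le, CharP.cast_eq_zero D r,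
          zero_sub]
    have hmul : ∀ x ∈ T, ∀ y ∈ T, x * y ∈ T := by
      intro x hx y hy
      refine AddSubgroup.closure_induction (p := fun x _ => x * y ∈ T) (fun x hx => ?_) ?_
        (fun u v _ _ hu hv => ?_) (fun u _ hu => ?_) hx
      · refine AddSubgroup.closure_induction (p := fun y _ => x * y ∈ T) (fun y hy => ?_) ?_
          (fun u v _ _ hu hv => ?_) (fun u _ hu => ?_) hy
        · obtain ⟨g, rfl⟩ := hx
          obtain ⟨g', rfl⟩ := hy
          exact AddSubgroup.subset_closure ⟨g * g', map_mul ι g g'⟩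
        · simp
        · rw [mul_add]; exact add_mem hu hv
        · rw [mul_neg]; exact neg_mem hu
      · simp
      · rw [add_mul]; exact add_mem hu hv
      · rw [neg_mul]; exact neg_mem hu
    let R : Subring D :=
      { T with
        one_mem' := AddSubgroup.subset_closure ⟨1, map_one ι⟩
        mul_mem' := fun {x y} hx hy => hmul x hx y hy }
    haveI : Finite R := hfin.to_subtype
    letI := Fintype.ofFinite R
    letI : DecidableEq R := Classical.decEq _
    obtain ⟨-, hcomm⟩ : True ∧ ∀ a b : R, a * b = b * a := ⟨trivial, fun a b => (Finite.isDomain_to_isField R).mul_comm a b⟩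
    exact hab (congrArg Subtype.val (hcomm (⟨ι a, AddSubgroup.subset_closure ⟨a, rfl⟩⟩ : R)
      ⟨ι b, AddSubgroup.subset_closure ⟨b, rfl⟩⟩))
  · exact CharP.charP_to_charZero D

/-- The image of a quaternion triple and the square root of five. -/
theorem exists_root_five [CharZero D] (ι : G →* D) (hι : Function.Injective ι) (e : SL(2, ZMod 5) →* G)
    (he : Function.Injective e) (hgen : Subgroup.closure {e x₀, e y₁} = e.range) :
    ι (e (-1)) = -1 ∧ ∃ E : D, E * E + E - 1 = 0 ∧ E = ι (e ((x₀ * y₁) ^ 2)) + ι (e ((x₀ * y₁) ^ 2)) ^ 4 ∧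
      (∀ g ∈ e.range, Commute (ι g) E) := by
  obtain ⟨ha, hb, hc, hab, hbc3, hbc1, hac, hx0, hy1, -⟩ := quat_facts
  set j := ι.comp e with hj
  have hjinj : Function.Injective j := hι.comp he
  have hm1 : j (-1) = -1 := by
    have h2 : j (-1) * j (-1) = 1 := by rw [← map_mul, neg_mul_neg, mul_one, map_one]
    refine (mul_self_eq_one_iff.1 h2).resolve_left fun h => gen_facts.2.1 (hjinj (h.trans (map_one j).symm))
  refine ⟨hm1, _, ?_, rfl, ?_⟩
  · obtain ⟨f5, f1, -⟩ := five_facts
    set F := j ((x₀ * y₁) ^ 2) with hF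
    have hF5 : F ^ 5 = 1 := by rw [hF, ← map_pow, f5, map_one]
    have hF1 : F ≠ 1 := fun h => f1 (hjinj (h.trans (map_one j).symm))
    have hsum := geom_eq_zero hF5 hF1
    simp only [Finset.sum_range_succ, Finset.sum_range_zero, zero_add, pow_zero, pow_one] at hsum
    show (F + F ^ 4) * (F + F ^ 4) + (F + F ^ 4) - 1 = 0
    calc (F + F ^ 4) * (F + F ^ 4) + (F + F ^ 4) - 1
        = F ^ 2 + F ^ 5 + F ^ 5 + F ^ 5 * F ^ 3 + F + F ^ 4 - 1 := by noncomm_ring
      _ = 1 + F + F ^ 2 + F ^ 3 + F ^ 4 := by rw [hF5, one_mul]; abel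
      _ = 0 := hsum
  · set A := j qa with hA'
    set B := j qb with hB'
    set C := j qc with hC'
    have hA : A * A = -1 := by rw [hA', ← map_mul, ha, hm1]
    have hB : B * B = -1 := by rw [hB', ← map_mul, hb, hm1]
    have hC : C * C = -1 := by rw [hC', ← map_mul, hc, hm1]
    have hAB : A * B = -(B * A) := by rw [hA', hB', ← map_mul, hab, map_mul, hm1, neg_one_mul, map_mul]
    have hF : j ((x₀ * y₁) ^ 2) = A * C := by rw [← hac, map_mul]
    have hAi : A * -A = 1 := by rw [mul_neg, hA, neg_neg]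
    have hE : ι (e ((x₀ * y₁) ^ 2)) + ι (e ((x₀ * y₁) ^ 2)) ^ 4 = A * C + C * A := by
      show j _ + j _ ^ 4 = _
      rw [hF]
      congr 1
      have h5 : (A * C) ^ 4 * (A * C) = 1 := by
        rw [← pow_succ, ← hF, ← map_pow, five_facts.1, map_one]
      have h6 : (A * C) * (C * A) = 1 := by
        rw [mul_assoc, ← mul_assoc C C A, hC, neg_one_mul, mul_neg, hA, neg_neg]
      exact left_inv_eq_right_inv h5 h6
    have hBC : B * C + C * B = -1 := by
      have hw3 : (B * C) ^ 3 = 1 := by rw [hB', hC', ← map_mul, ← map_pow, hbc3, map_one]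
      have hw1 : B * C ≠ 1 := fun h => hbc1 (hjinj (by rw [map_mul, map_one]; exact h))
      have hsum := geom_eq_zero hw3 hw1
      simp only [Finset.sum_range_succ, Finset.sum_range_zero, zero_add, pow_zero, pow_one] at hsum
      have h6 : (B * C) * (C * B) = 1 := by
        rw [mul_assoc, ← mul_assoc C C B, hC, neg_one_mul, mul_neg, hB, neg_neg]
      have h2 : (B * C) ^ 2 = C * B :=
        left_inv_eq_right_inv (by rw [← pow_succ]; exact hw3) h6
      rw [h2] at hsum
      linear_combination (norm := abel) hsum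
    rw [hE]
    have cA : Commute A (A * C + C * A) := by
      show A * (A * C + C * A) = (A * C + C * A) * A
      calc A * (A * C + C * A) = A * A * C + A * C * A := by noncomm_ring
        _ = A * C * A + C * (A * A) := by rw [hA, neg_one_mul, mul_neg_one]; abel
        _ = _ := by noncomm_ring
    have cC : Commute C (A * C + C * A) := by
      show C * (A * C + C * A) = (A * C + C * A) * C
      calc C * (A * C + C * A) = C * A * C + C * C * A := by noncomm_ring
        _ = A * (C * C) + C * A * C := by rw [hC, neg_one_mul, mul_neg_one]; abel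
        _ = _ := by noncomm_ring
    have cB : Commute B (A * C + C * A) := by
      show B * (A * C + C * A) = (A * C + C * A) * B
      have hBA : B * A = -(A * B) := by rw [hAB, neg_neg]
      have hBC' : B * C = -1 - C * B := eq_sub_of_add_eq hBC
      calc B * (A * C + C * A) = (B * A) * C + (B * C) * A := by noncomm_ring
        _ = -(A * (B * C)) + (-1 - C * B) * A := by rw [hBA, hBC']; noncomm_ring; rw [hBC']; noncomm_ring
        _ = -(A * (-1 - C * B)) + (-A - C * (B * A)) := by rw [hBC']; noncomm_ring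
        _ = -(A * (-1 - C * B)) + (-A - C * -(A * B)) := by rw [hBA]
        _ = _ := by noncomm_ring
    intro g hg
    have hle : e.range ≤ commSubgroup ι (A * C + C * A) := by
      rw [← hgen, Subgroup.closure_le]
      rintro z (rfl | rfl)
      · show Commute (j x₀) _
        rw [hx0, map_mul]
        exact cC.mul_left cB
      · show Commute (j y₁) _
        rw [hy1, map_mul, map_mul, map_mul]
        exact ((cB.mul_left cA).mul_left cC).mul_left cA
    exact hle hg

theorem no_centralizing [CharZero D] (ι : G →* D) (hι : Function.Injective ι) (e : SL(2, ZMod 5) →* G)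
    (he : Function.Injective e) (hgen : Subgroup.closure {e x₀, e y₁} = e.range)
    {z : G} (hz : z ∈ Subgroup.centralizer (e.range : Set G)) {p : ℕ} (hp : p.Prime) (h7 : 7 ≤ p)
    (hzo : orderOf z = p) : False := by
  haveI := Fact.mk hp
  obtain ⟨hm1, E, hE2, hEdef, hEc⟩ := exists_root_five ι hι e he hgen
  obtain ⟨l, hl, h20, hdvd⟩ := Frobenius.exists_prime_aux hp h7
  have hl3 : 3 < l := by
    have := Nat.le_of_dvd (Nat.succ_pos l) hdvd
    omega
  obtain ⟨x, y, hxy⟩ := Frobenius.exists_sq_add_five_sq hl h20 hl3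
  haveI := Fact.mk hl
  haveI : IsCyclotomicExtension {p} ℚ (CyclotomicField p ℚ) := CyclotomicField.isCyclotomicExtension p ℚ
  set K := CyclotomicField p ℚ
  obtain ⟨u, v, huv⟩ : ∃ u v : K, -1 = u ^ 2 + (l : K) * v ^ 2 :=
    Frobenius.exists_neg_one_eq (p := p) (l := l) (by omega) (by omega) hdvd
  have hζ := IsCyclotomicExtension.zeta_spec p ℚ K
  have hZp : ι z ^ p = 1 := by rw [← map_pow, ← hzo, pow_orderOf_eq_one, map_one]
  have hZ1 : ι z ≠ 1 := fun h => hp.ne_one (by
    rw [← hzo, hι (h.trans (map_one ι).symm), orderOf_one])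
  let pb := hζ.powerBasis ℚ
  let ψ : K →ₐ[ℚ] D := pb.lift (ι z) (by
    rw [IsPrimitiveRoot.powerBasis_gen, ← Polynomial.cyclotomic_eq_minpoly_rat hζ hp.pos,
      Polynomial.cyclotomic_prime, map_sum]
    simp only [map_pow, Polynomial.aeval_X]
    exact geom_eq_zero hZp hZ1)
  have hψc : ∀ X : D, Commute (ι z) X → ∀ t : K, Commute (ψ t) X := by
    intro X hX t
    have hle : Algebra.adjoin ℚ {pb.gen} ≤ (Subalgebra.centralizer ℚ {X}).comap ψ := by
      rw [Algebra.adjoin_le_iff, Set.singleton_subset_iff, SetLike.mem_coe, Subalgebra.mem_comap,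
        PowerBasis.lift_gen, Subalgebra.mem_centralizer_iff]
      rintro _ rfl
      exact hX.symm.eq
    rw [pb.adjoin_gen_eq_top] at hle
    have ht := hle (Algebra.mem_top (x := t))
    rw [Subalgebra.mem_comap, Subalgebra.mem_centralizer_iff] at ht
    exact (ht X rfl).symm
  have hzc : ∀ q, Commute (ι z) (ι (e q)) := fun q => by
    show ι z * ι (e q) = ι (e q) * ι z
    rw [← map_mul, ← map_mul]
    exact congrArg ι (Subgroup.mem_centralizer_iff.1 hz _ ⟨q, rfl⟩).symm
  have hzE : Commute (ι z) E := by rw [hEdef]; exact (hzc _).add_right ((hzc _).pow_right 4)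
  obtain ⟨ha, hb, -, hab, -⟩ := quat_facts
  set A := ι (e qa)
  set B := ι (e qb)
  have hA : A * A = -1 := by rw [← map_mul, ← map_mul, ha, hm1]
  have hB : B * B = -1 := by rw [← map_mul, ← map_mul, hb, hm1]
  have hAB : A * B = -(B * A) := by
    rw [← map_mul, ← map_mul, hab, map_mul, map_mul, hm1, neg_one_mul, map_mul, map_mul]
  set r := 1 + 2 * E with hr
  have hrr : r * r = 5 := by
    have h1 : r * r = 1 + 4 * (E * E + E) := by rw [hr]; noncomm_ring
    rw [h1, sub_eq_zero.1 hE2]
    norm_num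
  have hrX : ∀ X : D, Commute X E → Commute X r := fun X h =>
    (Commute.one_right X).add_right ((Commute.ofNat_right X 2).mul_right h)
  set c := ((x : D) + (y : D) * r) * (2 : D)⁻¹ with hc
  set d := ((x : D) - (y : D) * r) * (2 : D)⁻¹ with hd
  have hX : ∀ X : D, Commute X E → Commute X c ∧ Commute X d := fun X h => by
    have h2 : Commute X (2 : D)⁻¹ := (Commute.ofNat_right X 2).inv_right₀
    have h3 : Commute X ((y : D) * r) := (Int.commute_cast X y).mul_right (hrX X h)
    exact ⟨((Int.commute_cast X x).add_right h3).mul_right h2, ((Int.commute_cast X x).sub_right h3).mul_right h2⟩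
  have hAE : Commute A E := hEc _ ⟨_, rfl⟩
  have hBE : Commute B E := hEc _ ⟨_, rfl⟩
  have hcd : Commute c d := ((hX c (hX E (Commute.refl E)).1.symm).2)
  have hl' : c * c + d * d = (l : D) := by
    have h2 : ∀ s : D, s * (2 : D)⁻¹ * (s * (2 : D)⁻¹) = s * s * ((2 : D)⁻¹ * (2 : D)⁻¹) := fun s =>
      ((Commute.ofNat_left 2 s).inv_left₀).mul_mul_mul_comm s _
    have hyr : Commute (y : D) r := Int.cast_commute y r
    have h3 : ((x : D) + (y : D) * r) * ((x : D) + (y : D) * r) + ((x : D) - (y : D) * r) * ((x : D) - (y : D) * r)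
        = 2 * ((x : D) * x + (y : D) * r * ((y : D) * r)) := by noncomm_ring
    have h4 : (y : D) * r * ((y : D) * r) = ((y * y * 5 : ℤ) : D) := by
      rw [hyr.symm.mul_mul_mul_comm, hrr]; push_cast; rfl
    rw [hc, hd, h2, h2, ← add_mul, h3, h4, ← Int.cast_mul, ← Int.cast_add,
      show x * x + y * y * 5 = 2 * (l : ℤ) by linarith]
    push_cast
    rw [← mul_assoc (2 : D) 2, mul_assoc _ (l : D), ← (Nat.cast_commute l ((2 : D)⁻¹ * (2 : D)⁻¹)).eq.symm,
      ← mul_assoc, mul_assoc (2 : D) 2, ← mul_assoc (2 : D) (2 : D)⁻¹, mul_inv_cancel₀ two_ne_zero, one_mul,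
      mul_inv_cancel₀ two_ne_zero, one_mul]
  refine false_of_quaternion (l : D) hA hB hAB (hψc A (hzc _) u) (hψc B (hzc _) u) (hψc A (hzc _) v)
    (hψc B (hzc _) v) (hX A hAE).1.symm (hX B hBE).1.symm (hX A hAE).2.symm (hX B hBE).2.symm
    (hψc _ (hψc _ (Commute.refl (ι z)) v).symm u) (hX _ (hψc E hzE u)).1 (hX _ (hψc E hzE u)).2
    (hX _ (hψc E hzE v)).1 (hX _ (hψc E hzE v)).2 hcd hl' ?_
  rw [← map_mul, ← map_mul, ← map_natCast ψ l, ← map_mul, ← map_add, ← pow_two, ← pow_two]
  exact ((congrArg ψ huv).symm.trans (by rw [map_neg, map_one])).symm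

set_option maxHeartbeats 1000000 in
theorem no_outer [CharZero D] (ι : G →* D) (hι : Function.Injective ι) (e : SL(2, ZMod 5) →* G)
    (he : Function.Injective e) (hgen : Subgroup.closure {e x₀, e y₁} = e.range)
    {t : G} {q : SL(2, ZMod 5)} (ht2 : t ^ 2 = e (-1)) (hqx : q * x₀ = x₀ * q)
    (htx : t * e x₀ * t⁻¹ = e x₀) (hty : t * e y₁ * t⁻¹ = e (q * y₂ * q⁻¹)) : False := by
  obtain ⟨hm1, E, hE2, hEdef, hEc⟩ := exists_root_five ι hι e he hgen
  obtain ⟨-, -, -, -, -, -, -, -, -, hg⟩ := quat_facts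
  set f := (x₀ * y₁) ^ 2 with hf
  obtain ⟨k, hk⟩ : ∃ k, k = q * qg⁻¹ := ⟨_, rfl⟩
  have h1 : t * e f * t⁻¹ = e (k * f ^ 2 * k⁻¹) := by
    rw [hf, map_pow, ← conj_pow, map_mul,
      show t * (e x₀ * e y₁) * t⁻¹ = (t * e x₀ * t⁻¹) * (t * e y₁ * t⁻¹) by group, htx, hty, ← map_mul, ← map_pow]
    refine congrArg e ?_
    rw [show x₀ * (q * y₂ * q⁻¹) = q * (x₀ * y₂) * q⁻¹ by rw [← mul_assoc, ← mul_assoc, ← hqx, mul_assoc q x₀ y₂],
      conj_pow, ← hg, hk]
    group
  set F := ι (e f) with hF
  set T := ι t with hT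
  set k' := ι (e k)
  have hkk : k' * ι (e k⁻¹) = 1 := by rw [← map_mul, ← map_mul, mul_inv_cancel, map_one, map_one]
  have hkk' : ι (e k⁻¹) * k' = 1 := by rw [← map_mul, ← map_mul, inv_mul_cancel, map_one, map_one]
  have hTi : T * ι t⁻¹ = 1 := by rw [← map_mul, mul_inv_cancel, map_one]
  have hTi' : ι t⁻¹ * T = 1 := by rw [← map_mul, inv_mul_cancel, map_one]
  have hTF : T * F * ι t⁻¹ = k' * F ^ 2 * ι (e k⁻¹) := by
    show ι t * ι (e f) * ι t⁻¹ = ι (e k) * ι (e f) ^ 2 * ι (e k⁻¹)
    rw [← map_mul, ← map_mul, h1, map_mul, map_mul, map_mul, map_mul, map_pow e f 2, map_pow ι (e f) 2]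
  obtain ⟨f5, f1, -⟩ := five_facts
  have hF5 : F ^ 5 = 1 := by rw [hF, ← map_pow, ← map_pow, hf, f5, map_one, map_one]
  have hF1 : F ≠ 1 := fun h => f1 (he (hι (by rw [← hF, h, map_one, map_one])))
  have hsum := geom_eq_zero hF5 hF1
  simp only [Finset.sum_range_succ, Finset.sum_range_zero, zero_add, pow_zero, pow_one] at hsum
  have hcp : ∀ {a b X : D} (n : ℕ), b * a = 1 → a * b = 1 → (a * X * b) ^ n = a * X ^ n * b := by
    intro a b X n hba hab'
    induction n with
    | zero => rw [pow_zero, pow_zero, mul_one, hab']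
    | succ n ih =>
      rw [pow_succ, ih, pow_succ]
      calc a * X ^ n * b * (a * X * b) = a * X ^ n * (b * a) * X * b := by noncomm_ring
        _ = _ := by rw [hba, mul_one]; noncomm_ring
  have hTE : T * E * ι t⁻¹ = -1 - E := by
    have hkE : k' * (-1 - E) = (-1 - E) * k' := by
      exact ((Commute.one_right k').neg_right.sub_right (hEc _ ⟨_, rfl⟩)).eq
    have hEF : E = F + F ^ 4 := hEdef
    have h8 : (F ^ 2) ^ 4 = F ^ 3 := by rw [← pow_mul, show 2 * 4 = 5 + 3 from rfl, pow_add, hF5, one_mul]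
    calc T * E * ι t⁻¹ = T * F * ι t⁻¹ + T * F ^ 4 * ι t⁻¹ := by rw [hEF]; noncomm_ring
      _ = T * F * ι t⁻¹ + (T * F * ι t⁻¹) ^ 4 := by rw [hcp 4 hTi' hTi]
      _ = k' * (F ^ 2 + F ^ 3) * ι (e k⁻¹) := by rw [hTF, hcp 4 hkk' hkk, h8]; noncomm_ring
      _ = k' * (-1 - E) * ι (e k⁻¹) := by
        congr 2
        rw [hEF, eq_sub_iff_add_eq, eq_neg_iff_add_eq_zero, ← hsum]
        abel
      _ = -1 - E := by rw [hkE, mul_assoc, hkk, mul_one]
  set r := 1 + 2 * E with hr
  have hrr : r * r = 5 := by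
    have h1 : r * r = 1 + 4 * (E * E + E) := by rw [hr]; noncomm_ring
    rw [h1, sub_eq_zero.1 hE2]
    norm_num
  have hTT : T * T = -1 := by rw [hT, ← map_mul, ← sq, ht2, hm1]
  have hTr : T * r = -(r * T) := by
    have h2 : T * E = (-1 - E) * T := by
      rw [← hTE, mul_assoc, hTi', mul_one]
    rw [hr, mul_add, mul_one, ← mul_assoc, (Commute.ofNat_right T 2).eq, mul_assoc, h2]
    noncomm_ring
  have hw : (2 * T + r) * (2 * T + r) = 1 := by
    calc (2 * T + r) * (2 * T + r) = 4 * (T * T) + 2 * (T * r + r * T) + r * r := by noncomm_ring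
      _ = 1 := by rw [hTT, hrr, hTr, neg_add_cancel]; norm_num
  have hc : T * (2 * T + r) = (2 * T + r) * T := by
    rcases mul_self_eq_one_iff.1 hw with h | h <;> rw [h] <;> simp
  rw [mul_add, add_mul, ← mul_assoc T 2 T, (Commute.ofNat_right T 2).eq, add_right_inj, hTr,
    neg_eq_iff_add_eq_zero, ← two_mul, mul_eq_zero] at hc
  have h0 := hc.resolve_left two_ne_zero
  rcases mul_eq_zero.1 h0 with h | h
  · rw [h, zero_mul] at hrr; norm_num at hrr
  · rw [h, zero_mul] at hTT; norm_num at hTT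

end Cfsg.Agent.DivSL25
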